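/-
Facts about M22: elements of order three, involutions, and symmetries of a Sylow 2-subgroup.
-/
import Cfsg.Agent.Lib.JankoFour.SevenModel
import Cfsg.Agent.Lib.JankoFour.M22Three
import Cfsg.Agent.Lib.JankoFour.M22More
import Cfsg.Agent.Lib.Golay.Mathieu
import Cfsg.Agent.Lib.Basic

set_option autoImplicit false

namespace CfsgLib.JankoSix

open Cfsg CfsgGolay CfsgLib.JankoFour
open scoped Pointwise

attribute [local irreducible] codeL octadL dodecadL slpCodes

local notation "M" => MTwoTwo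

theorem simple_M : IsSimpleGroup M := CfsgGolay.isSimple_sporM22

theorem card_M : Nat.card M = 443520 := CfsgGolay.card_sporM22

/-- Elements of order three are conjugate. -/
theorem three_conj {r r' : M} (hr : r ^ 3 = 1) (hr1 : r ≠ 1) (hr' : r' ^ 3 = 1) (hr1' : r' ≠ 1) :
    ∃ h : M, h * r * h⁻¹ = r' := by
  have : Fact (Nat.Prime 3) := ⟨by norm_num⟩
  obtain ⟨R, hR, hrR⟩ := exists_nine hr
  obtain ⟨R', hR', hrR'⟩ := exists_nine hr'
  have hpow : ∀ R'' : Subgroup M, Nat.card R'' = 9 → Nat.card R'' = 3 ^ (Nat.card M).factorization 3 :=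
    fun R'' h => by rw [h, factorization_M22.2]; norm_num
  obtain ⟨h, hh⟩ := MulAction.exists_smul_eq M (Sylow.ofCard R (hpow _ hR)) (Sylow.ofCard R' (hpow _ hR'))
  have he : R' = R.map (MulAut.conj h).toMonoidHom := by
    have := congrArg (fun S : Sylow 3 M => (S : Subgroup M)) hh
    simp only [Sylow.coe_subgroup_smul, Subgroup.pointwise_smul_def, Sylow.coe_ofCard] at this
    exact this.symm
  have hm : h * r * h⁻¹ ∈ R' := he ▸ ⟨r, hrR, rfl⟩
  obtain ⟨n, -, hn⟩ := (nine_facts hR').2.2.1 _ hm r' hrR' (fun e => hr1 (conj_eq_one_iff.mp e)) hr1'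
  exact ⟨n * h, by rw [← hn]; group⟩

/-- The centraliser of an involution has order dividing 384. -/
theorem cent_invol {b : M} (hbb : b * b = 1) (hb1 : b ≠ 1) :
    Nat.card ↥(Subgroup.centralizer ({b} : Set M)) ∣ 384 := by
  set C := Subgroup.centralizer ({b} : Set M)
  have hdvd : Nat.card C ∣ 384 * 1155 := by
    have := Subgroup.card_subgroup_dvd_card C
    rw [card_M] at this
    rwa [show 384 * 1155 = 443520 by norm_num]
  have el : ∀ p : ℕ, [Fact p.Prime] → p ∣ Nat.card C → ∃ x : M, x ^ p = 1 ∧ x ≠ 1 ∧ x * b = b * x := by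
    intro p _ h
    obtain ⟨x, hx⟩ := exists_prime_orderOf_dvd_card' p h
    rw [← Subgroup.orderOf_coe] at hx
    refine ⟨x, hx ▸ pow_orderOf_eq_one _, fun e => ?_, Subgroup.mem_centralizer_singleton_iff.mp x.2⟩
    rw [e, orderOf_one] at hx
    exact (Fact.out : p.Prime).ne_one hx.symm
  have : Fact (Nat.Prime 5) := ⟨by norm_num⟩
  have : Fact (Nat.Prime 7) := ⟨by norm_num⟩
  have : Fact (Nat.Prime 11) := ⟨by norm_num⟩
  have n5 : ¬ 5 ∣ Nat.card C := fun h => by
    obtain ⟨x, hx, hx1, hxb⟩ := el 5 h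
    obtain ⟨k, hk⟩ := Subgroup.mem_zpowers_iff.mp (five_self hx hx1 hxb.symm)
    apply hb1
    have h5 : b ^ (5 : ℕ) = 1 := by
      rw [← hk, ← zpow_natCast, ← zpow_mul, mul_comm, zpow_mul, zpow_natCast, hx, one_zpow]
    simp only [pow_succ, pow_zero, one_mul, hbb] at h5
    exact h5
  have n7 : ¬ 7 ∣ Nat.card C := fun h => by
    obtain ⟨x, hx, hx1, hxb⟩ := el 7 h
    exact hx1 (invol_large hbb hb1 (by norm_num : Nat.Prime 7) le_rfl hx hxb)
  have n11 : ¬ 11 ∣ Nat.card C := fun h => by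
    obtain ⟨x, hx, hx1, hxb⟩ := el 11 h
    exact hx1 (invol_large hbb hb1 (by norm_num : Nat.Prime 11) (by norm_num) hx hxb)
  have n9 : ¬ 9 ∣ Nat.card C := by
    intro h9
    have : Fact (Nat.Prime 3) := ⟨by norm_num⟩
    obtain ⟨R, hR⟩ := Sylow.exists_subgroup_card_pow_prime 3 (n := 2) h9
    have hRc : Nat.card ↥(R.map C.subtype) = 9 := by
      rw [Subgroup.card_map_of_injective C.subtype_injective, hR]; norm_num
    obtain ⟨x, hxR, hx1⟩ := (R.map C.subtype).bot_or_exists_ne_one.resolve_left fun e => by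
      rw [e, Subgroup.card_bot] at hRc; norm_num at hRc
    have hcom : ∀ y ∈ R.map C.subtype, b * y = y * b := by
      rintro _ ⟨y, -, rfl⟩
      exact (Subgroup.mem_centralizer_singleton_iff.mp y.2).symm
    refine nine_invol hRc hbb hb1 ?_ hxR hx1 (hcom x hxR)
    refine Subgroup.mem_normalizer_iff.mpr fun y => ⟨fun hy => ?_, fun hy => ?_⟩
    · rwa [hcom y hy, mul_inv_cancel_right]
    · have e := hcom _ hy
      rw [show b * (b * y * b⁻¹) = b * b * y * b⁻¹ by group, hbb, one_mul,
        show b * y * b⁻¹ * b = b * y by group] at e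
      have : b * y * b⁻¹ = y := by
        calc b * y * b⁻¹ = b * (y * b⁻¹) := mul_assoc _ _ _
          _ = b * (b * y) := by rw [e]
          _ = y := by rw [← mul_assoc, hbb, one_mul]
      rwa [this] at hy
  have hcop : ∀ p : ℕ, p.Prime → ¬ p ∣ Nat.card C → Nat.Coprime (Nat.card C) p := fun p hp h =>
    (hp.coprime_iff_not_dvd.mpr h).symm
  have h1152 : Nat.card C ∣ 384 * 3 := by
    refine (Nat.Coprime.dvd_of_dvd_mul_right (((hcop 5 (by norm_num) n5).mul_right
      (hcop 7 (by norm_num) n7)).mul_right (hcop 11 (by norm_num) n11)) ?_)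
    rwa [show 384 * 3 * (5 * 7 * 11) = 384 * 1155 by norm_num]
  obtain ⟨a, c, ha, hc, hac⟩ := Nat.dvd_mul.mp (show Nat.card C ∣ 128 * 9 from h1152)
  rw [← hac]
  have : c ∣ 3 := by
    obtain ⟨j, hj, rfl⟩ := (Nat.dvd_prime_pow Nat.prime_three).mp (show c ∣ 3 ^ 2 from hc)
    interval_cases j
    · norm_num
    · norm_num
    · exact absurd (hac ▸ dvd_mul_left (3 ^ 2) a : 3 ^ 2 ∣ Nat.card C) n9
  exact (Nat.mul_dvd_mul ha this : a * c ∣ 128 * 3)

/-- There are at least 1155 involutions. -/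
theorem invol_count : 1155 ≤ Nat.card {i : M // i * i = 1 ∧ i ≠ 1} := by
  classical
  set b := we M22Data.cenI
  have hb1 : b ≠ 1 := cenI_facts.1.2
  obtain ⟨A, -, hA, hel, -⟩ := sylS_facts
  have hbA : b ∈ A := by rw [← SetLike.mem_coe, hA]; exact cenI_facts.1.1
  have hbb : b * b = 1 := by rw [← sq]; exact hel.1.2 _ hbA
  let f : M ⧸ Subgroup.centralizer ({b} : Set M) → {i : M // i * i = 1 ∧ i ≠ 1} := fun q =>
    ⟨q.out * b * q.out⁻¹, by
      rw [show q.out * b * q.out⁻¹ * (q.out * b * q.out⁻¹) = q.out * (b * b) * q.out⁻¹ by group, hbb]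
      group, fun e => hb1 (conj_eq_one_iff.mp e)⟩
  have hf : Function.Injective f := by
    intro p q e
    have e' : p.out * b * p.out⁻¹ = q.out * b * q.out⁻¹ := congrArg Subtype.val e
    rw [← p.out_eq', ← q.out_eq', QuotientGroup.eq, Subgroup.mem_centralizer_singleton_iff]
    calc p.out⁻¹ * q.out * b = p.out⁻¹ * (q.out * b * q.out⁻¹) * q.out := by group
      _ = b * (p.out⁻¹ * q.out) := by rw [← e']; group
  have h1 := Nat.card_le_card_of_injective f hf
  have h2 := (Subgroup.centralizer ({b} : Set M)).card_mul_index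
  have h3 := Nat.le_of_dvd (by norm_num) (cent_invol hbb hb1)
  rw [card_M, Subgroup.index_eq_card] at h2
  nlinarith

/-- The two groups of order sixteen are normal in their Sylow group and meet in four elements. -/
theorem pair_checks : (M22Data.sylB.all fun c => normB c M22Data.hexI && normB c M22Data.duadI) = true ∧
    (M22Data.hexI.filter fun i => M22Data.duadI.contains i).length = 4 := by
  decide +kernel

/-- No elementary abelian 2-subgroup has order more than sixteen; a Sylow 2-subgroup has two normal elementary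
abelian subgroups of order sixteen meeting in four elements, and every such subgroup is one of them. -/
theorem syl_data : (∀ B : Subgroup M, IsElementaryAbelian 2 B → Nat.card B ≤ 16) ∧
    ∃ A D : Subgroup ↥sylS, Nat.card A = 16 ∧ Nat.card D = 16 ∧ Nat.card ↥(A ⊓ D) = 4 ∧ A.Normal ∧ D.Normal ∧
      (∀ a ∈ A, a * a = 1) ∧ (∀ a ∈ D, a * a = 1) ∧
      ∀ B : Subgroup ↥sylS, (∀ a ∈ B, a * a = 1) → 16 ≤ Nat.card B → B = A ∨ B = D := by
  classical
  have hs := sets_checked
  simp only [Bool.and_eq_true, List.contains_iff_mem, decide_eq_true_eq] at hs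
  obtain ⟨⟨⟨⟨⟨⟨⟨hh, hd⟩, hhl⟩, hdl⟩, hh0⟩, hd0⟩, hhn⟩, hdn⟩ := hs
  obtain ⟨A, hA⟩ := idx_subgroup hh hh0
  obtain ⟨D, hD⟩ := idx_subgroup hd hd0
  have hcard : ∀ (l : List ℕ) (C : Subgroup M), (C : Set M) = idxSet l → closedB l = true → l.Nodup →
      Nat.card C = l.length := fun l C hC hl hn => by
    rw [← card_idxSet hl hn, ← hC]; rfl
  have hcA : Nat.card A = 16 := by rw [hcard _ A hA hh hhn, Nat.eq_of_beq_eq_true hhl]
  have hcD : Nat.card D = 16 := by rw [hcard _ D hD hd hdn, Nat.eq_of_beq_eq_true hdl]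
  have hclass : ∀ B : Subgroup M, B ≤ sylS → IsElementaryAbelian 2 B → 16 ≤ Nat.card B → B = A ∨ B = D := by
    intro B hB hel h16
    rcases syl_class hB hel h16 with h | h
    · exact Or.inl (Subgroup.eq_of_le_of_card_ge (fun g hg => by rw [← SetLike.mem_coe, hA]; exact h hg)
        (by rw [hcA]; exact h16))
    · exact Or.inr (Subgroup.eq_of_le_of_card_ge (fun g hg => by rw [← SetLike.mem_coe, hD]; exact h hg)
        (by rw [hcD]; exact h16))
  refine ⟨fun B hel => ?_, ?_⟩
  · by_contra hlt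
    have : Fact (Nat.Prime 2) := ⟨Nat.prime_two⟩
    have hp : IsPGroup 2 B := fun b => ⟨1, Subtype.ext (by rw [pow_one]; exact hel.2 _ b.2)⟩
    obtain ⟨S, hS⟩ := hp.exists_le_sylow
    obtain ⟨h, hh'⟩ := sylow_two_conj S
    have hB' : B.map (MulAut.conj h).symm.toMonoidHom ≤ sylS := by
      rintro _ ⟨b, hb, rfl⟩
      obtain ⟨s, hs, rfl⟩ := (hh' ▸ hS) hb
      rwa [MulEquiv.coe_toMonoidHom, MulEquiv.coe_toMonoidHom, MulEquiv.symm_apply_apply]
    have hc' : Nat.card ↥(B.map (MulAut.conj h).symm.toMonoidHom) = Nat.card B :=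
      Subgroup.card_map_of_injective (MulAut.conj h).symm.injective
    rcases hclass _ hB' (elem_map _ hel) (by rw [hc']; omega) with e | e <;>
      · rw [e] at hc'
        omega
  have hAS : A ≤ sylS := fun g hg => by
    rw [← SetLike.mem_coe, hA] at hg
    obtain ⟨i, -, rfl⟩ := hg
    exact we_mem i
  have hDS : D ≤ sylS := fun g hg => by
    rw [← SetLike.mem_coe, hD] at hg
    obtain ⟨i, -, rfl⟩ := hg
    exact we_mem i
  have sqA : ∀ a ∈ A, a * a = 1 := fun a ha => by
    rw [← SetLike.mem_coe, hA] at ha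
    obtain ⟨i, hi, rfl⟩ := ha
    rw [← sq]
    exact invI_sq i ((show ∀ j ∈ M22Data.hexI, j ∈ M22Data.invI by decide) i hi)
  have sqD : ∀ a ∈ D, a * a = 1 := fun a ha => by
    rw [← SetLike.mem_coe, hD] at ha
    obtain ⟨i, hi, rfl⟩ := ha
    rw [← sq]
    exact invI_sq i ((show ∀ j ∈ M22Data.duadI, j ∈ M22Data.invI by decide) i hi)
  have hnorm : ∀ (l : List ℕ) (C : Subgroup M), (C : Set M) = idxSet l →
      (M22Data.sylB.all fun c => normB c l) = true → sylS ≤ Subgroup.normalizer (C : Set M) := by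
    intro l C hC hl
    rw [sylS, Subgroup.closure_le]
    rintro g ⟨c, hc, hg⟩
    exact normB_spec hg (List.all_eq_true.mp hl c hc) hC
  obtain ⟨hnc, hcap⟩ := pair_checks
  have hnA := hnorm _ A hA (List.all_eq_true.mpr fun c hc =>
    (Bool.and_eq_true _ _ ▸ List.all_eq_true.mp hnc c hc : _ ∧ _).1)
  have hnD := hnorm _ D hD (List.all_eq_true.mpr fun c hc =>
    (Bool.and_eq_true _ _ ▸ List.all_eq_true.mp hnc c hc : _ ∧ _).2)
  refine ⟨A.subgroupOf sylS, D.subgroupOf sylS, by rw [Nat.card_congr (Subgroup.subgroupOfEquivOfLe hAS).toEquiv, hcA],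
    by rw [Nat.card_congr (Subgroup.subgroupOfEquivOfLe hDS).toEquiv, hcD], ?_,
    Subgroup.normal_subgroupOf_iff_le_normalizer hAS |>.mpr hnA,
    Subgroup.normal_subgroupOf_iff_le_normalizer hDS |>.mpr hnD,
    fun a ha => Subtype.ext (sqA _ ha), fun a ha => Subtype.ext (sqD _ ha), fun B hB h16 => ?_⟩
  · have e : A.subgroupOf sylS ⊓ D.subgroupOf sylS = (A ⊓ D).subgroupOf sylS := rfl
    rw [e, Nat.card_congr (Subgroup.subgroupOfEquivOfLe (inf_le_left.trans hAS)).toEquiv]
    have hset : ((A ⊓ D : Subgroup M) : Set M) =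
        idxSet (M22Data.hexI.filter fun i => M22Data.duadI.contains i) := by
      ext g
      simp only [Subgroup.coe_inf, Set.mem_inter_iff, hA, hD, idxSet, Set.mem_ofPred_eq, List.mem_filter,
        List.contains_eq_mem, decide_eq_true_eq]
      constructor
      · rintro ⟨⟨i, hi, rfl⟩, ⟨k, hk, hke⟩⟩
        have := we_inj ((show ∀ j ∈ M22Data.duadI, j < 128 by decide) k hk)
          ((show ∀ j ∈ M22Data.hexI, j < 128 by decide) i hi) hke
        exact ⟨i, ⟨hi, this ▸ hk⟩, rfl⟩
      · rintro ⟨i, ⟨hi, hi'⟩, rfl⟩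
        exact ⟨⟨i, hi, rfl⟩, ⟨i, hi', rfl⟩⟩
    rw [show Nat.card ↥(A ⊓ D) = Nat.card ↥((A ⊓ D : Subgroup M) : Set M) from rfl, hset,
      card_idxSet (by decide +kernel) (by decide), hcap]
  · have hel : IsElementaryAbelian 2 (B.map sylS.subtype) := by
      refine ⟨⟨⟨?_⟩⟩, ?_⟩
      · rintro ⟨_, a, ha, rfl⟩ ⟨_, b, hb, rfl⟩
        refine Subtype.ext ?_
        show (a : M) * b = b * a
        have h1 := hB _ (mul_mem ha hb)
        rw [← Subgroup.coe_mul, ← Subgroup.coe_mul]
        refine congrArg Subtype.val ?_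
        calc a * b = a * b * ((b * a) * (b * a)) := by rw [hB _ (mul_mem hb ha), mul_one]
          _ = a * (b * b) * a * (b * a) := by group
          _ = b * a := by rw [hB b hb, mul_one, hB a ha, one_mul]
      · rintro _ ⟨a, ha, rfl⟩
        show (a : M) ^ 2 = 1
        rw [← Subgroup.coe_pow, sq, hB a ha, OneMemClass.coe_one]
    have hc : Nat.card ↥(B.map sylS.subtype) = Nat.card B := Subgroup.card_map_of_injective sylS.subtype_injective
    have hinj : Function.Injective (Subgroup.map sylS.subtype) := Subgroup.map_injective sylS.subtype_injective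
    rcases hclass _ (Subgroup.map_subtype_le _) hel (by omega) with e | e
    · exact Or.inl (hinj (by rw [e, Subgroup.map_subgroupOf_eq_of_le hAS]))
    · exact Or.inr (hinj (by rw [e, Subgroup.map_subgroupOf_eq_of_le hDS]))

/-- An involutory automorphism of a Sylow 2-subgroup fixes at least four elements. -/
theorem two_auto {θ : MulAut ↥sylS} (hθ : ∀ s, θ (θ s) = s) :
    ∃ C : Subgroup ↥sylS, 4 ≤ Nat.card C ∧ ∀ s ∈ C, θ s = s := by
  classical
  obtain ⟨-, A, D, hcA, hcD, hK, hAn, hDn, sqA, sqD, huniq⟩ := syl_data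
  let F : Subgroup ↥sylS :=
    { carrier := {s | θ s = s}
      one_mem' := map_one θ
      mul_mem' := fun {u v} hu hv => by
        show θ (u * v) = u * v
        rw [map_mul, show θ u = u from hu, show θ v = v from hv]
      inv_mem' := fun {u} hu => by
        show θ u⁻¹ = u⁻¹
        rw [map_inv, show θ u = u from hu] }
  refine ⟨F, ?_, fun s hs => hs⟩
  have hmap : ∀ {B : Subgroup ↥sylS}, (∀ a ∈ B, a * a = 1) → Nat.card B = 16 →
      B.map θ.toMonoidHom = A ∨ B.map θ.toMonoidHom = D := fun {B} hsq hc => huniq _ (by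
    rintro _ ⟨a, ha, rfl⟩
    rw [← map_mul, hsq a ha, map_one])
    (by rw [Subgroup.card_map_of_injective (f := θ.toMonoidHom) θ.injective, hc])
  have comm : ∀ {B : Subgroup ↥sylS}, (∀ a ∈ B, a * a = 1) → ∀ a ∈ B, ∀ b ∈ B, a * b = b * a := by
    intro B hsq a ha b hb
    calc a * b = a * b * ((b * a) * (b * a)) := by rw [hsq _ (mul_mem hb ha), mul_one]
      _ = a * (b * b) * a * (b * a) := by group
      _ = b * a := by rw [hsq b hb, mul_one, hsq a ha, one_mul]
  have inv_fix : ∀ B : Subgroup ↥sylS, (∀ a ∈ B, a * a = 1) → B.map θ.toMonoidHom = B →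
      Nat.card B ≤ Nat.card ↥(F ⊓ B) * Nat.card ↥(F ⊓ B) := by
    intro B hsq hB
    have hθB : ∀ a ∈ B, θ a ∈ B := fun a ha => hB.le ⟨a, ha, rfl⟩
    let τ : ↥B →* ↥B :=
      { toFun := fun a => ⟨a * θ a, mul_mem a.2 (hθB a a.2)⟩
        map_one' := Subtype.ext (by simp)
        map_mul' := fun a b => Subtype.ext (by
          show ((a : ↥sylS) * b) * θ ((a : ↥sylS) * b) = a * θ a * (b * θ b)
          rw [map_mul, mul_assoc, ← mul_assoc (b : ↥sylS), comm hsq b b.2 (θ a) (hθB a a.2)]
          group) }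
    have hker : τ.ker ≤ (F ⊓ B).subgroupOf B := fun a ha => by
      refine ⟨?_, a.2⟩
      show θ (a : ↥sylS) = (a : ↥sylS)
      have e : (a : ↥sylS) * θ a = 1 := congrArg Subtype.val (MonoidHom.mem_ker.mp ha)
      calc θ (a : ↥sylS) = a * a * θ a := by rw [hsq a a.2, one_mul]
        _ = a := by rw [mul_assoc, e, mul_one]
    have hran : τ.range ≤ (F ⊓ B).subgroupOf B := by
      rintro _ ⟨a, rfl⟩
      refine ⟨?_, (τ a).2⟩
      show θ ((a : ↥sylS) * θ a) = (a : ↥sylS) * θ a
      rw [map_mul, hθ, comm hsq _ (hθB a a.2) _ a.2]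
    have hc : Nat.card ↥((F ⊓ B).subgroupOf B) = Nat.card ↥(F ⊓ B) :=
      Nat.card_congr (Subgroup.subgroupOfEquivOfLe inf_le_right).toEquiv
    rw [← τ.ker.card_mul_index, Subgroup.index_ker, ← hc]
    exact Nat.mul_le_mul (Subgroup.card_le_of_le hker) (Subgroup.card_le_of_le hran)
  have hle : ∀ B : Subgroup ↥sylS, Nat.card ↥(F ⊓ B) ≤ Nat.card F := fun B => Subgroup.card_le_of_le inf_le_left
  rcases hmap sqA hcA with eA | eA
  · have h1 := inv_fix A sqA eA
    have := hle A
    rw [hcA] at h1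
    nlinarith
  have eD : D.map θ.toMonoidHom = A := by
    rw [← eA, Subgroup.map_map]
    convert Subgroup.map_id A
    exact MonoidHom.ext hθ
  have hKmap : (A ⊓ D).map θ.toMonoidHom = A ⊓ D := by
    rw [Subgroup.map_inf _ _ _ θ.injective, eA, eD, inf_comm]
  have h2 := inv_fix (A ⊓ D) (fun a ha => sqA a ha.1) hKmap
  rw [hK] at h2
  by_contra hlt
  push Not at hlt
  have hFK : Nat.card ↥(F ⊓ (A ⊓ D)) ≤ Nat.card F := hle _
  obtain ⟨z0, hz0, hz01⟩ : ∃ z0 ∈ F ⊓ (A ⊓ D), z0 ≠ 1 := (F ⊓ (A ⊓ D)).bot_or_exists_ne_one.resolve_left fun e => by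
    rw [e, Subgroup.card_bot] at h2
    omega
  obtain ⟨k, hk, hkF⟩ : ∃ k ∈ A ⊓ D, k ∉ F := by
    by_contra hall
    push Not at hall
    have := Subgroup.card_le_of_le (show A ⊓ D ≤ F from hall)
    omega
  obtain ⟨a, ha, haK⟩ : ∃ a ∈ A, a ∉ D := by
    by_contra hall
    push Not at hall
    have := Subgroup.card_le_of_le (le_inf le_rfl (show A ≤ D from hall))
    omega
  set b := θ a with hb
  have hbD : b ∈ D := eA.le ⟨a, ha, rfl⟩
  set c := a * b with hc
  set w := a * b * a⁻¹ * b⁻¹ with hw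
  have hwK : w ∈ A ⊓ D := Subgroup.mem_inf.mpr ⟨by
      rw [hw, show a * b * a⁻¹ * b⁻¹ = a * (b * a⁻¹ * b⁻¹) by group]
      exact mul_mem ha (hAn.conj_mem _ (inv_mem ha) b),
    by rw [hw]; exact mul_mem (hDn.conj_mem _ hbD a) (inv_mem hbD)⟩
  have ia : a⁻¹ = a := inv_eq_of_mul_eq_one_left (sqA a ha)
  have ib : b⁻¹ = b := inv_eq_of_mul_eq_one_left (sqD b hbD)
  have hcc : c * c = w := by rw [hc, hw, ia, ib]; group
  have hθc : θ c = c⁻¹ := by rw [hc, map_mul, hb, hθ, ← hb, mul_inv_rev, ia, ib]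
  have hcK : c ∉ A ⊓ D := fun hm => haK (by
    have h3 : a * b * b ∈ D := mul_mem hm.2 hbD
    rwa [mul_assoc, sqD b hbD, mul_one] at h3)
  have hwF : w ∈ F := by
    show θ w = w
    rw [← hcc, map_mul, hθc, ← mul_inv_rev, hcc]
    exact inv_eq_of_mul_eq_one_left (sqA w hwK.1)
  have three : ∀ u ∈ F, u ∈ A ⊓ D → u = 1 ∨ u = z0 := by
    intro u hu huK
    by_contra hne
    push Not at hne
    have : ({1, z0, u} : Finset ↥sylS).card ≤ Nat.card F := by
      rw [← Nat.card_eq_finsetCard]
      exact Nat.card_le_card_of_injective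
        (fun s => ⟨s.1, by
          rcases Finset.mem_insert.mp s.2 with e | e
          · rw [e]; exact one_mem _
          · rcases Finset.mem_insert.mp e with e | e
            · rw [e]; exact hz0.1
            · rw [Finset.mem_singleton.mp e]; exact hu⟩)
        (fun s t e => Subtype.ext (congrArg (fun r : ↥F => (r : ↥sylS)) e))
    rw [Finset.card_eq_three.mpr ⟨1, z0, u, hz01.symm, hne.1.symm, hne.2.symm, rfl⟩] at this
    have hdvd : Nat.card F = 3 := by omega
    have h128 := Subgroup.card_subgroup_dvd_card F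
    rw [card_sylS, hdvd] at h128
    omega
  have fixed_out : ∀ u, θ u = u → u ∉ A ⊓ D → False := by
    intro u hu huK
    have : ({1, z0, u} : Finset ↥sylS).card ≤ Nat.card F := by
      rw [← Nat.card_eq_finsetCard]
      exact Nat.card_le_card_of_injective
        (fun s => ⟨s.1, by
          rcases Finset.mem_insert.mp s.2 with e | e
          · rw [e]; exact one_mem _
          · rcases Finset.mem_insert.mp e with e | e
            · rw [e]; exact hz0.1
            · rw [Finset.mem_singleton.mp e]; exact hu⟩)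
        (fun s t e => Subtype.ext (congrArg (fun r : ↥F => (r : ↥sylS)) e))
    rw [Finset.card_eq_three.mpr ⟨1, z0, u, hz01.symm, fun e => huK (e ▸ one_mem _),
      fun e => huK (e ▸ hz0.2), rfl⟩] at this
    have h128 := Subgroup.card_subgroup_dvd_card F
    rw [card_sylS, show Nat.card F = 3 by omega] at h128
    omega
  rcases three w hwF hwK with e | e
  · refine fixed_out c ?_ hcK
    rw [hθc]
    exact inv_eq_of_mul_eq_one_left (hcc.trans e)
  · obtain ⟨d, hd, hde⟩ : ∃ d, d = k * θ k ∧ θ d = d := ⟨_, rfl, by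
      rw [map_mul, hθ]
      exact comm sqA _ (hKmap.le ⟨k, hk, rfl⟩ : θ k ∈ A ⊓ D).1 _ hk.1⟩
    have hkt : θ k ∈ A ⊓ D := hKmap.le ⟨k, hk, rfl⟩
    have hd0 : d = z0 := (three d hde (hd ▸ mul_mem hk hkt)).resolve_left fun e1 => hkF (by
      show θ k = k
      calc θ k = k * k * θ k := by rw [sqA k hk.1, one_mul]
        _ = k := by rw [mul_assoc, ← hd, e1, mul_one])
    have hkk : θ k = k * z0 := by rw [← hd0, hd, ← mul_assoc, sqA k hk.1, one_mul]
    have hck : ∀ u ∈ A ⊓ D, c * u = u * c := fun u hu => by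
      rw [hc, mul_assoc, comm sqD b hbD u hu.2, ← mul_assoc, comm sqA a ha u hu.1, mul_assoc]
    refine fixed_out (c * k) ?_ fun hm => hcK (by
      have h3 := mul_mem hm (inv_mem hk)
      rwa [mul_inv_cancel_right] at h3)
    rw [map_mul, hθc, hkk, ← e, ← hcc]
    calc c⁻¹ * (k * (c * c)) = c⁻¹ * ((c * c) * k) := by
          rw [((show Commute k c from (hck k hk).symm).mul_right (hck k hk).symm).eq]
      _ = c * k := by group

/-- An automorphism of order three of a Sylow 2-subgroup fixing a central involution fixes more. -/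
theorem three_auto {θ : MulAut ↥sylS} (hθ : ∀ s, θ (θ (θ s)) = s) {w : ↥sylS} (hw : ∀ s, w * s = s * w)
    (hw2 : w * w = 1) (hw1 : w ≠ 1) (hfw : θ w = w) : ∃ s, θ s = s ∧ s ≠ 1 ∧ s ≠ w := by
  classical
  by_contra hall
  push Not at hall
  obtain ⟨hrank, A, D, hcA, hcD, -, -, -, sqA, sqD, huniq⟩ := syl_data
  have hwB : ∀ B : Subgroup ↥sylS, (∀ a ∈ B, a * a = 1) → 16 ≤ Nat.card B → w ∈ B := by
    intro B hsq h16
    by_contra hwn
    let B' : Subgroup ↥sylS :=
      { carrier := {u | u ∈ B ∨ u * w ∈ B}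
        one_mem' := Or.inl (one_mem _)
        mul_mem' := by
          rintro u v (hu | hu) (hv | hv)
          · exact Or.inl (mul_mem hu hv)
          · exact Or.inr (by rw [mul_assoc]; exact mul_mem hu hv)
          · exact Or.inr (by rw [mul_assoc, ← hw v, ← mul_assoc]; exact mul_mem hu hv)
          · refine Or.inl ?_
            have h3 := mul_mem hu hv
            rwa [mul_assoc u w, ← mul_assoc w v, hw v, mul_assoc v, hw2, mul_one] at h3
        inv_mem' := by
          rintro u (hu | hu)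
          · exact Or.inl (inv_mem hu)
          · refine Or.inr ?_
            have h3 := inv_mem hu
            rwa [mul_inv_rev, inv_eq_of_mul_eq_one_left hw2, hw] at h3 }
    have hsq' : ∀ u ∈ B', u * u = 1 := by
      rintro u (hu | hu)
      · exact hsq u hu
      · have h3 := hsq _ hu
        rwa [mul_assoc u w, ← mul_assoc w u, hw u, mul_assoc u w, hw2, mul_one] at h3
    have hlt : Nat.card B < Nat.card B' := by
      refine lt_of_le_of_ne (Subgroup.card_le_of_le fun u hu => Or.inl hu) fun e => hwn ?_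
      have := Subgroup.eq_of_le_of_card_ge (show B ≤ B' from fun u hu => Or.inl hu) e.ge
      rw [this]
      exact Or.inr (hw2 ▸ one_mem _)
    have hel : IsElementaryAbelian 2 (B'.map sylS.subtype) := by
      refine ⟨⟨⟨?_⟩⟩, ?_⟩
      · rintro ⟨_, a, ha, rfl⟩ ⟨_, b, hb, rfl⟩
        refine Subtype.ext ?_
        show ((a * b : ↥sylS) : M) = ((b * a : ↥sylS) : M)
        refine congrArg Subtype.val ?_
        calc a * b = a * b * ((b * a) * (b * a)) := by rw [hsq' _ (mul_mem hb ha), mul_one]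
          _ = a * (b * b) * a * (b * a) := by group
          _ = b * a := by rw [hsq' b hb, mul_one, hsq' a ha, one_mul]
      · rintro _ ⟨a, ha, rfl⟩
        show (a : M) ^ 2 = 1
        rw [← Subgroup.coe_pow, sq, hsq' a ha, OneMemClass.coe_one]
    have := hrank _ hel
    rw [Subgroup.card_map_of_injective sylS.subtype_injective] at this
    omega
  have hinv : A.map θ.toMonoidHom = A := by
    have hm : ∀ {B : Subgroup ↥sylS}, (∀ a ∈ B, a * a = 1) → Nat.card B = 16 →
        B.map θ.toMonoidHom = A ∨ B.map θ.toMonoidHom = D := fun {B} hsq hc => huniq _ (by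
      rintro _ ⟨a, ha, rfl⟩
      rw [← map_mul, hsq a ha, map_one])
      (by rw [Subgroup.card_map_of_injective (f := θ.toMonoidHom) θ.injective, hc])
    rcases hm sqA hcA with e | e
    · exact e
    rcases hm sqD hcD with e' | e'
    · have h3 : ((A.map θ.toMonoidHom).map θ.toMonoidHom).map θ.toMonoidHom = A := by
        rw [Subgroup.map_map, Subgroup.map_map]
        convert Subgroup.map_id A
        exact MonoidHom.ext hθ
      rwa [e, e'] at h3
    · have : A = D := Subgroup.map_injective (f := θ.toMonoidHom) θ.injective (e.trans e'.symm)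
      rw [e, ← this]
  have hfA : ∀ a ∈ A, θ a ∈ A := fun a ha => hinv.le ⟨a, ha, rfl⟩
  have : Fact (Nat.Prime 3) := ⟨by norm_num⟩
  let α : Function.End ↥A := fun a => ⟨θ a, hfA a a.2⟩
  have hα : α ^ 3 = 1 := funext fun a => Subtype.ext (hθ a)
  have hmod := Equiv.Perm.card_fixedPoints_modEq (p := 3) (n := 1) (f := α) (by rw [pow_one]; exact hα)
  have hfix : (Function.fixedPoints α) = {1, ⟨w, hwB A sqA (by omega)⟩} := by
    ext a
    simp only [Set.mem_insert_iff, Set.mem_singleton_iff]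
    constructor
    · intro h
      by_cases h1 : (a : ↥sylS) = 1
      · exact Or.inl (Subtype.ext h1)
      · exact Or.inr (Subtype.ext (hall _ (congrArg Subtype.val h) h1))
    · rintro (rfl | rfl)
      · exact Subtype.ext (map_one θ)
      · exact Subtype.ext hfw
  simp only [← Nat.card_eq_fintype_card] at hmod
  rw [hcA, hfix, Nat.card_coe_set_eq,
    Set.ncard_pair (fun e => hw1 (congrArg Subtype.val e).symm)] at hmod
  exact absurd hmod (by decide)

end CfsgLib.JankoSix
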