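/-
A group in which the normaliser of a subgroup of order three contains the centralisers of the relevant
involutions and elements of order three: Thompson transfer and a count of involutions show that the subgroup
is normal.
-/
import Cfsg.Agent.Lib.JankoSix.M22Facts
import Cfsg.Agent.Lib.Golay.OutMathieuSmall
import Cfsg.Agent.Lib.Elementary
import Cfsg.Agent.S0111

set_option autoImplicit false
set_option linter.unusedSectionVars false

namespace CfsgLib.JankoSix

open Cfsg CfsgLib.JankoFour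
open scoped Pointwise

local notation "M" => MTwoTwo

/-- The hypotheses on the quotient by the 2-core. -/
structure Core {X : Type*} [Group X] (x : X) where
  ord : orderOf x = 3
  π : ↥(Subgroup.centralizer ({x} : Set X)) →* M
  surj : Function.Surjective π
  ker : ∀ c : ↥(Subgroup.centralizer ({x} : Set X)), π c = 1 ↔ (c : X) ∈ Subgroup.zpowers x
  perf : ⁅(⊤ : Subgroup ↥(Subgroup.centralizer ({x} : Set X))), (⊤ : Subgroup ↥(Subgroup.centralizer ({x} : Set X)))⁆ = ⊤
  inv : ∃ n : X, n * x * n⁻¹ = x⁻¹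
  iso : ∀ g : X, g * x * g⁻¹ * x = x * (g * x * g⁻¹) → g * x * g⁻¹ = x ∨ g * x * g⁻¹ = x⁻¹
  three : ∀ d : X, d * x = x * d → d ^ 3 = 1 → d ∉ Subgroup.zpowers x → ∀ g : X, g * d = d * g →
    g * x * g⁻¹ = x ∨ g * x * g⁻¹ = x⁻¹
  invol : ∀ t : X, t * x = x * t → t * t = 1 → t ≠ 1 → ∀ g : X, g * t = t * g →
    g * x * g⁻¹ = x ∨ g * x * g⁻¹ = x⁻¹

theorem center_M {m : M} (hm : ∀ k : M, k * m = m * k) : m = 1 := by
  have := simple_M
  have hmem : m ∈ Subgroup.center M := Subgroup.mem_center_iff.mpr hm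
  rcases (inferInstance : (Subgroup.center M).Normal).eq_bot_or_eq_top with e | e
  · rwa [e, Subgroup.mem_bot] at hmem
  · exfalso
    have hcomm : ∀ a b : M, a * b = b * a := fun a b =>
      (Subgroup.mem_center_iff.mp (e ▸ Subgroup.mem_top a : a ∈ Subgroup.center M) b).symm
    have : Fact (Nat.Prime 3) := ⟨by norm_num⟩
    obtain ⟨r, hr⟩ := exists_prime_orderOf_dvd_card' (G := M) 3 (by rw [card_M]; norm_num)
    rcases (Subgroup.Normal.eq_bot_or_eq_top (H := Subgroup.zpowers r)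
      ⟨fun n hn g => by rwa [hcomm g n, mul_inv_cancel_right]⟩) with e' | e'
    · rw [Subgroup.zpowers_eq_bot] at e'
      rw [e', orderOf_one] at hr
      norm_num at hr
    · have h1 := congrArg (fun S : Subgroup M => Nat.card ↥S) e'
      simp only [Subgroup.card_top, Nat.card_zpowers, hr, card_M] at h1
      norm_num at h1

namespace Core

variable {X : Type*} [Group X] [Finite X] {x : X} (h : Core x)

include h

theorem x_pow : x ^ 3 = 1 := h.ord ▸ pow_orderOf_eq_one x

theorem x_ne : x ≠ 1 := fun e => by have := h.ord; rw [e, orderOf_one] at this; norm_num at this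

theorem x_ne_inv : x ≠ x⁻¹ := fun e => h.x_ne (by
  have h2 : x * x = 1 := by nth_rewrite 2 [e]; exact mul_inv_cancel x
  have h3 := h.x_pow
  rwa [pow_succ, pow_two, h2, one_mul] at h3)

theorem mem_N {g : X} : g ∈ Subgroup.normalizer ((Subgroup.zpowers x : Subgroup X) : Set X) ↔
    g * x * g⁻¹ = x ∨ g * x * g⁻¹ = x⁻¹ := by
  constructor
  · intro hg
    obtain ⟨k, hk⟩ := Subgroup.mem_zpowers_iff.mp ((Subgroup.mem_normalizer_iff.mp hg x).mp (Subgroup.mem_zpowers x))
    rw [← zpow_mod_orderOf, h.ord] at hk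
    rcases (by omega : k % ((3 : ℕ) : ℤ) = 0 ∨ k % ((3 : ℕ) : ℤ) = 1 ∨ k % ((3 : ℕ) : ℤ) = 2) with e | e | e <;>
      rw [e] at hk
    · rw [zpow_zero] at hk
      exact absurd (conj_eq_one_iff.mp hk.symm) h.x_ne
    · exact Or.inl (by rw [← hk, zpow_one])
    · refine Or.inr ?_
      rw [← hk, zpow_two]
      exact (inv_eq_of_mul_eq_one_right (by rw [← h.x_pow, pow_succ, pow_two, mul_assoc])).symm
  · intro hg
    refine Subgroup.mem_normalizer_iff.mpr fun v => ?_
    have hs : (Subgroup.zpowers x).map (MulAut.conj g).toMonoidHom = Subgroup.zpowers x := by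
      rw [MonoidHom.map_zpowers]
      show Subgroup.zpowers (g * x * g⁻¹) = _
      rcases hg with e | e <;> rw [e]
      exact Subgroup.zpowers_inv
    constructor
    · exact fun hv => hs.le ⟨v, hv, rfl⟩
    · intro hv
      obtain ⟨w, hw, e⟩ := hs.ge hv
      have : w = v := (MulAut.conj g).injective e
      exact this ▸ hw

theorem conj_mem {g c : X} (hg : g * x * g⁻¹ = x ∨ g * x * g⁻¹ = x⁻¹) (hc : c ∈ Subgroup.centralizer ({x} : Set X)) :
    g * c * g⁻¹ ∈ Subgroup.centralizer ({x} : Set X) := by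
  rw [Subgroup.mem_centralizer_singleton_iff] at hc ⊢
  have h1 : Commute (g * c * g⁻¹) (g * x * g⁻¹) := (show Commute c x from hc).conj g
  rcases hg with e | e <;> rw [e] at h1
  · exact h1.eq
  · have := h1.inv_right
    rw [inv_inv] at this
    exact this.eq

theorem N_three {g : X} (hg : g * x * g⁻¹ = x ∨ g * x * g⁻¹ = x⁻¹) (h3 : g ^ 3 = 1) : g * x = x * g := by
  rcases hg with e | e
  · exact mul_inv_eq_iff_eq_mul.mp e
  · exfalso
    have e' : g * x⁻¹ * g⁻¹ = x := by
      rw [show g * x⁻¹ * g⁻¹ = (g * x * g⁻¹)⁻¹ by group, e, inv_inv]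
    have e3 : g ^ 3 * x * (g ^ 3)⁻¹ = x⁻¹ := by
      calc g ^ 3 * x * (g ^ 3)⁻¹ = g * (g * (g * x * g⁻¹) * g⁻¹) * g⁻¹ := by
            simp only [pow_succ, pow_zero, one_mul, mul_inv_rev, mul_assoc]
        _ = x⁻¹ := by rw [e, e', e]
    rw [h3, one_mul, inv_one, mul_one] at e3
    exact h.x_ne_inv e3

theorem mul_mem_C {a b : X} (ha : a * x * a⁻¹ = x ∨ a * x * a⁻¹ = x⁻¹) (ha' : a * x ≠ x * a)
    (hb : b * x * b⁻¹ = x ∨ b * x * b⁻¹ = x⁻¹) (hb' : b * x ≠ x * b) : (a⁻¹ * b) * x = x * (a⁻¹ * b) := by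
  have ea := ha.resolve_left fun e => ha' (mul_inv_eq_iff_eq_mul.mp e)
  have eb := hb.resolve_left fun e => hb' (mul_inv_eq_iff_eq_mul.mp e)
  calc (a⁻¹ * b) * x = a⁻¹ * (b * x * b⁻¹) * b := by group
    _ = a⁻¹ * (a * x * a⁻¹) * b := by rw [eb, ea]
    _ = x * (a⁻¹ * b) := by group

/-- The action of the normaliser on M22. -/
theorem exists_theta : ∃ θ : ↥(Subgroup.normalizer ((Subgroup.zpowers x : Subgroup X) : Set X)) →* MulAut M,
    (∀ g c, ∀ hc, θ g (h.π c) = h.π ⟨g * c * (g : X)⁻¹, hc⟩) ∧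
    Function.Surjective θ ∧ ∀ g, θ g = 1 ↔ (g : X) ∈ Subgroup.zpowers x := by
  classical
  set C := Subgroup.centralizer ({x} : Set X)
  set N := Subgroup.normalizer ((Subgroup.zpowers x : Subgroup X) : Set X)
  let cC : ↥N → (↥C →* ↥C) := fun g =>
    { toFun := fun c => ⟨g * c * (g : X)⁻¹, h.conj_mem (h.mem_N.mp g.2) c.2⟩
      map_one' := Subtype.ext (by simp)
      map_mul' := fun a b => Subtype.ext (by simp [mul_assoc]) }
  have hker : ∀ g, h.π.ker ≤ (h.π.comp (cC g)).ker := by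
    intro g c hc
    rw [MonoidHom.mem_ker] at hc ⊢
    exact (h.ker _).mpr ((Subgroup.mem_normalizer_iff.mp g.2 c).mp ((h.ker c).mp hc))
  let f : ↥N → (M →* M) := fun g =>
    MonoidHom.liftOfSurjective h.π h.surj ⟨h.π.comp (cC g), hker g⟩
  have fapp : ∀ g c, f g (h.π c) = h.π (cC g c) := fun g c =>
    MonoidHom.liftOfRightInverse_comp_apply h.π _ _ ⟨h.π.comp (cC g), hker g⟩ c
  have fmul : ∀ g g' m, f (g * g') m = f g (f g' m) := by
    intro g g' m
    obtain ⟨c, rfl⟩ := h.surj m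
    rw [fapp, fapp, fapp]
    exact congrArg h.π (Subtype.ext (by simp [cC, mul_assoc]))
  have fone : ∀ m, f 1 m = m := by
    intro m
    obtain ⟨c, rfl⟩ := h.surj m
    rw [fapp]
    exact congrArg h.π (Subtype.ext (by simp [cC]))
  let e : ↥N → MulAut M := fun g =>
    { toFun := f g
      invFun := f g⁻¹
      left_inv := fun m => by rw [← fmul, inv_mul_cancel, fone]
      right_inv := fun m => by rw [← fmul, mul_inv_cancel, fone]
      map_mul' := map_mul (f g) }
  let θ : ↥N →* MulAut M :=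
    { toFun := e
      map_one' := MulEquiv.ext fone
      map_mul' := fun g g' => MulEquiv.ext (fmul g g') }
  have θapp : ∀ g c, ∀ hc, θ g (h.π c) = h.π ⟨g * c * (g : X)⁻¹, hc⟩ := fun g c hc => fapp g c
  have hk : ∀ g, θ g = 1 ↔ (g : X) ∈ Subgroup.zpowers x := by
    intro g
    constructor
    · intro hg
      -- the commutator map is a homomorphism into `⟨x⟩`, hence trivial
      have hs : ∀ c : ↥C, (c : X)⁻¹ * (g * c * (g : X)⁻¹) ∈ Subgroup.zpowers x := by
        intro c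
        have h1 : h.π (cC g c) = h.π c := by
          rw [← fapp]
          show θ g (h.π c) = h.π c
          rw [hg]; rfl
        exact (h.ker (c⁻¹ * cC g c)).mp (by rw [map_mul, map_inv, h1, inv_mul_cancel])
      let ρ : ↥C →* ↥(Subgroup.zpowers x) :=
        { toFun := fun c => ⟨_, hs c⟩
          map_one' := Subtype.ext (by simp)
          map_mul' := fun a b => Subtype.ext (by
            show ((a : X) * b)⁻¹ * (g * ((a : X) * b) * (g : X)⁻¹) =
              (a : X)⁻¹ * (g * a * (g : X)⁻¹) * ((b : X)⁻¹ * (g * b * (g : X)⁻¹))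
            obtain ⟨n, hn⟩ := Subgroup.mem_zpowers_iff.mp (hs a)
            have hcb : Commute (x ^ n) (b : X)⁻¹ :=
              ((show Commute (b : X) x from Subgroup.mem_centralizer_singleton_iff.mp b.2).symm.zpow_left n).inv_right
            calc ((a : X) * b)⁻¹ * (g * ((a : X) * b) * (g : X)⁻¹)
                = (b : X)⁻¹ * ((a : X)⁻¹ * (g * a * (g : X)⁻¹)) * (g * b * (g : X)⁻¹) := by group
              _ = (b : X)⁻¹ * x ^ n * (g * b * (g : X)⁻¹) := by rw [hn]
              _ = x ^ n * ((b : X)⁻¹ * (g * b * (g : X)⁻¹)) := by rw [← hcb.eq, mul_assoc]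
              _ = _ := by rw [hn]) }
      have htriv : (⊤ : Subgroup ↥C) ≤ ρ.ker := by
        rw [← h.perf, Subgroup.commutator_le]
        intro a _ b _
        rw [MonoidHom.mem_ker, map_commutatorElement]
        exact commutatorElement_eq_one_iff_mul_comm.mpr (mul_comm' _ _)
      have hcomm : ∀ c : ↥C, (g : X) * c * (g : X)⁻¹ = c := fun c =>
        (inv_mul_eq_one.mp (congrArg Subtype.val (MonoidHom.mem_ker.mp (htriv (Subgroup.mem_top c))))).symm
      have hgx : (g : X) ∈ C := Subgroup.mem_centralizer_singleton_iff.mpr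
        (mul_inv_eq_iff_eq_mul.mp (hcomm ⟨x, Subgroup.mem_centralizer_singleton_iff.mpr rfl⟩))
      refine (h.ker ⟨g, hgx⟩).mp (center_M fun k => ?_)
      obtain ⟨c, rfl⟩ := h.surj k
      rw [← map_mul, ← map_mul]
      exact congrArg h.π (Subtype.ext (mul_inv_eq_iff_eq_mul.mp (hcomm c)).symm)
    · intro hg
      refine MulEquiv.ext fun m => ?_
      obtain ⟨c, rfl⟩ := h.surj m
      rw [θapp g c (cC g c).2]
      show h.π _ = h.π c
      refine congrArg h.π (Subtype.ext ?_)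
      obtain ⟨n, hn⟩ := Subgroup.mem_zpowers_iff.mp hg
      show (g : X) * c * (g : X)⁻¹ = c
      rw [← hn, ← ((show Commute (c : X) x from Subgroup.mem_centralizer_singleton_iff.mp c.2).zpow_right n).eq,
        mul_inv_cancel_right]
  refine ⟨θ, θapp, ?_, hk⟩
  obtain ⟨n, hn⟩ := h.inv
  set nN : ↥N := ⟨n, h.mem_N.mpr (Or.inr hn)⟩
  have hinner : ∀ m : M, MulAut.conj m ∈ θ.range := by
    intro m
    obtain ⟨c, rfl⟩ := h.surj m
    refine ⟨⟨c, h.mem_N.mpr (Or.inl (by rw [Subgroup.mem_centralizer_singleton_iff.mp c.2, mul_inv_cancel_right]))⟩,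
      MulEquiv.ext fun k => ?_⟩
    obtain ⟨d, rfl⟩ := h.surj k
    rw [θapp _ d (mul_mem (mul_mem c.2 d.2) (inv_mem c.2)), MulAut.conj_apply, ← map_inv, ← map_mul, ← map_mul]
    rfl
  have hnot : θ nN ∉ (MulAut.conj (G := M)).range := by
    rintro ⟨m, hm⟩
    obtain ⟨c, rfl⟩ := h.surj m
    set cN : ↥N := ⟨c, h.mem_N.mpr (Or.inl (by rw [Subgroup.mem_centralizer_singleton_iff.mp c.2, mul_inv_cancel_right]))⟩
    have hc : θ cN = MulAut.conj (h.π c) := by
      refine MulEquiv.ext fun k => ?_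
      obtain ⟨d, rfl⟩ := h.surj k
      rw [θapp _ d (mul_mem (mul_mem c.2 d.2) (inv_mem c.2)), MulAut.conj_apply, ← map_inv, ← map_mul, ← map_mul]
      rfl
    have h1 : θ (cN⁻¹ * nN) = 1 := by rw [map_mul, map_inv, hc, ← hm, inv_mul_cancel]
    obtain ⟨k, hk'⟩ := Subgroup.mem_zpowers_iff.mp ((hk _).mp h1)
    have hnc : n = (c : X) * x ^ k := by
      rw [hk']
      show n = (c : X) * ((c : X)⁻¹ * n)
      group
    apply h.x_ne_inv
    rw [← hn, hnc]
    have hcx : Commute (c : X) x := Subgroup.mem_centralizer_singleton_iff.mp c.2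
    rw [(hcx.mul_left (Commute.zpow_self x k)).eq, mul_inv_cancel_right]
  intro a
  have hidx : ((MulAut.conj (G := M)).range).index = 2 := CfsgGolay.OutSmall.out_M22
  by_cases ha : a ∈ (MulAut.conj (G := M)).range
  · obtain ⟨m, rfl⟩ := ha
    exact hinner m
  · have hmem : a * (θ nN)⁻¹ ∈ (MulAut.conj (G := M)).range := by
      rw [Subgroup.mul_mem_iff_of_index_two hidx]
      simp only [inv_mem_iff, ha, hnot]
    obtain ⟨m, hm⟩ := hmem
    have : a * (θ nN)⁻¹ ∈ θ.range := hm ▸ hinner m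
    have h2 := mul_mem this (⟨nN, rfl⟩ : θ nN ∈ θ.range)
    rwa [inv_mul_cancel_right] at h2

/-- There is an involution inverting `x`. -/
theorem exists_outer : ∃ u : X, u * u = 1 ∧ u * x * u⁻¹ = x⁻¹ := by
  obtain ⟨θ, θapp, hsurj, hk⟩ := h.exists_theta
  obtain ⟨a, ha, ha2, -⟩ := outer_three
  obtain ⟨m, hm⟩ := hsurj a
  have h1 : ((m * m : ↥(Subgroup.normalizer _)) : X) ∈ Subgroup.zpowers x :=
    (hk _).mp (by rw [map_mul, hm, ha2])
  obtain ⟨k, hk'⟩ := Subgroup.mem_zpowers_iff.mp h1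
  refine ⟨((m * m * m : ↥(Subgroup.normalizer _)) : X), ?_, ?_⟩
  · simp only [Subgroup.coe_mul] at hk' ⊢
    calc (m : X) * m * m * ((m : X) * m * m) = (m * m) * (m * m) * (m * m : X) := by group
      _ = 1 := by
        rw [← hk', ← zpow_add, ← zpow_add, show k + k + k = ((3 : ℕ) : ℤ) * k by omega, zpow_mul, zpow_natCast,
          h.x_pow, one_zpow]
  · refine (h.mem_N.mp (m * m * m).2).resolve_left fun e => ha ?_
    have hc : ((m * m * m : ↥(Subgroup.normalizer _)) : X) ∈ Subgroup.centralizer ({x} : Set X) :=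
      Subgroup.mem_centralizer_singleton_iff.mpr (mul_inv_eq_iff_eq_mul.mp e)
    refine ⟨h.π ⟨_, hc⟩, MulEquiv.ext fun k => ?_⟩
    obtain ⟨d, rfl⟩ := h.surj k
    have h3 : θ (m * m * m) = a := by rw [map_mul, map_mul, hm, ha2, one_mul]
    rw [← h3, θapp _ d (mul_mem (mul_mem hc d.2) (inv_mem hc)), MulAut.conj_apply, ← map_inv, ← map_mul, ← map_mul]
    rfl

theorem exists_invol {a : X} {k : ℕ} (ha : a ^ 2 ^ k = 1) (ha1 : a ≠ 1) :
    ∃ n : ℕ, a ^ n * a ^ n = 1 ∧ a ^ n ≠ 1 := by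
  induction k with
  | zero => exact absurd (by simpa using ha) ha1
  | succ k ih =>
    by_cases hk : a ^ 2 ^ k = 1
    · exact ih hk
    · exact ⟨2 ^ k, by rw [← pow_add, ← two_mul, ← pow_succ']; exact ha, hk⟩

/-- An involution inverting `x` is not conjugate to one centralising `x`. -/
theorem not_conj {v t g : X} (hv : v * v = 1) (hvx : v * x * v⁻¹ = x⁻¹) (ht : t * x = x * t) (htt : t * t = 1)
    (hg : g * t * g⁻¹ = v) : False := by
  classical
  have : Fact (Nat.Prime 2) := ⟨Nat.prime_two⟩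
  set C := Subgroup.centralizer ({x} : Set X)
  have hvC : ¬ v * x = x * v := fun e => h.x_ne_inv (by rw [← hvx, e, mul_inv_cancel_right])
  have ht1 : t ≠ 1 := by
    rintro rfl
    rw [mul_one, mul_inv_cancel] at hg
    exact hvC (by rw [← hg, one_mul, mul_one])
  obtain ⟨θ, θapp, -, -⟩ := h.exists_theta
  set vN : ↥(Subgroup.normalizer ((Subgroup.zpowers x : Subgroup X) : Set X)) := ⟨v, h.mem_N.mpr (Or.inr hvx)⟩
  set β := θ vN with hβ
  have hβ2 : ∀ m, β (β m) = m := fun m => by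
    have : β * β = 1 := by rw [hβ, ← map_mul, show vN * vN = 1 from Subtype.ext hv, map_one]
    exact congrArg (fun f : MulAut M => f m) this
  -- a fixed Sylow subgroup
  let α : Function.End (Sylow 2 M) := fun S => β • S
  have hα : α ^ 2 ^ 1 = 1 := funext fun S => by
    show β • β • S = S
    rw [smul_smul, show β * β = 1 from MulEquiv.ext hβ2, one_smul]
  have := Fintype.ofFinite (Sylow 2 M)
  have hmod := Equiv.Perm.card_fixedPoints_modEq (p := 2) (n := 1) (f := α) hα
  simp only [← Nat.card_eq_fintype_card] at hmod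
  have hodd : Nat.card (Sylow 2 M) ≡ 1 [MOD 2] := card_sylow_modEq_one 2 M
  obtain ⟨S, hS⟩ : ∃ S : Sylow 2 M, β • S = S := by
    rcases isEmpty_or_nonempty ↥(Function.fixedPoints α) with he | ⟨⟨S, hS⟩⟩
    · rw [Nat.card_of_isEmpty (α := ↥(Function.fixedPoints α))] at hmod
      exact absurd (hodd.symm.trans hmod) (by decide)
    · exact ⟨S, hS⟩
  obtain ⟨k, hk⟩ := sylow_two_conj S
  have hSmap : ∀ s ∈ sylS, k⁻¹ * β (k * s * k⁻¹) * k ∈ sylS := by
    intro s hs
    have h1 : k * s * k⁻¹ ∈ (S : Subgroup M) := hk ▸ ⟨s, hs, rfl⟩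
    have h2 : β (k * s * k⁻¹) ∈ (S : Subgroup M) := by
      rw [← hS]
      exact Subgroup.smul_mem_pointwise_smul _ β _ h1
    rw [hk] at h2
    obtain ⟨s', hs', e⟩ := h2
    rw [← e]
    simpa [mul_assoc] using hs'
  let θ' : MulAut ↥sylS :=
    { toFun := fun s => ⟨_, hSmap s s.2⟩
      invFun := fun s => ⟨_, hSmap s s.2⟩
      left_inv := fun s => Subtype.ext (by
        show k⁻¹ * β (k * (k⁻¹ * β (k * (s : M) * k⁻¹) * k) * k⁻¹) * k = s
        rw [show k * (k⁻¹ * β (k * (s : M) * k⁻¹) * k) * k⁻¹ = β (k * (s : M) * k⁻¹) by group, hβ2]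
        group)
      right_inv := fun s => Subtype.ext (by
        show k⁻¹ * β (k * (k⁻¹ * β (k * (s : M) * k⁻¹) * k) * k⁻¹) * k = s
        rw [show k * (k⁻¹ * β (k * (s : M) * k⁻¹) * k) * k⁻¹ = β (k * (s : M) * k⁻¹) by group, hβ2]
        group)
      map_mul' := fun s s' => Subtype.ext (by
        show k⁻¹ * β (k * ((s : M) * s') * k⁻¹) * k =
          k⁻¹ * β (k * (s : M) * k⁻¹) * k * (k⁻¹ * β (k * (s' : M) * k⁻¹) * k)
        rw [show k * ((s : M) * s') * k⁻¹ = k * (s : M) * k⁻¹ * (k * (s' : M) * k⁻¹) by group, map_mul]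
        group) }
  obtain ⟨F1, hF4, hfix⟩ := two_auto (θ := θ') (fun s => θ'.left_inv s)
  set F0 := F1.map ((MulAut.conj k).toMonoidHom.comp sylS.subtype) with hF0def
  have hinjF : Function.Injective ((MulAut.conj k).toMonoidHom.comp sylS.subtype) :=
    (MulAut.conj k).injective.comp sylS.subtype_injective
  have hF0 : ∀ f ∈ F0, β f = f := by
    rintro _ ⟨s, hs, rfl⟩
    have e : k⁻¹ * β (k * (s : M) * k⁻¹) * k = s := congrArg Subtype.val (hfix s hs)
    show β (k * (s : M) * k⁻¹) = k * (s : M) * k⁻¹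
    calc β (k * (s : M) * k⁻¹) = k * (k⁻¹ * β (k * (s : M) * k⁻¹) * k) * k⁻¹ := by group
      _ = _ := by rw [e]
  have hF0p : IsPGroup 2 ↥F0 := by
    refine IsPGroup.map (IsPGroup.to_subgroup ?_ F1) _
    exact IsPGroup.of_card (n := 7) (by rw [card_sylS]; norm_num)
  have hF0c : 4 ≤ Nat.card ↥F0 := by rwa [hF0def, Subgroup.card_map_of_injective hinjF]
  -- lift to elements centralised by v
  set L := F0.comap h.π with hL
  have hxC : x ∈ C := Subgroup.mem_centralizer_singleton_iff.mpr rfl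
  have hsL : ∀ c : ↥L, v * ((c : ↥C) : X) * v⁻¹ * ((c : ↥C) : X)⁻¹ ∈ Subgroup.zpowers x := by
    intro c
    have hm := h.conj_mem (Or.inr hvx) (c : ↥C).2
    have h1 := θapp vN (c : ↥C) hm
    rw [← hβ, hF0 _ c.2] at h1
    exact (h.ker (⟨_, hm⟩ * (c : ↥C)⁻¹)).mp (by rw [map_mul, map_inv, ← h1, mul_inv_cancel])
  let ρ : ↥L →* ↥(Subgroup.zpowers x) :=
    { toFun := fun c => ⟨_, hsL c⟩
      map_one' := Subtype.ext (by simp)
      map_mul' := fun a b => Subtype.ext (by
        set A : X := ((a : ↥C) : X)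
        set B : X := ((b : ↥C) : X)
        show v * (A * B) * v⁻¹ * (A * B)⁻¹ = v * A * v⁻¹ * A⁻¹ * (v * B * v⁻¹ * B⁻¹)
        obtain ⟨n, hn⟩ := Subgroup.mem_zpowers_iff.mp (hsL b)
        have hcA : Commute A (x ^ n) :=
          (show Commute A x from Subgroup.mem_centralizer_singleton_iff.mp (a : ↥C).2).zpow_right n
        calc v * (A * B) * v⁻¹ * (A * B)⁻¹ = v * A * v⁻¹ * (v * B * v⁻¹ * B⁻¹) * A⁻¹ := by group
          _ = v * A * v⁻¹ * (x ^ n * A⁻¹) := by rw [← hn, mul_assoc]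
          _ = v * A * v⁻¹ * A⁻¹ * x ^ n := by rw [← hcA.inv_left.eq]; group
          _ = _ := by rw [hn]) }
  let F := (ρ.ker.map L.subtype).map C.subtype
  have hFv : ∀ f ∈ F, f * x = x * f ∧ f * v = v * f ∧ ∃ j, f ^ 2 ^ j = 1 := by
    rintro _ ⟨_, ⟨c, hc, rfl⟩, rfl⟩
    have e : v * ((c : ↥C) : X) * v⁻¹ * ((c : ↥C) : X)⁻¹ = 1 := congrArg Subtype.val (MonoidHom.mem_ker.mp hc)
    have hcv : ((c : ↥C) : X) * v = v * ((c : ↥C) : X) :=
      (mul_inv_eq_iff_eq_mul.mp (mul_inv_eq_one.mp e)).symm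
    refine ⟨Subgroup.mem_centralizer_singleton_iff.mp (c : ↥C).2, hcv, ?_⟩
    obtain ⟨j, hj⟩ := hF0p ⟨h.π c, c.2⟩
    have hjj : h.π ((c : ↥C) ^ 2 ^ j) = 1 := by rw [map_pow]; exact congrArg Subtype.val hj
    obtain ⟨n, hn⟩ := Subgroup.mem_zpowers_iff.mp ((h.ker _).mp hjj)
    refine ⟨j, ?_⟩
    rw [Subgroup.coe_pow] at hn
    show ((c : ↥C) : X) ^ 2 ^ j = 1
    have hcm : Commute (((c : ↥C) : X) ^ 2 ^ j) v := (show Commute _ v from hcv).pow_left _
    rw [← hn] at hcm ⊢
    -- a power of x centralised by v is trivial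
    have e2 : (x ^ n) = (x ^ n)⁻¹ := by
      calc x ^ n = v * x ^ n * v⁻¹ := by rw [← hcm.eq, mul_inv_cancel_right]
        _ = (v * x * v⁻¹) ^ n := (conj_zpow).symm
        _ = (x ^ n)⁻¹ := by rw [hvx, inv_zpow]
    have e3 : x ^ n * x ^ n = 1 := by nth_rewrite 2 [e2]; exact mul_inv_cancel _
    have e4 : (x ^ n) ^ 3 = 1 := by
      rw [← zpow_natCast, ← zpow_mul, mul_comm, zpow_mul, zpow_natCast, h.x_pow, one_zpow]
    rwa [pow_succ, pow_two, e3, one_mul] at e4
  have hF4' : 4 ≤ Nat.card ↥F := by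
    rw [Subgroup.card_map_of_injective C.subtype_injective, Subgroup.card_map_of_injective L.subtype_injective]
    have h1 := Subgroup.card_mul_index ρ.ker
    rw [Subgroup.index_ker] at h1
    have h2 : Nat.card ↥ρ.range ≤ 3 := by
      refine (Subgroup.card_le_card_group _).trans ?_
      rw [Nat.card_zpowers, h.ord]
    have h3 : Nat.card ↥L = 3 * Nat.card ↥F0 := by
      set res : ↥L →* ↥F0 := (h.π.comp L.subtype).codRestrict F0 fun c => c.2
      have hres : Function.Surjective res := fun f => by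
        obtain ⟨c, hc⟩ := h.surj f
        exact ⟨⟨c, show h.π c ∈ F0 from hc.symm ▸ f.2⟩, Subtype.ext hc⟩
      have hkc : Nat.card ↥res.ker = 3 := by
        have he : (res.ker.map L.subtype).map C.subtype = Subgroup.zpowers x := by
          ext w
          constructor
          · rintro ⟨_, ⟨c, hc, rfl⟩, rfl⟩
            exact (h.ker _).mp (congrArg Subtype.val (MonoidHom.mem_ker.mp hc))
          · intro hw
            have hwC : w ∈ C := Subgroup.zpowers_le.mpr hxC hw
            have h1 : h.π ⟨w, hwC⟩ = 1 := (h.ker _).mpr hw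
            exact ⟨⟨w, hwC⟩, ⟨⟨⟨w, hwC⟩, show h.π _ ∈ F0 from h1.symm ▸ one_mem _⟩, MonoidHom.mem_ker.mpr (Subtype.ext h1),
              rfl⟩, rfl⟩
        rw [← h.ord, ← Nat.card_zpowers, ← he, Subgroup.card_map_of_injective C.subtype_injective,
          Subgroup.card_map_of_injective L.subtype_injective]
      have := Subgroup.card_mul_index res.ker
      rw [Subgroup.index_ker, MonoidHom.range_eq_top.mpr hres, Subgroup.card_top, hkc] at this
      exact this.symm
    nlinarith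
  -- conjugate back
  have hback : ∀ f ∈ F, (g⁻¹ * f * g) * x * (g⁻¹ * f * g)⁻¹ = x ∨ (g⁻¹ * f * g) * x * (g⁻¹ * f * g)⁻¹ = x⁻¹ := by
    intro f hf
    refine h.invol t ht htt ht1 _ ?_
    have h1 : Commute (g⁻¹ * f * g) (g⁻¹ * v * g) := by
      simpa using (show Commute f v from (hFv f hf).2.1).conj g⁻¹
    rw [show g⁻¹ * v * g = t by rw [← hg]; group] at h1
    exact h1.eq
  obtain ⟨a, haF, ha1, hax⟩ : ∃ a ∈ F, a ≠ 1 ∧ (g⁻¹ * a * g) * x = x * (g⁻¹ * a * g) := by
    by_contra hall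
    push Not at hall
    obtain ⟨a, ha, ha1⟩ := F.bot_or_exists_ne_one.resolve_left fun e => by
      rw [e, Subgroup.card_bot] at hF4'; omega
    obtain ⟨b, hb, hb1, hba⟩ : ∃ b ∈ F, b ≠ 1 ∧ b ≠ a := by
      by_contra hall'
      push Not at hall'
      have : (F : Set X) ⊆ {1, a} := fun b hb => by
        by_cases h1 : b = 1
        · exact Or.inl h1
        · exact Or.inr (hall' b hb h1)
      have h1 := Set.ncard_le_ncard this (Set.toFinite _)
      rw [Set.ncard_pair ha1.symm, ← Nat.card_coe_set_eq] at h1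
      exact absurd (le_trans hF4' h1) (by norm_num)
    refine hall _ (mul_mem (inv_mem ha) hb) (fun e => hba (inv_mul_eq_one.mp e).symm) ?_
    have := h.mul_mem_C (hback a ha) (hall a ha ha1) (hback b hb) (hall b hb hb1)
    rwa [show (g⁻¹ * a * g)⁻¹ * (g⁻¹ * b * g) = g⁻¹ * (a⁻¹ * b) * g by group] at this
  obtain ⟨hax0, -, j, hj⟩ := hFv a haF
  obtain ⟨n, hn2, hn1⟩ := h.exists_invol hj ha1
  have hcomm : Commute (g * x * g⁻¹) (a ^ n) := by
    refine Commute.pow_right ?_ n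
    have h1 : Commute (g⁻¹ * a * g) x := hax
    have h2 := h1.conj g
    rw [show g * (g⁻¹ * a * g) * g⁻¹ = a by group] at h2
    exact h2.symm
  have hN := h.invol (a ^ n) ((show Commute a x from hax0).pow_left n).eq hn2 hn1 (g * x * g⁻¹) hcomm.eq
  have hgN := h.iso g (h.N_three hN (by rw [conj_pow, h.x_pow, mul_one, mul_inv_cancel]))
  have := h.conj_mem hgN (Subgroup.mem_centralizer_singleton_iff.mpr ht)
  rw [hg] at this
  exact hvC (Subgroup.mem_centralizer_singleton_iff.mp this)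

/-- A Sylow 2-subgroup containing the outer involution normalises `⟨x⟩`. -/
theorem exists_sylow {u : X} (huu : u * u = 1) (hux : u * x * u⁻¹ = x⁻¹) :
    ∃ P : Sylow 2 X, u ∈ (P : Subgroup X) ∧ ∀ p ∈ (P : Subgroup X), p * x * p⁻¹ = x ∨ p * x * p⁻¹ = x⁻¹ := by
  classical
  have : Fact (Nat.Prime 2) := ⟨Nat.prime_two⟩
  set N := Subgroup.normalizer ((Subgroup.zpowers x : Subgroup X) : Set X)
  have hu1 : u ≠ 1 := fun e => h.x_ne_inv (by rw [← hux, e]; group)
  have hp : IsPGroup 2 ↥(Subgroup.zpowers (⟨u, h.mem_N.mpr (Or.inr hux)⟩ : ↥N)) := IsPGroup.of_card (n := 1)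
    (by rw [Nat.card_zpowers, ← Subgroup.orderOf_coe, pow_one]
        exact orderOf_eq_prime (by rw [sq]; exact huu) hu1)
  obtain ⟨T0, hT0⟩ := hp.exists_le_sylow
  set T : Subgroup X := (T0 : Subgroup ↥N).map N.subtype with hT
  have huT : u ∈ T := ⟨_, hT0 (Subgroup.mem_zpowers _), rfl⟩
  have hTN : ∀ p ∈ T, p * x * p⁻¹ = x ∨ p * x * p⁻¹ = x⁻¹ := fun p hp => h.mem_N.mp (Subgroup.map_subtype_le _ hp)
  have hTp : IsPGroup 2 ↥T := T0.2.map _
  obtain ⟨P, hP⟩ := hTp.exists_le_sylow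
  suffices hPT : (P : Subgroup X) = T by exact ⟨P, hPT.ge huT, fun p hp => hTN p (hPT.le hp)⟩
  by_contra hne
  -- a central involution of T centralising x
  have h4 : 4 ≤ Nat.card ↥T := by
    rw [hT, Subgroup.card_map_of_injective N.subtype_injective]
    have hC : Subgroup.centralizer ({x} : Set X) ≤ N := fun c hc => h.mem_N.mpr
      (Or.inl (by rw [Subgroup.mem_centralizer_singleton_iff.mp hc, mul_inv_cancel_right]))
    have hd : 4 ∣ Nat.card ↥N := by
      refine dvd_trans ?_ (Subgroup.card_dvd_of_le hC)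
      refine dvd_trans ?_ ((Subgroup.card_dvd_of_surjective h.π h.surj))
      rw [card_M]; norm_num
    exact Nat.le_of_dvd Nat.card_pos (T0.pow_dvd_card_of_pow_dvd_card (n := 2) hd)
  set CT := (Subgroup.centralizer ({x} : Set X)).subgroupOf T with hCT
  have hCTn : CT.Normal := ⟨fun n hn p => h.conj_mem (hTN p p.2) hn⟩
  have hCT1 : CT ≠ ⊥ := by
    intro e
    have hC1 : ∀ p ∈ T, p * x = x * p → p = 1 := fun p hp hpx => by
      have hm : (⟨p, hp⟩ : ↥T) ∈ CT := Subgroup.mem_subgroupOf.mpr (Subgroup.mem_centralizer_singleton_iff.mpr hpx)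
      rw [e, Subgroup.mem_bot] at hm
      exact congrArg Subtype.val hm
    have : (T : Set X) ⊆ {1, u} := by
      intro p hp
      by_cases hpx : p * x = x * p
      · exact Or.inl (hC1 p hp hpx)
      · refine Or.inr ?_
        have := hC1 (u⁻¹ * p) (mul_mem (inv_mem huT) hp) (h.mul_mem_C (Or.inr hux)
          (fun e' => h.x_ne_inv (by rw [← hux, e', mul_inv_cancel_right])) (hTN p hp) hpx)
        exact (inv_mul_eq_one.mp this).symm
    have h1 := Set.ncard_le_ncard this (Set.toFinite _)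
    rw [Set.ncard_pair hu1.symm, ← Nat.card_coe_set_eq] at h1
    exact absurd (le_trans h4 h1) (by norm_num)
  haveI := hTp.isNilpotent
  obtain ⟨⟨⟨a, haT⟩, ha⟩, ha1⟩ : ∃ a : ↥(CT ⊓ Subgroup.center ↥T), a ≠ 1 := by
    have := CfsgLib.inf_center_ne_bot_of_nilpotent (G := ↥T) (N := CT) hCT1
    obtain ⟨a, ha, ha1⟩ := (CT ⊓ Subgroup.center ↥T).bot_or_exists_ne_one.resolve_left this
    exact ⟨⟨a, ha⟩, fun e => ha1 (congrArg Subtype.val e)⟩
  have ha1' : a ≠ 1 := fun e => ha1 (Subtype.ext (Subtype.ext e))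
  obtain ⟨j, hj⟩ := hTp ⟨a, haT⟩
  obtain ⟨n, hn2, hn1⟩ := h.exists_invol (congrArg Subtype.val hj : a ^ 2 ^ j = 1) ha1'
  have hax : Commute a x := Subgroup.mem_centralizer_singleton_iff.mp ha.1
  have hcen : ∀ p ∈ T, p * a ^ n = a ^ n * p := fun p hp =>
    ((show Commute p a from congrArg Subtype.val (Subgroup.mem_center_iff.mp ha.2 ⟨p, hp⟩)).pow_right n).eq
  -- an element normalising T outside T
  have hlt : T.subgroupOf (P : Subgroup X) < ⊤ :=
    lt_top_iff_ne_top.mpr fun e => hne (le_antisymm (Subgroup.subgroupOf_eq_top.mp e) hP)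
  haveI := P.2.isNilpotent
  obtain ⟨⟨r, hrP⟩, hrN, hrT⟩ := SetLike.exists_of_lt (Group.normalizerCondition_of_isNilpotent _ hlt)
  rw [Subgroup.mem_subgroupOf] at hrT
  have hr : ∀ t ∈ T, r⁻¹ * t * r ∈ T := fun t ht => by
    have := (Subgroup.mem_normalizer_iff.mp (inv_mem hrN) ⟨t, hP ht⟩).mp ht
    simpa [Subgroup.mem_subgroupOf] using this
  have hrnT : ∀ t ∈ T, r * t * r⁻¹ ∈ T := fun t ht =>
    ((Subgroup.mem_normalizer_iff.mp hrN ⟨t, hP ht⟩).mp ht :)
  set b := r * a ^ n * r⁻¹ with hb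
  have hbb : b * b = 1 := by
    rw [hb, show r * a ^ n * r⁻¹ * (r * a ^ n * r⁻¹) = r * (a ^ n * a ^ n) * r⁻¹ by group, hn2]; group
  have hbT : b ∈ T := hrnT _ (pow_mem haT n)
  have hbx : b * x = x * b := by
    rcases hTN b hbT with e | e
    · exact mul_inv_eq_iff_eq_mul.mp e
    · exact (h.not_conj hbb e (hax.pow_left n).eq hn2 hb.symm).elim
  have hb1 : b ≠ 1 := fun e => hn1 (conj_eq_one_iff.mp e)
  have h1 : Commute (r * x * r⁻¹) b := (hax.pow_left n).symm.conj r
  have hrN' := h.iso r (h.N_three (h.invol b hbx hbb hb1 _ h1.eq) (by rw [conj_pow, h.x_pow, mul_one, mul_inv_cancel]))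
  have hR : IsPGroup 2 ↥((T ⊔ Subgroup.zpowers r).subgroupOf N) :=
    IsPGroup.comap_of_injective (P.2.to_le (sup_le hP (Subgroup.zpowers_le.mpr hrP))) N.subtype N.subtype_injective
  have hle : (T0 : Subgroup ↥N) ≤ (T ⊔ Subgroup.zpowers r).subgroupOf N := fun c hc =>
    le_sup_left (b := Subgroup.zpowers r) ⟨c, hc, rfl⟩
  have := T0.3 hR hle
  have hrT0 : (⟨r, h.mem_N.mpr hrN'⟩ : ↥N) ∈ (T0 : Subgroup ↥N) :=
    this ▸ le_sup_right (a := T) (Subgroup.mem_zpowers r)
  exact hrT ⟨_, hrT0, rfl⟩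

/-- `⟨x⟩` is normal. -/
theorem normal (g : X) : g * x * g⁻¹ = x ∨ g * x * g⁻¹ = x⁻¹ := by
  classical
  have : Fact (Nat.Prime 2) := ⟨Nat.prime_two⟩
  set C := Subgroup.centralizer ({x} : Set X) with hCdef
  set N := Subgroup.normalizer ((Subgroup.zpowers x : Subgroup X) : Set X)
  obtain ⟨u, huu, hux⟩ := h.exists_outer
  have hu1 : u ≠ 1 := fun e => h.x_ne_inv (by rw [← hux, e]; group)
  have huC : u ∉ C := fun e => h.x_ne_inv (by rw [← hux, Subgroup.mem_centralizer_singleton_iff.mp e, mul_inv_cancel_right])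
  obtain ⟨P, huP, hPN⟩ := h.exists_sylow huu hux
  have hQi : ((P : Subgroup X) ⊓ C).relIndex (P : Subgroup X) = 2 := by
    rw [Subgroup.relIndex, Subgroup.inf_subgroupOf_left]
    refine Subgroup.index_eq_two_iff.mpr ⟨⟨u, huP⟩, fun b => ?_⟩
    have hb := hPN b b.2
    rw [Subgroup.mem_subgroupOf, Subgroup.mem_subgroupOf, Subgroup.coe_mul]
    by_cases hbx : (b : X) * x = x * b
    · refine Or.inr ⟨Subgroup.mem_centralizer_singleton_iff.mpr hbx, fun e => huC ?_⟩
      have := C.mul_mem (C.inv_mem (Subgroup.mem_centralizer_singleton_iff.mpr hbx)) e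
      rwa [inv_mul_cancel_left] at this
    · refine Or.inl ⟨Subgroup.mem_centralizer_singleton_iff.mpr ?_, fun e => hbx (Subgroup.mem_centralizer_singleton_iff.mp e)⟩
      have eb := hb.resolve_left fun e => hbx (mul_inv_eq_iff_eq_mul.mp e)
      calc (b : X) * u * x = (b : X) * (u * x * u⁻¹) * u := by group
        _ = ((b : X) * x * (b : X)⁻¹)⁻¹ * (b * u) := by rw [hux]; group
        _ = x * (b * u) := by rw [eb, inv_inv]
  rcases Cfsg.Agent.S0111.result P ((P : Subgroup X) ⊓ C) inf_le_left hQi u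
    (orderOf_eq_prime (by rw [sq]; exact huu) hu1) huP (fun hm => huC hm.2) with ⟨X1, hX1n, hX1i, huX1⟩ | ⟨k, hk⟩
  swap
  · exfalso
    refine h.not_conj (t := k * u * k⁻¹) (g := k⁻¹) huu hux (Subgroup.mem_centralizer_singleton_iff.mp hk.2) ?_ (by group)
    rw [show k * u * k⁻¹ * (k * u * k⁻¹) = k * (u * u) * k⁻¹ by group, huu]; group
  have hCX1 : C ≤ X1 := by
    intro c hc
    have hker : (⊤ : Subgroup ↥C) ≤ ((QuotientGroup.mk' X1).comp C.subtype).ker := by
      rw [← h.perf, Subgroup.commutator_le]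
      intro a _ b _
      rw [MonoidHom.mem_ker, map_commutatorElement]
      haveI : IsCyclic (X ⧸ X1) := isCyclic_of_prime_card (p := 2) hX1i
      exact commutatorElement_eq_one_iff_mul_comm.mpr (mul_comm' _ _)
    exact (QuotientGroup.eq_one_iff (N := X1) c).mp (hker (Subgroup.mem_top ⟨c, hc⟩))
  have hNX1 : ∀ p, (p * x * p⁻¹ = x ∨ p * x * p⁻¹ = x⁻¹) → p ∈ X1 → p ∈ C := by
    intro p hp hpX
    by_contra hpC
    have h1 := hCX1 (Subgroup.mem_centralizer_singleton_iff.mpr (h.mul_mem_C hp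
      (fun e => hpC (Subgroup.mem_centralizer_singleton_iff.mpr e)) (Or.inr hux)
      (fun e => huC (Subgroup.mem_centralizer_singleton_iff.mpr e))))
    have := mul_mem hpX h1
    rw [mul_inv_cancel_left] at this
    exact huX1 this
  suffices hall : X1 ≤ C by
    by_cases hg : g ∈ X1
    · exact Or.inl (by rw [Subgroup.mem_centralizer_singleton_iff.mp (hall hg), mul_inv_cancel_right])
    · have hgu : g * u⁻¹ ∈ X1 := by
        rw [Subgroup.mul_mem_iff_of_index_two hX1i]
        simp only [inv_mem_iff, hg, huX1]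
      have h1 := Subgroup.mem_centralizer_singleton_iff.mp (hall hgu)
      refine Or.inr ?_
      have h2 : Commute (g * u⁻¹) x⁻¹ := (show Commute (g * u⁻¹) x from h1).inv_right
      calc g * x * g⁻¹ = (g * u⁻¹) * (u * x * u⁻¹) * (g * u⁻¹)⁻¹ := by group
        _ = x⁻¹ := by rw [hux, h2.eq, mul_inv_cancel_right]
  by_contra hnot
  -- the bound on intersections
  have hD : ∀ i, i ∈ X1 → i ∉ C → ∀ D : Subgroup X, D ≤ C → (∀ d ∈ D, i⁻¹ * d * i ∈ C) → Nat.card ↥D ≤ 385 := by
    intro i hiX hiC D hDC hDi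
    have key : ∀ d ∈ D, (i * x * i⁻¹) * d = d * (i * x * i⁻¹) := by
      intro d hd
      have h1 : Commute (i⁻¹ * d * i) x := Subgroup.mem_centralizer_singleton_iff.mp (hDi d hd)
      have h2 := h1.conj i
      rw [show i * (i⁻¹ * d * i) * i⁻¹ = d by group] at h2
      exact h2.symm.eq
    have hbad : ∀ (hN : i * x * i⁻¹ * x * (i * x * i⁻¹)⁻¹ = x ∨ i * x * i⁻¹ * x * (i * x * i⁻¹)⁻¹ = x⁻¹), False :=
      fun hN => hiC (hNX1 i (h.iso i (h.N_three hN (by rw [conj_pow, h.x_pow, mul_one, mul_inv_cancel]))) hiX)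
    have n2 : ¬ 2 ∣ Nat.card ↥D := fun h2 => by
      obtain ⟨⟨d, hd⟩, hdo⟩ := exists_prime_orderOf_dvd_card' 2 h2
      rw [← Subgroup.orderOf_coe] at hdo
      refine hbad (h.invol d (Subgroup.mem_centralizer_singleton_iff.mp (hDC hd)) ?_ (fun e => ?_) _ (key d hd))
      · rw [← sq, ← hdo]; exact pow_orderOf_eq_one d
      · subst e; rw [orderOf_one] at hdo; norm_num at hdo
    have n3 : ¬ 3 ∣ Nat.card ↥D := fun h3 => by
      have : Fact (Nat.Prime 3) := ⟨by norm_num⟩
      obtain ⟨⟨d, hd⟩, hdo⟩ := exists_prime_orderOf_dvd_card' 3 h3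
      rw [← Subgroup.orderOf_coe] at hdo
      have hd3 : d ^ 3 = 1 := hdo ▸ pow_orderOf_eq_one d
      by_cases hdP : d ∈ Subgroup.zpowers x
      · have he : Subgroup.zpowers d = Subgroup.zpowers x := Subgroup.eq_of_le_of_card_ge (Subgroup.zpowers_le.mpr hdP)
          (by rw [Nat.card_zpowers, Nat.card_zpowers, hdo, h.ord])
        obtain ⟨n, hn⟩ := Subgroup.mem_zpowers_iff.mp (he.ge (Subgroup.mem_zpowers x))
        refine hiC (hNX1 i (h.iso i ?_) hiX)
        have := ((show Commute (i * x * i⁻¹) d from key d hd).zpow_right n).eq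
        rwa [hn] at this
      · exact hbad (h.three d (Subgroup.mem_centralizer_singleton_iff.mp (hDC hd)) hd3 hdP _ (key d hd))
    have hcard : Nat.card ↥C = 3 * 443520 := by
      have h1 := Subgroup.card_mul_index h.π.ker
      rw [Subgroup.index_ker, MonoidHom.range_eq_top.mpr h.surj, Subgroup.card_top, card_M] at h1
      have h2 : h.π.ker.map C.subtype = Subgroup.zpowers x := by
        ext w
        constructor
        · rintro ⟨c, hc, rfl⟩; exact (h.ker c).mp hc
        · intro hw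
          have hwC : w ∈ C := Subgroup.zpowers_le.mpr (Subgroup.mem_centralizer_singleton_iff.mpr rfl) hw
          exact ⟨⟨w, hwC⟩, (h.ker _).mpr hw, rfl⟩
      have h3 : Nat.card ↥(h.π.ker.map C.subtype) = Nat.card ↥h.π.ker :=
        Subgroup.card_map_of_injective C.subtype_injective
      rw [h2, Nat.card_zpowers, h.ord] at h3
      rw [← h1, ← h3]
    have hdvd : Nat.card ↥D ∣ 2 ^ 7 * 3 ^ 3 * 385 := by
      have := Subgroup.card_dvd_of_le hDC
      rwa [hcard, show 3 * 443520 = 2 ^ 7 * 3 ^ 3 * 385 by norm_num] at this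
    have hcop : Nat.Coprime (Nat.card ↥D) (2 ^ 7 * 3 ^ 3) :=
      Nat.Coprime.mul_right (Nat.Coprime.pow_right _ (Nat.prime_two.coprime_iff_not_dvd.mpr n2).symm)
        (Nat.Coprime.pow_right _ (Nat.prime_three.coprime_iff_not_dvd.mpr n3).symm)
    exact Nat.le_of_dvd (by norm_num) (hcop.dvd_of_dvd_mul_left hdvd)
  -- counting involutions
  obtain ⟨g0, hg0X, hg0C⟩ := SetLike.not_le_iff_exists.mp hnot
  have hCN : C ≤ N := fun c hc => h.mem_N.mpr
    (Or.inl (by rw [Subgroup.mem_centralizer_singleton_iff.mp hc, mul_inv_cancel_right]))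
  have hCNi : C.relIndex N = 2 := by
    rw [Subgroup.relIndex]
    refine Subgroup.index_eq_two_iff.mpr ⟨⟨u, h.mem_N.mpr (Or.inr hux)⟩, fun b => ?_⟩
    rw [Subgroup.mem_subgroupOf, Subgroup.mem_subgroupOf, Subgroup.coe_mul]
    by_cases hbx : (b : X) * x = x * b
    · refine Or.inr ⟨Subgroup.mem_centralizer_singleton_iff.mpr hbx, fun e => huC ?_⟩
      have := C.mul_mem (C.inv_mem (Subgroup.mem_centralizer_singleton_iff.mpr hbx)) e
      rwa [inv_mul_cancel_left] at this
    · refine Or.inl ⟨Subgroup.mem_centralizer_singleton_iff.mpr ?_, fun e => hbx (Subgroup.mem_centralizer_singleton_iff.mp e)⟩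
      have eb := (h.mem_N.mp b.2).resolve_left fun e => hbx (mul_inv_eq_iff_eq_mul.mp e)
      calc (b : X) * u * x = (b : X) * (u * x * u⁻¹) * u := by group
        _ = ((b : X) * x * (b : X)⁻¹)⁻¹ * (b * u) := by rw [hux]; group
        _ = x * (b * u) := by rw [eb, inv_inv]
  have hidx : C.relIndex X1 = N.index := by
    have a1 := Subgroup.relIndex_mul_index hCX1
    have a2 := Subgroup.relIndex_mul_index hCN
    rw [hX1i] at a1
    rw [hCNi] at a2
    omega
  let I1 := {i : ↥X1 // (i : X) * i = 1 ∧ i ≠ 1}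
  let I0 := {c : ↥C // c * c = 1 ∧ c ≠ 1}
  have := Fintype.ofFinite I1
  have := Fintype.ofFinite I0
  have := Fintype.ofFinite (↥X1 ⧸ C.subgroupOf X1)
  set n := Fintype.card I0 with hn
  have hn1155 : 1155 ≤ n := by
    rw [hn, ← Nat.card_eq_fintype_card]
    refine invol_count.trans (Nat.card_le_card_of_surjective (fun c : I0 => (⟨h.π c.1, by
      rw [← map_mul, c.2.1, map_one], fun e => by
        obtain ⟨k, hk⟩ := Subgroup.mem_zpowers_iff.mp ((h.ker _).mp e)
        have h2 : ((c.1 : ↥C) : X) * c.1 = 1 := congrArg Subtype.val c.2.1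
        have h3 : ((c.1 : ↥C) : X) ^ 3 = 1 := by
          rw [← hk, ← zpow_natCast, ← zpow_mul, mul_comm, zpow_mul, zpow_natCast, h.x_pow, one_zpow]
        rw [pow_succ, pow_two, h2, one_mul] at h3
        exact c.2.2 (Subtype.ext h3)⟩ : {i : M // i * i = 1 ∧ i ≠ 1})) ?_)
    rintro ⟨m, hm, hm1⟩
    obtain ⟨c, rfl⟩ := h.surj m
    have hcc : h.π (c * c) = 1 := by rw [map_mul, hm]
    obtain ⟨k, hk⟩ := Subgroup.mem_zpowers_iff.mp ((h.ker _).mp hcc)
    have hpi : h.π (c * c * c) = h.π c := by rw [map_mul, hcc, one_mul]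
    refine ⟨⟨c * c * c, Subtype.ext ?_, fun e => hm1 (by rw [← hpi, e, map_one])⟩, Subtype.ext hpi⟩
    simp only [Subgroup.coe_mul] at hk ⊢
    calc (c : X) * c * c * ((c : X) * c * c) = (c * c) * (c * c) * (c * c : X) := by group
      _ = 1 := by
        rw [← hk, ← zpow_add, ← zpow_add, show k + k + k = ((3 : ℕ) : ℤ) * k by omega, zpow_mul, zpow_natCast,
          h.x_pow, one_zpow]
  -- conjugates of inner involutions
  have hlow : N.index * n ≤ Fintype.card I1 := by
    have hinX1 : ∀ (q : X ⧸ N) (c : I0), q.out * ((c.1 : ↥C) : X) * q.out⁻¹ ∈ X1 :=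
      fun q c => hX1n.conj_mem _ (hCX1 c.1.2) _
    let f : (X ⧸ N) × I0 → I1 := fun t => ⟨⟨_, hinX1 t.1 t.2⟩, by
      show t.1.out * ((t.2.1 : ↥C) : X) * t.1.out⁻¹ * (t.1.out * ((t.2.1 : ↥C) : X) * t.1.out⁻¹) = 1
      have h2 : ((t.2.1 : ↥C) : X) * t.2.1 = 1 := congrArg Subtype.val t.2.2.1
      calc _ = t.1.out * (((t.2.1 : ↥C) : X) * t.2.1) * t.1.out⁻¹ := by group
        _ = 1 := by rw [h2]; group, fun e => t.2.2.2 (Subtype.ext (conj_eq_one_iff.mp (congrArg Subtype.val e)))⟩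
    have hf : Function.Injective f := by
      rintro ⟨q, c⟩ ⟨q', c'⟩ e
      have e' : q.out * ((c.1 : ↥C) : X) * q.out⁻¹ = q'.out * ((c'.1 : ↥C) : X) * q'.out⁻¹ :=
        congrArg (fun i : I1 => ((i.1 : ↥X1) : X)) e
      set k := q'.out⁻¹ * q.out with hk
      have hkc : k * ((c.1 : ↥C) : X) * k⁻¹ = c'.1 := by
        calc k * ((c.1 : ↥C) : X) * k⁻¹ = q'.out⁻¹ * (q.out * ((c.1 : ↥C) : X) * q.out⁻¹) * q'.out := by
              rw [hk]; group
          _ = c'.1 := by rw [e']; group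
      have h1 : Commute (k * x * k⁻¹) ((c'.1 : ↥C) : X) := by
        rw [← hkc]
        exact (show Commute x ((c.1 : ↥C) : X) from (Subgroup.mem_centralizer_singleton_iff.mp c.1.2).symm).conj k
      have hkN := h.iso k (h.N_three (h.invol _ (Subgroup.mem_centralizer_singleton_iff.mp c'.1.2)
        (congrArg Subtype.val c'.2.1) (fun e1 => c'.2.2 (Subtype.ext e1)) _ h1.eq)
        (by rw [conj_pow, h.x_pow, mul_one, mul_inv_cancel]))
      have hq : q' = q := by
        rw [← q'.out_eq', ← q.out_eq', QuotientGroup.eq]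
        exact h.mem_N.mpr hkN
      subst hq
      refine Prod.ext rfl (Subtype.ext (Subtype.ext ?_))
      exact mul_left_cancel (mul_right_cancel e')
    have := Nat.card_le_card_of_injective f hf
    rwa [Nat.card_prod, ← Subgroup.index_eq_card, Nat.card_eq_fintype_card, Nat.card_eq_fintype_card] at this
  set pr : I1 → ↥X1 ⧸ C.subgroupOf X1 := fun i => (i.1 : ↥X1 ⧸ C.subgroupOf X1) with hpr
  have hfib : ∀ q, q ≠ ((1 : ↥X1) : ↥X1 ⧸ C.subgroupOf X1) →
      ((Finset.univ : Finset I1).filter fun i => pr i = q).card ≤ 385 := by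
    intro q hq
    rcases Finset.eq_empty_or_nonempty ((Finset.univ : Finset I1).filter fun i => pr i = q) with e | ⟨i, hi⟩
    · rw [e]; simp
    have hiq := (Finset.mem_filter.mp hi).2
    set I : X := ((i.1 : ↥X1) : X) with hI
    have hiC : I ∉ C := fun hc => hq (by
      rw [← hiq, hpr, QuotientGroup.eq, Subgroup.mem_subgroupOf]
      show (((i.1)⁻¹ * 1 : ↥X1) : X) ∈ C
      rw [mul_one, Subgroup.coe_inv]
      exact inv_mem hc)
    set D : Subgroup X := C ⊓ C.comap (MulAut.conj I⁻¹).toMonoidHom with hDdef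
    have hle := hD I i.1.2 hiC D inf_le_left (fun d hd => by
      have h1 := hd.2
      have h2 : MulAut.conj I⁻¹ d ∈ C := h1
      simpa using h2)
    have hii : I⁻¹ = I := inv_eq_of_mul_eq_one_left i.2.1
    have hmem : ∀ j ∈ ((Finset.univ : Finset I1).filter fun i => pr i = q), I * ((j.1 : ↥X1) : X) ∈ D := by
      intro j hj
      have hjq := (Finset.mem_filter.mp hj).2
      have h1 : I⁻¹ * ((j.1 : ↥X1) : X) ∈ C := by
        have h0 : (i.1)⁻¹ * j.1 ∈ C.subgroupOf X1 := QuotientGroup.eq.mp (hiq.trans hjq.symm)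
        exact h0
      rw [hii] at h1
      refine ⟨h1, ?_⟩
      show I⁻¹ * (I * ((j.1 : ↥X1) : X)) * I⁻¹⁻¹ ∈ C
      rw [inv_mul_cancel_left, inv_inv]
      have h2 := inv_mem h1
      rwa [mul_inv_rev, inv_eq_of_mul_eq_one_left j.2.1, hii] at h2
    refine le_trans ?_ hle
    rw [← Nat.card_eq_finsetCard]
    exact Nat.card_le_card_of_injective (fun j => (⟨_, hmem j.1 j.2⟩ : ↥D)) (fun j j' e =>
      Subtype.ext (Subtype.ext (Subtype.ext (mul_left_cancel (congrArg Subtype.val e)))))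
  have hbase : ((Finset.univ : Finset I1).filter fun i => pr i = ((1 : ↥X1) : ↥X1 ⧸ C.subgroupOf X1)).card ≤ n := by
    rw [hn, ← Nat.card_eq_fintype_card, ← Nat.card_eq_finsetCard]
    have hmem : ∀ i ∈ ((Finset.univ : Finset I1).filter fun i => pr i = ((1 : ↥X1) : ↥X1 ⧸ C.subgroupOf X1)),
        ((i.1 : ↥X1) : X) ∈ C := by
      intro i hi
      have h0 : (i.1)⁻¹ * 1 ∈ C.subgroupOf X1 := QuotientGroup.eq.mp (Finset.mem_filter.mp hi).2
      rw [mul_one, inv_mem_iff] at h0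
      exact h0
    refine Nat.card_le_card_of_injective (fun i => (⟨⟨_, hmem i.1 i.2⟩, Subtype.ext i.1.2.1,
      fun e => i.1.2.2 (Subtype.ext (congrArg Subtype.val e :))⟩ : I0)) (fun i i' e => ?_)
    exact Subtype.ext (Subtype.ext (Subtype.ext (congrArg (fun c : I0 => ((c.1 : ↥C) : X)) e :)))
  have hsum := Finset.card_eq_sum_card_fiberwise (f := pr) (s := (Finset.univ : Finset I1))
    (t := (Finset.univ : Finset (↥X1 ⧸ C.subgroupOf X1))) (fun _ _ => Finset.mem_coe.mpr (Finset.mem_univ _))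
  rw [Finset.card_univ, ← Finset.add_sum_erase _ _ (Finset.mem_univ ((1 : ↥X1) : ↥X1 ⧸ C.subgroupOf X1))] at hsum
  have hrest := Finset.sum_le_card_nsmul ((Finset.univ : Finset (↥X1 ⧸ C.subgroupOf X1)).erase
    ((1 : ↥X1) : ↥X1 ⧸ C.subgroupOf X1)) _ 385 (fun q hq => hfib q (Finset.ne_of_mem_erase hq))
  rw [Finset.card_erase_of_mem (Finset.mem_univ _), Finset.card_univ, smul_eq_mul] at hrest
  have hm : Fintype.card (↥X1 ⧸ C.subgroupOf X1) = N.index := by
    rw [← Nat.card_eq_fintype_card, ← hidx, Subgroup.relIndex, Subgroup.index_eq_card]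
  rw [hm] at hrest
  have hm2 : 2 ≤ N.index := by
    rw [← hidx]
    have h0 : C.relIndex X1 ≠ 0 := Subgroup.index_ne_zero_of_finite
    have h1 : C.relIndex X1 ≠ 1 := fun e => hnot (Subgroup.relIndex_eq_one.mp e)
    omega
  obtain ⟨m, hmm⟩ : ∃ m, N.index = m + 2 := ⟨_, (Nat.sub_add_cancel hm2).symm⟩
  rw [hmm] at hlow hrest
  simp only [Nat.add_sub_cancel, show m + 2 - 1 = m + 1 by omega] at hrest
  nlinarith

end Core

end CfsgLib.JankoSix
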