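/-
A finite check in the general linear group of dimension four over the field with two elements.
-/
import Mathlib.Algebra.Group.End
import Mathlib.Data.List.Range
import Mathlib.Data.Nat.Bitwise

set_option autoImplicit false

namespace CfsgLib.JankoSix.GLFour

/-- A linear map given by the images of the four basis vectors `1, 2, 4, 8`. -/
abbrev Mat : Type := ℕ × ℕ × ℕ × ℕ

/-- Application to the vector with bits `v`. -/
def app (f : Mat) (v : ℕ) : ℕ :=
  ((if v % 2 == 1 then f.1 else 0) ^^^ (if v / 2 % 2 == 1 then f.2.1 else 0)) ^^^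
    ((if v / 4 % 2 == 1 then f.2.2.1 else 0) ^^^ (if v / 8 % 2 == 1 then f.2.2.2 else 0))

/-- Composition. -/
def comp (f g : Mat) : Mat := (app f g.1, app f g.2.1, app f g.2.2.1, app f g.2.2.2)

def mI : Mat := (1, 2, 4, 8)
def mX : Mat := (2, 3, 8, 12)
def mY : Mat := (3, 1, 8, 12)
def mX2 : Mat := comp mX mX
def mY2 : Mat := comp mY mY

/-- The witnesses. -/
def good (g p : Mat) : Bool :=
  comp g mX == comp mY g || comp g mX == comp mY2 g || comp g p == comp mY g || comp g p == comp mY2 g ||
    (comp g mY == comp mY g && comp g mX != comp mX g && comp g mX != comp mX2 g)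

/-- The five witness words in `p`. -/
def wordsOf (p : Mat) : List Mat :=
  [mI, p, comp p mY, comp p (comp mY mY), comp p (comp mY (comp p mY))]

/-- `p² = p + 1`. -/
def free (p : Mat) : Bool :=
  app p p.1 == (1 ^^^ p.1) && app p p.2.1 == (2 ^^^ p.2.1) && app p p.2.2.1 == (4 ^^^ p.2.2.1) &&
    app p p.2.2.2 == (8 ^^^ p.2.2.2)

def check : Bool :=
  (List.range 16).all fun a => (List.range 16).all fun b => (List.range 16).all fun c =>
    (List.range 16).all fun d =>
      !free (a, b, c, d) || (a, b, c, d) == mX || (a, b, c, d) == mX2 ||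
        (wordsOf (a, b, c, d)).any (fun g => good g (a, b, c, d))

theorem check_true : check = true := by decide +kernel

/-- Every fixed-point-free map of order three other than `mX`, `mX2` has a witness. -/
theorem witness {p : Mat} (ha : p.1 < 16) (hb : p.2.1 < 16) (hc : p.2.2.1 < 16) (hd : p.2.2.2 < 16)
    (hp : free p = true) : p = mX ∨ p = mX2 ∨ ∃ g ∈ wordsOf p, good g p = true := by
  have h := List.all_eq_true.mp (List.all_eq_true.mp (List.all_eq_true.mp
    (List.all_eq_true.mp check_true p.1 (List.mem_range.mpr ha)) p.2.1 (List.mem_range.mpr hb))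
    p.2.2.1 (List.mem_range.mpr hc)) p.2.2.2 (List.mem_range.mpr hd)
  simp only [Bool.or_eq_true, Bool.not_eq_true', beq_iff_eq, List.any_eq_true] at h
  rw [show (p.1, p.2.1, p.2.2.1, p.2.2.2) = p from rfl, hp] at h
  rcases h with ((h | h) | h) | h
  · exact absurd h (by simp)
  · exact Or.inl h
  · exact Or.inr (Or.inl h)
  · exact Or.inr (Or.inr h)

end CfsgLib.JankoSix.GLFour
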