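/-
A group of exponent two acted on by two commuting elements of order three, the first without fixed points,
is the product of the three fixed parts of the remaining cyclic subgroups.
-/
import Cfsg.Agent.Lib.Coprime
import Mathlib.GroupTheory.Perm.Cycle.Type

set_option autoImplicit false

namespace CfsgLib.JankoSix

section Module

variable {V : Type*} [CommGroup V] [Finite V]

/-- A fixed-point-free automorphism of order three on a 2-group: the order is a power of four. -/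
theorem card_free {W : Type*} [Group W] [Finite W] (hp : IsPGroup 2 W) (φ : W → W)
    (hφ : ∀ v, φ (φ (φ v)) = v) (h1 : φ 1 = 1) (hfree : ∀ v, φ v = v → v = 1) :
    ∃ j : ℕ, Nat.card W = 4 ^ j := by
  classical
  have : Fact (Nat.Prime 2) := ⟨Nat.prime_two⟩
  have : Fact (Nat.Prime 3) := ⟨Nat.prime_three⟩
  have := Fintype.ofFinite W
  obtain ⟨m, hm⟩ := IsPGroup.iff_card.mp hp
  let α : Function.End W := φ
  have hα : α ^ 3 ^ 1 = 1 := by
    rw [pow_one]
    exact funext hφ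
  have hmod := Equiv.Perm.card_fixedPoints_modEq (p := 3) (n := 1) (f := α) hα
  simp only [← Nat.card_eq_fintype_card] at hmod
  have hfix : Function.fixedPoints α = {1} := by
    ext v
    simp only [Set.mem_singleton_iff]
    exact ⟨fun e => hfree v e, fun e => e ▸ h1⟩
  rw [hm, hfix, Nat.card_coe_set_eq, Set.ncard_singleton] at hmod
  rcases Nat.even_or_odd m with ⟨j, rfl⟩ | ⟨j, rfl⟩
  · exact ⟨j, by rw [hm, ← two_mul, pow_mul]; norm_num⟩
  · exfalso
    have h4 : 4 ^ j % 3 = 1 := by rw [Nat.pow_mod]; norm_num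
    rw [pow_succ, pow_mul, Nat.ModEq] at hmod
    norm_num [Nat.mul_mod, h4] at hmod

/-- The fixed points of an endomorphism. -/
def fixSub {W : Type*} [Group W] (θ : W →* W) : Subgroup W where
  carrier := {v | θ v = v}
  one_mem' := map_one θ
  mul_mem' := fun {u v} hu hv => by
    show θ (u * v) = u * v
    rw [map_mul, show θ u = u from hu, show θ v = v from hv]
  inv_mem' := fun {u} hu => by
    show θ u⁻¹ = u⁻¹
    rw [map_inv, show θ u = u from hu]

theorem mem_fixSub {W : Type*} [Group W] {θ : W →* W} {v : W} : v ∈ fixSub θ ↔ θ v = v := Iff.rfl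

omit [Finite V] in
/-- The decomposition into three parts. -/
theorem three_parts (φ ψ : V →* V) (hφ : ∀ v, φ (φ (φ v)) = v) (hψ : ∀ v, ψ (ψ (ψ v)) = v)
    (hc : ∀ v, φ (ψ v) = ψ (φ v)) (hsq : ∀ v : V, v * v = 1) (hfree : ∀ v, φ v = v → v = 1) :
    Nat.card V = Nat.card ↥(fixSub ψ) * Nat.card ↥(fixSub (φ.comp ψ)) *
      Nat.card ↥(fixSub (φ.comp (φ.comp ψ))) := by
  classical
  -- the trace of `φ` vanishes
  have tr : ∀ m : V, m * φ m * φ (φ m) = 1 := fun m => hfree _ (by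
    rw [map_mul, map_mul, hφ]
    calc φ m * φ (φ m) * m = m * (φ m * φ (φ m)) := mul_comm _ _
      _ = m * φ m * φ (φ m) := (mul_assoc _ _ _).symm)
  have hv3 : ∀ v : V, v * v * v = v := fun v => by rw [hsq, one_mul]
  let P : (V →* V) → V → V := fun θ v => v * θ v * θ (θ v)
  have memP : ∀ θ : V →* V, (∀ v, θ (θ (θ v)) = v) → ∀ v, P θ v ∈ fixSub θ := fun θ hθ v => by
    show θ (v * θ v * θ (θ v)) = v * θ v * θ (θ v)
    rw [map_mul, map_mul, hθ]
    calc θ v * θ (θ v) * v = v * (θ v * θ (θ v)) := mul_comm _ _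
      _ = v * θ v * θ (θ v) := (mul_assoc _ _ _).symm
  have h1 : ∀ v, φ.comp ψ (φ.comp ψ (φ.comp ψ v)) = v := fun v => by
    simp only [MonoidHom.comp_apply]
    simp only [← hc, hψ, hφ]
  have h2 : ∀ v, φ.comp (φ.comp ψ) (φ.comp (φ.comp ψ) (φ.comp (φ.comp ψ) v)) = v := fun v => by
    simp only [MonoidHom.comp_apply]
    simp only [← hc, hψ, hφ]
  let f : ↥(fixSub ψ) × ↥(fixSub (φ.comp ψ)) × ↥(fixSub (φ.comp (φ.comp ψ))) → V :=
    fun t => t.1.1 * t.2.1.1 * t.2.2.1
  have hsurj : Function.Surjective f := by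
    intro v
    refine ⟨⟨⟨P ψ v, memP ψ hψ v⟩, ⟨P (φ.comp ψ) v, memP _ h1 v⟩, ⟨P (φ.comp (φ.comp ψ)) v, memP _ h2 v⟩⟩, ?_⟩
    show P ψ v * P (φ.comp ψ) v * P (φ.comp (φ.comp ψ)) v = v
    simp only [P, MonoidHom.comp_apply]
    simp only [← hc, hφ]
    calc v * ψ v * ψ (ψ v) * (v * φ (ψ v) * φ (φ (ψ (ψ v)))) * (v * φ (φ (ψ v)) * φ (ψ (ψ v)))
        = (v * v * v) * ((ψ v * φ (ψ v) * φ (φ (ψ v))) * (ψ (ψ v) * φ (ψ (ψ v)) * φ (φ (ψ (ψ v))))) := by
          simp only [mul_comm, mul_left_comm, mul_assoc]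
      _ = v := by rw [tr, tr, one_mul, mul_one, hv3]
  have hψ0 : ∀ v, φ.comp ψ v = v → ψ v = φ (φ v) := fun v hv => by
    calc ψ v = φ (φ (φ (ψ v))) := (hφ _).symm
      _ = φ (φ v) := congrArg (fun u => φ (φ u)) hv
  have hψ2 : ∀ v, φ.comp (φ.comp ψ) v = v → ψ v = φ v := fun v hv => by
    calc ψ v = φ (φ (φ (ψ v))) := (hφ _).symm
      _ = φ v := congrArg φ hv
  have tr' : ∀ m : V, m * φ (φ m) * φ m = 1 := fun m => by rw [mul_right_comm, tr]
  -- extract the first two parts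
  have get0 : ∀ t, P ψ (f t) = t.1.1 := by
    rintro ⟨⟨a, ha⟩, ⟨b, hb⟩, ⟨c, hc'⟩⟩
    have ha' : ψ a = a := ha
    have hb' := hψ0 b hb
    have hc2 := hψ2 c hc'
    show a * b * c * ψ (a * b * c) * ψ (ψ (a * b * c)) = a
    have hb2 : ψ (ψ b) = φ b := by rw [hb', ← hc, ← hc, hb', hφ]
    have hc3 : ψ (ψ c) = φ (φ c) := by rw [hc2, ← hc, hc2]
    simp only [map_mul, ha', hb2, hc3]
    simp only [hb', hc2]
    calc a * b * c * (a * φ (φ b) * φ c) * (a * φ b * φ (φ c))
        = (a * a * a) * ((b * φ (φ b) * φ b) * (c * φ c * φ (φ c))) := by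
          simp only [mul_comm, mul_left_comm, mul_assoc]
      _ = a := by rw [tr', tr, one_mul, mul_one, hv3]
  have get1 : ∀ t, P (φ.comp ψ) (f t) = t.2.1.1 := by
    rintro ⟨⟨a, ha⟩, ⟨b, hb⟩, ⟨c, hc'⟩⟩
    have ha' : ψ a = a := ha
    have hb' := hψ0 b hb
    have hc2 := hψ2 c hc'
    show a * b * c * φ (ψ (a * b * c)) * φ (ψ (φ (ψ (a * b * c)))) = b
    have ha2 : φ (ψ (φ (ψ a))) = φ (φ a) := by rw [ha', ← hc, ha']
    have hb1 : φ (ψ b) = b := hb
    have hb2 : φ (ψ (φ (ψ b))) = b := by rw [hb1, hb1]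
    have hc3 : φ (ψ (φ (ψ c))) = φ c := by rw [hc2, ← hc, ← hc, hc2, hφ]
    simp only [map_mul, ha2, hb2, hc3]
    simp only [ha', hb1, hc2]
    calc a * b * c * (φ a * b * φ (φ c)) * (φ (φ a) * b * φ c)
        = (b * b * b) * ((a * φ a * φ (φ a)) * (c * φ (φ c) * φ c)) := by
          simp only [mul_comm, mul_left_comm, mul_assoc]
      _ = b := by rw [tr, tr', one_mul, mul_one, hv3]
  have hinj : Function.Injective f := by
    intro s t e
    have e0 : s.1.1 = t.1.1 := by rw [← get0, ← get0, e]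
    have e1 : s.2.1.1 = t.2.1.1 := by rw [← get1, ← get1, e]
    have e2 : s.2.2.1 = t.2.2.1 := by
      have e' : s.1.1 * s.2.1.1 * s.2.2.1 = t.1.1 * t.2.1.1 * t.2.2.1 := e
      rw [e0, e1] at e'
      exact mul_left_cancel e'
    exact Prod.ext (Subtype.ext e0) (Prod.ext (Subtype.ext e1) (Subtype.ext e2))
  rw [← Nat.card_congr (Equiv.ofBijective f ⟨hinj, hsurj⟩), Nat.card_prod, Nat.card_prod, mul_assoc]

omit [Finite V] in
/-- Every element is a product of elements of the three parts. -/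
theorem three_span (φ ψ : V →* V) (hφ : ∀ v, φ (φ (φ v)) = v) (hψ : ∀ v, ψ (ψ (ψ v)) = v)
    (hc : ∀ v, φ (ψ v) = ψ (φ v)) (hsq : ∀ v : V, v * v = 1) (hfree : ∀ v, φ v = v → v = 1) (v : V) :
    ∃ a b c : V, ψ a = a ∧ φ (ψ b) = b ∧ φ (φ (ψ c)) = c ∧ v = a * b * c := by
  have tr : ∀ m : V, m * φ m * φ (φ m) = 1 := fun m => hfree _ (by
    rw [map_mul, map_mul, hφ]
    calc φ m * φ (φ m) * m = m * (φ m * φ (φ m)) := mul_comm _ _
      _ = m * φ m * φ (φ m) := (mul_assoc _ _ _).symm)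
  refine ⟨v * ψ v * ψ (ψ v), v * φ (ψ v) * φ (φ (ψ (ψ v))), v * φ (φ (ψ v)) * φ (ψ (ψ v)), ?_, ?_, ?_, ?_⟩
  · rw [map_mul, map_mul, hψ]; simp only [mul_comm, mul_left_comm]
  · simp only [map_mul, ← hc, hψ, hφ]; simp only [mul_comm, mul_left_comm]
  · simp only [map_mul, ← hc, hψ, hφ]; simp only [mul_comm, mul_left_comm]
  · symm
    calc v * ψ v * ψ (ψ v) * (v * φ (ψ v) * φ (φ (ψ (ψ v)))) * (v * φ (φ (ψ v)) * φ (ψ (ψ v)))
        = (v * v * v) * ((ψ v * φ (ψ v) * φ (φ (ψ v))) * (ψ (ψ v) * φ (ψ (ψ v)) * φ (φ (ψ (ψ v))))) := by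
          simp only [mul_comm, mul_left_comm, mul_assoc]
      _ = v := by rw [tr, tr, one_mul, mul_one, hsq, one_mul]

end Module

variable {G : Type*} [Group G] [Finite G]

/-- Relative indices of the three parts. -/
theorem parts_relIndex {x y : G} (hxy : x * y = y * x) (hx3 : x ^ 3 = 1) (hy3 : y ^ 3 = 1)
    {N S : Subgroup G} (hSN : S ≤ Subgroup.normalizer (N : Set G)) (hNS : N ≤ S) (hp : IsPGroup 2 ↥S)
    (hsq : ∀ s ∈ S, s * s ∈ N)
    (hxS : x ∈ Subgroup.normalizer (S : Set G)) (hyS : y ∈ Subgroup.normalizer (S : Set G))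
    (hxN : x ∈ Subgroup.normalizer (N : Set G)) (hyN : y ∈ Subgroup.normalizer (N : Set G))
    (hfree : S ⊓ Subgroup.centralizer ({x} : Set G) ≤ N) :
    N.relIndex S = N.relIndex (S ⊓ Subgroup.centralizer ({y} : Set G)) *
      N.relIndex (S ⊓ Subgroup.centralizer ({x * y} : Set G)) *
      N.relIndex (S ⊓ Subgroup.centralizer ({x * x * y} : Set G)) ∧
    (x ≠ 1 → ∃ j, N.relIndex (S ⊓ Subgroup.centralizer ({y} : Set G)) = 4 ^ j) := by
  classical
  have hn : (N.subgroupOf S).Normal := Subgroup.normal_subgroupOf_iff_le_normalizer hNS |>.mpr hSN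
  set q := QuotientGroup.mk' (N.subgroupOf S) with hq
  have qeq : ∀ u v : ↥S, q u = q v ↔ (u : G)⁻¹ * v ∈ N := fun u v => by
    rw [hq, QuotientGroup.mk'_apply, QuotientGroup.mk'_apply, QuotientGroup.eq, Subgroup.mem_subgroupOf]
    rfl
  letI : CommGroup (↥S ⧸ N.subgroupOf S) :=
    { (inferInstance : Group (↥S ⧸ N.subgroupOf S)) with
      mul_comm := fun a b => by
        have h2 : ∀ c : ↥S ⧸ N.subgroupOf S, c * c = 1 := fun c => by
          obtain ⟨s, rfl⟩ := QuotientGroup.mk'_surjective _ c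
          rw [← map_mul, QuotientGroup.mk'_apply, QuotientGroup.eq_one_iff, Subgroup.mem_subgroupOf]
          exact hsq s s.2
        calc a * b = (a * b) * ((b * a) * (b * a)) := by rw [h2, mul_one]
          _ = a * (b * b) * a * (b * a) := by group
          _ = b * a := by rw [h2 b, mul_one, h2 a, one_mul] }
  have qsurj : Function.Surjective q := QuotientGroup.mk'_surjective _
  have mem_conj : ∀ (K : Subgroup G) (g : G), g ∈ Subgroup.normalizer (K : Set G) → ∀ s ∈ K, g * s * g⁻¹ ∈ K :=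
    fun K g hg s hs => (Subgroup.mem_normalizer_iff.mp hg s).mp hs
  let cS : ∀ g : G, g ∈ Subgroup.normalizer (S : Set G) → (↥S →* ↥S) := fun g hg =>
    { toFun := fun s => ⟨g * s * g⁻¹, mem_conj S g hg s s.2⟩
      map_one' := Subtype.ext (by simp)
      map_mul' := fun s t => Subtype.ext (by simp [mul_assoc]) }
  let act : ∀ g : G, g ∈ Subgroup.normalizer (S : Set G) → g ∈ Subgroup.normalizer (N : Set G) →
      (↥S ⧸ N.subgroupOf S →* ↥S ⧸ N.subgroupOf S) := fun g hgS hgN =>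
    QuotientGroup.map _ _ (cS g hgS) (fun s hs => mem_conj N g hgN _ hs)
  set φ := act x hxS hxN with hφ
  set ψ := act y hyS hyN with hψ
  have act_mk : ∀ (g : G) hgS hgN (s : ↥S), act g hgS hgN (q s) = q ⟨g * s * g⁻¹, mem_conj S g hgS s s.2⟩ :=
    fun g hgS hgN s => rfl
  have hact3 : ∀ (g : G) hgS hgN, g ^ 3 = 1 → ∀ v, act g hgS hgN (act g hgS hgN (act g hgS hgN v)) = v := by
    intro g hgS hgN h3 v
    obtain ⟨s, rfl⟩ := qsurj v
    simp only [act_mk]
    refine congrArg q (Subtype.ext ?_)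
    show g * (g * (g * s * g⁻¹) * g⁻¹) * g⁻¹ = (s : G)
    calc g * (g * (g * s * g⁻¹) * g⁻¹) * g⁻¹ = g ^ 3 * s * (g ^ 3)⁻¹ := by
          simp only [pow_succ, pow_zero, one_mul, mul_inv_rev, mul_assoc]
      _ = s := by rw [h3]; group
  have hc : ∀ v, φ (ψ v) = ψ (φ v) := by
    intro v
    obtain ⟨s, rfl⟩ := qsurj v
    simp only [hψ, hφ, act_mk]
    refine congrArg q (Subtype.ext ?_)
    show x * (y * s * y⁻¹) * x⁻¹ = y * (x * (s : G) * x⁻¹) * y⁻¹
    calc x * (y * s * y⁻¹) * x⁻¹ = (x * y) * s * (x * y)⁻¹ := by group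
      _ = (y * x) * s * (y * x)⁻¹ := by rw [hxy]
      _ = _ := by group
  have : Fact (Nat.Prime 2) := ⟨Nat.prime_two⟩
  obtain ⟨m, hm⟩ := IsPGroup.iff_card.mp hp
  -- fixed points lift
  have lift : ∀ (g : G) (hgS : g ∈ Subgroup.normalizer (S : Set G)) (hgN : g ∈ Subgroup.normalizer (N : Set G)),
      g ^ 3 = 1 →
      ((S ⊓ Subgroup.centralizer ({g} : Set G)).subgroupOf S).map q = fixSub (act g hgS hgN) := by
    intro g hgS hgN h3
    refine le_antisymm ?_ ?_
    · rintro _ ⟨s, hs, rfl⟩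
      simp only [mem_fixSub, act_mk]
      refine congrArg q (Subtype.ext ?_)
      show g * (s : G) * g⁻¹ = s
      rw [← Subgroup.mem_centralizer_singleton_iff.mp (Subgroup.mem_subgroupOf.mp hs).2, mul_inv_cancel_right]
    · intro v hv
      obtain ⟨s, rfl⟩ := qsurj v
      simp only [mem_fixSub, act_mk] at hv
      have hg3 : orderOf g ∣ 3 := orderOf_dvd_of_pow_eq_one h3
      have hcop : (Nat.card ↥(Subgroup.zpowers g)).Coprime (Nat.card ↥S) := by
        rw [Nat.card_zpowers, hm]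
        exact Nat.Coprime.coprime_dvd_left hg3 (Nat.Coprime.pow_right _ (by norm_num))
      have hfix : ∀ a ∈ Subgroup.zpowers g, a * (s : G) * a⁻¹ * (s : G)⁻¹ ∈ N := by
        have h1 : ∀ a : G, a ∈ Subgroup.normalizer (S : Set G) → a ∈ Subgroup.normalizer (N : Set G) →
            (a * (s : G) * a⁻¹ * (s : G)⁻¹ ∈ N ↔ ∃ ha : a ∈ Subgroup.normalizer (S : Set G) ∧ a ∈ Subgroup.normalizer (N : Set G),
              act a ha.1 ha.2 (q s) = q s) := by
          intro a haS haN
          constructor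
          · intro hm'
            refine ⟨⟨haS, haN⟩, ?_⟩
            simp only [act_mk]
            rw [eq_comm, qeq]
            have := mem_conj N _ (hSN (inv_mem s.2)) _ hm'
            simpa [mul_assoc] using this
          · rintro ⟨ha, e⟩
            simp only [act_mk] at e
            rw [eq_comm, qeq] at e
            have := mem_conj N _ (hSN s.2) _ e
            simpa [mul_assoc] using this
        intro a ha
        have haS : a ∈ Subgroup.normalizer (S : Set G) := (Subgroup.zpowers_le.mpr hgS) ha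
        have haN : a ∈ Subgroup.normalizer (N : Set G) := (Subgroup.zpowers_le.mpr hgN) ha
        rw [h1 a haS haN]
        refine ⟨⟨haS, haN⟩, ?_⟩
        obtain ⟨n, -, rfl⟩ : ∃ n < orderOf g, g ^ n = a :=
          (isOfFinOrder_of_finite g).mem_zpowers_iff_mem_range_orderOf.mp ha |> Finset.mem_image.mp |>
            fun ⟨n, hn, e⟩ => ⟨n, Finset.mem_range.mp hn, e⟩
        clear ha
        induction n with
        | zero => simp only [act_mk]; exact congrArg q (Subtype.ext (by simp))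
        | succ n ih =>
          have hS' : g ^ n ∈ Subgroup.normalizer (S : Set G) := pow_mem hgS n
          have hN' : g ^ n ∈ Subgroup.normalizer (N : Set G) := pow_mem hgN n
          calc act (g ^ (n + 1)) haS haN (q s) = act g hgS hgN (act (g ^ n) hS' hN' (q s)) := by
                simp only [act_mk]
                refine congrArg q (Subtype.ext ?_)
                show g ^ (n + 1) * (s : G) * (g ^ (n + 1))⁻¹ = g * (g ^ n * s * (g ^ n)⁻¹) * g⁻¹
                rw [pow_succ']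
                group
            _ = q s := by rw [ih hS' hN']; simp only [act_mk]; exact hv
      obtain ⟨c, hc, hcN⟩ := CfsgLib.coprime_fixed_quotient (Subgroup.zpowers_le.mpr hgS) hcop
        (Or.inl (Group.isSolvable_of_comm fun a b => mul_comm' a b)) hNS hSN (Subgroup.zpowers_le.mpr hgN) s.2 hfix
      refine ⟨⟨c, hc.1⟩, Subgroup.mem_subgroupOf.mpr ⟨hc.1, ?_⟩, ?_⟩
      · exact Subgroup.mem_centralizer_singleton_iff.mpr (hc.2 g (Subgroup.mem_zpowers g)).symm
      · rw [eq_comm, qeq]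
        exact hcN
  have hsq' : ∀ v : ↥S ⧸ N.subgroupOf S, v * v = 1 := fun v => by
    obtain ⟨s, rfl⟩ := qsurj v
    rw [← map_mul, hq, QuotientGroup.mk'_apply, QuotientGroup.eq_one_iff, Subgroup.mem_subgroupOf]
    exact hsq s s.2
  have hfree' : ∀ v, φ v = v → v = 1 := by
    intro v hv
    have hv' : v ∈ fixSub φ := hv
    rw [hφ, ← lift x hxS hxN hx3] at hv'
    obtain ⟨s, hs, rfl⟩ := hv'
    rw [hq, QuotientGroup.mk'_apply, QuotientGroup.eq_one_iff, Subgroup.mem_subgroupOf]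
    exact hfree (Subgroup.mem_subgroupOf.mp hs)
  have card_fix : ∀ (g : G) hgS hgN, g ^ 3 = 1 →
      Nat.card ↥(fixSub (act g hgS hgN)) = N.relIndex (S ⊓ Subgroup.centralizer ({g} : Set G)) := by
    intro g hgS hgN h3
    rw [← lift g hgS hgN h3, ← Subgroup.relIndex_ker, hq, QuotientGroup.ker_mk',
      Subgroup.relIndex_subgroupOf inf_le_left]
  have hxy3 : (x * y) ^ 3 = 1 := by rw [(show Commute x y from hxy).mul_pow, hx3, hy3, one_mul]
  have hxxy3 : (x * x * y) ^ 3 = 1 := by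
    have hcom : Commute (x * x) y := (show Commute x y from hxy).mul_left hxy
    rw [hcom.mul_pow, (Commute.refl x).mul_pow, hx3, hy3, one_mul, one_mul]
  have e1 : φ.comp ψ = act (x * y) (mul_mem hxS hyS) (mul_mem hxN hyN) := by
    refine MonoidHom.ext fun v => ?_
    obtain ⟨s, rfl⟩ := qsurj v
    simp only [MonoidHom.comp_apply, hψ, hφ, act_mk]
    exact congrArg q (Subtype.ext (by simp [mul_assoc]))
  have e2 : φ.comp (φ.comp ψ) = act (x * x * y) (mul_mem (mul_mem hxS hxS) hyS)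
      (mul_mem (mul_mem hxN hxN) hyN) := by
    refine MonoidHom.ext fun v => ?_
    obtain ⟨s, rfl⟩ := qsurj v
    simp only [MonoidHom.comp_apply, hψ, hφ, act_mk]
    exact congrArg q (Subtype.ext (by simp [mul_assoc]))
  have hall := three_parts φ ψ (hact3 x hxS hxN hx3) (hact3 y hyS hyN hy3) hc hsq' hfree'
  rw [e2, e1, hψ, card_fix y hyS hyN hy3, card_fix _ (mul_mem hxS hyS) (mul_mem hxN hyN) hxy3,
    card_fix _ (mul_mem (mul_mem hxS hxS) hyS) (mul_mem (mul_mem hxN hxN) hyN) hxxy3] at hall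
  refine ⟨hall, fun _ => ?_⟩
  have hp' : IsPGroup 2 ↥(fixSub ψ) := (hp.to_quotient _).to_subgroup _
  obtain ⟨j, hj⟩ := card_free hp' (fun v => ⟨φ v, by
      rw [mem_fixSub, ← hc]; exact congrArg φ v.2⟩)
    (fun v => Subtype.ext (hact3 x hxS hxN hx3 _)) (Subtype.ext (map_one φ))
    (fun v hv => Subtype.ext (hfree' _ (congrArg Subtype.val hv)))
  exact ⟨j, by rw [← card_fix y hyS hyN hy3]; exact hj⟩

end CfsgLib.JankoSix
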