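/-
An element of order three with centraliser the perfect sixfold cover of M22 in a group of characteristic 2
type: the central involution, the Sylow 3-subgroup, and fusion of elements of order three.
-/
import Cfsg.Agent.Lib.JankoSix.M22Facts
import Cfsg.Agent.Lib.Coprime
import Cfsg.Agent.Lib.Transfer
import Cfsg.Prelude.Def_CaseTheorems
import Cfsg.Prelude.Def_JankoFourType

set_option autoImplicit false

namespace CfsgLib.JankoSix

open Cfsg CfsgLib.JankoFour
open scoped Pointwise commutatorElement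

local notation "M" => MTwoTwo

/-- The hypotheses on the element of order three. -/
structure Hyp {G : Type*} [Group G] (x : G) where
  ord : orderOf x = 3
  char2 : IsCharacteristicTwoType G
  perf : ⁅(⊤ : Subgroup ↥(Subgroup.centralizer ({x} : Set G))), (⊤ : Subgroup ↥(Subgroup.centralizer ({x} : Set G)))⁆ = ⊤
  cyc : IsCyclic ↥(Subgroup.center ↥(Subgroup.centralizer ({x} : Set G)))
  card6 : Nat.card ↥(Subgroup.center ↥(Subgroup.centralizer ({x} : Set G))) = 6
  e : ↥(Subgroup.centralizer ({x} : Set G)) ⧸ Subgroup.center ↥(Subgroup.centralizer ({x} : Set G)) ≃* M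
  fused : ∃ (S : Sylow 3 G) (g : G),
    ((Subgroup.center ↥(S : Subgroup G)).map (S : Subgroup G).subtype).map (MulAut.conj g).toMonoidHom ≤ (S : Subgroup G) ∧
    ((Subgroup.center ↥(S : Subgroup G)).map (S : Subgroup G).subtype).map (MulAut.conj g).toMonoidHom ≠
      (Subgroup.center ↥(S : Subgroup G)).map (S : Subgroup G).subtype

variable {G : Type*} [Group G] {x : G}

theorem mem_cent {g s : G} : s ∈ Subgroup.centralizer ({g} : Set G) ↔ s * g = g * s :=
  Subgroup.mem_centralizer_singleton_iff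

/-- Conjugation moves centralisers. -/
theorem comm_conj (k : G) {a b : G} (h : a * b = b * a) :
    (k * a * k⁻¹) * (k * b * k⁻¹) = (k * b * k⁻¹) * (k * a * k⁻¹) :=
  (show Commute a b from h).conj k

theorem comm_conj' (k : G) {a b : G} (h : a * b = b * a) :
    (k⁻¹ * a * k) * (k⁻¹ * b * k) = (k⁻¹ * b * k) * (k⁻¹ * a * k) := by
  simpa using comm_conj k⁻¹ h

namespace Hyp

variable (h : Hyp x)

/-- The map onto M22. -/
noncomputable def π : ↥(Subgroup.centralizer ({x} : Set G)) →* M :=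
  h.e.toMonoidHom.comp (QuotientGroup.mk' _)

theorem π_surj : Function.Surjective h.π :=
  h.e.surjective.comp (QuotientGroup.mk'_surjective _)

theorem π_eq_one {c : ↥(Subgroup.centralizer ({x} : Set G))} :
    h.π c = 1 ↔ c ∈ Subgroup.center ↥(Subgroup.centralizer ({x} : Set G)) :=
  (map_eq_one_iff h.e h.e.injective).trans (QuotientGroup.eq_one_iff c)

include h

theorem x_pow : x ^ 3 = 1 := h.ord ▸ pow_orderOf_eq_one x

theorem x_ne : x ≠ 1 := fun e => by have := h.ord; rw [e, orderOf_one] at this; norm_num at this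

theorem x_inv : x⁻¹ = x * x := inv_eq_of_mul_eq_one_right (by rw [← h.x_pow, pow_succ, pow_two, mul_assoc])

theorem mem_P {s : G} : s ∈ Subgroup.zpowers x ↔ s = 1 ∨ s = x ∨ s = x⁻¹ := by
  constructor
  · intro hs
    obtain ⟨n, rfl⟩ := Subgroup.mem_zpowers_iff.mp hs
    rw [← zpow_mod_orderOf, h.ord]
    have : n % ((3 : ℕ) : ℤ) = 0 ∨ n % ((3 : ℕ) : ℤ) = 1 ∨ n % ((3 : ℕ) : ℤ) = 2 := by omega
    rcases this with e | e | e <;> rw [e]
    · exact Or.inl (zpow_zero x)
    · exact Or.inr (Or.inl (zpow_one x))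
    · exact Or.inr (Or.inr (by rw [h.x_inv]; exact zpow_two x))
  · rintro (rfl | rfl | rfl)
    exacts [one_mem _, Subgroup.mem_zpowers _, inv_mem (Subgroup.mem_zpowers _)]

theorem exists_z : ∃ z : G, z * z = 1 ∧ z ≠ 1 ∧ z * x = x * z ∧
    (∀ c ∈ Subgroup.centralizer ({x} : Set G), c * z = z * c) ∧
    ∀ c : ↥(Subgroup.centralizer ({x} : Set G)), h.π c = 1 →
      ∃ s ∈ Subgroup.zpowers x, (c : G) = s ∨ (c : G) = s * z := by
  set C := Subgroup.centralizer ({x} : Set G)
  have hfin : Finite ↥(Subgroup.center ↥C) := Nat.finite_of_card_ne_zero (by rw [h.card6]; norm_num)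
  have : Fact (Nat.Prime 2) := ⟨Nat.prime_two⟩
  obtain ⟨u, hu⟩ := exists_prime_orderOf_dvd_card' (G := ↥(Subgroup.center ↥C)) 2 (by rw [h.card6]; norm_num)
  set xc : ↥(Subgroup.center ↥C) := ⟨⟨x, mem_cent.mpr rfl⟩, Subgroup.mem_center_iff.mpr fun c =>
    Subtype.ext (mem_cent.mp c.2)⟩
  have hxo : orderOf xc = 3 := by
    rw [← Subgroup.orderOf_coe, ← Subgroup.orderOf_coe]
    exact h.ord
  have huo : orderOf ((u : ↥C) : G) = 2 := by rw [Subgroup.orderOf_coe, Subgroup.orderOf_coe, hu]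
  refine ⟨((u : ↥C) : G), ?_, ?_, mem_cent.mp (u : ↥C).2, ?_, ?_⟩
  · rw [← sq, ← huo]
    exact pow_orderOf_eq_one _
  · intro e
    rw [e, orderOf_one] at huo
    norm_num at huo
  · exact fun c hc => congrArg Subtype.val (Subgroup.mem_center_iff.mp u.2 ⟨c, hc⟩)
  · intro c hc
    have hcz := h.π_eq_one.mp hc
    have hcom : Commute xc u := Subtype.ext (Subgroup.mem_center_iff.mp u.2 _)
    have hord : orderOf (xc * u) = 6 := by
      rw [hcom.orderOf_mul_eq_mul_orderOf_of_coprime (by rw [hxo, hu]; norm_num), hxo, hu]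
    have htop : Subgroup.zpowers (xc * u) = ⊤ :=
      Subgroup.eq_top_of_card_eq _ (by rw [Nat.card_zpowers, hord, h.card6])
    obtain ⟨n, hn⟩ := Subgroup.mem_zpowers_iff.mp
      (htop ▸ Subgroup.mem_top (⟨c, hcz⟩ : ↥(Subgroup.center ↥C)) :
        (⟨c, hcz⟩ : ↥(Subgroup.center ↥C)) ∈ Subgroup.zpowers (xc * u))
    have e : (c : G) = x ^ n * ((u : ↥C) : G) ^ n := by
      rw [hcom.mul_zpow] at hn
      have := congrArg (fun v : ↥(Subgroup.center ↥C) => ((v : ↥C) : G)) hn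
      simpa [xc] using this.symm
    refine ⟨x ^ n, zpow_mem (Subgroup.mem_zpowers x) n, ?_⟩
    rw [e, ← zpow_mod_orderOf ((u : ↥C) : G) n, huo]
    rcases (by omega : n % ((2 : ℕ) : ℤ) = 0 ∨ n % ((2 : ℕ) : ℤ) = 1) with e' | e' <;> rw [e']
    · exact Or.inl (by rw [zpow_zero, mul_one])
    · exact Or.inr (by rw [zpow_one])

/-- The central involution. -/
noncomputable def z : G := h.exists_z.choose

theorem zz : h.z * h.z = 1 := h.exists_z.choose_spec.1

theorem z_ne : h.z ≠ 1 := h.exists_z.choose_spec.2.1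

theorem zx : h.z * x = x * h.z := h.exists_z.choose_spec.2.2.1

theorem z_cen {c : G} (hc : c * x = x * c) : c * h.z = h.z * c :=
  h.exists_z.choose_spec.2.2.2.1 c (mem_cent.mpr hc)

theorem ker_cases {c : ↥(Subgroup.centralizer ({x} : Set G))} (hc : h.π c = 1) :
    ∃ s ∈ Subgroup.zpowers x, (c : G) = s ∨ (c : G) = s * h.z :=
  h.exists_z.choose_spec.2.2.2.2 c hc

theorem z_inv : h.z⁻¹ = h.z := inv_eq_of_mul_eq_one_left h.zz

theorem π_z : h.π ⟨h.z, mem_cent.mpr h.zx⟩ = 1 :=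
  h.π_eq_one.mpr (Subgroup.mem_center_iff.mpr fun c => Subtype.ext (h.z_cen (mem_cent.mp c.2)))

theorem π_x : h.π ⟨x, mem_cent.mpr rfl⟩ = 1 :=
  h.π_eq_one.mpr (Subgroup.mem_center_iff.mpr fun c => Subtype.ext (mem_cent.mp c.2))

/-- An element of the kernel killed by an odd exponent lies in `⟨x⟩`. -/
theorem ker_three {c : ↥(Subgroup.centralizer ({x} : Set G))} (hc : h.π c = 1) (h3 : (c : G) ^ 3 = 1) :
    (c : G) ∈ Subgroup.zpowers x := by
  obtain ⟨s, hs, e | e⟩ := h.ker_cases hc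
  · rwa [e]
  · exfalso
    apply h.z_ne
    have hc' : Commute s h.z := by
      obtain ⟨n, rfl⟩ := Subgroup.mem_zpowers_iff.mp hs
      exact (show Commute x h.z from h.zx.symm).zpow_left n
    have hs3 : s ^ 3 = 1 := by
      rcases h.mem_P.mp hs with rfl | rfl | rfl
      · exact one_pow 3
      · exact h.x_pow
      · rw [inv_pow, h.x_pow, inv_one]
    rw [e, hc'.mul_pow, hs3, one_mul, pow_succ, pow_two, h.zz, one_mul] at h3
    exact h3

/-- An element of the kernel killed by a power of two is `1` or `z`. -/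
theorem ker_two {c : ↥(Subgroup.centralizer ({x} : Set G))} (hc : h.π c = 1) {k : ℕ}
    (h2 : (c : G) ^ 2 ^ k = 1) : (c : G) = 1 ∨ (c : G) = h.z := by
  obtain ⟨s, hs, e⟩ := h.ker_cases hc
  suffices hs1 : s = 1 by
    rcases e with e | e
    · exact Or.inl (e.trans hs1)
    · exact Or.inr (by rw [e, hs1, one_mul])
  have hs3 : s ^ 3 = 1 := by
    rcases h.mem_P.mp hs with rfl | rfl | rfl
    · exact one_pow 3
    · exact h.x_pow
    · rw [inv_pow, h.x_pow, inv_one]
  have hcs : Commute s h.z := by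
    obtain ⟨n, rfl⟩ := Subgroup.mem_zpowers_iff.mp hs
    exact (show Commute x h.z from h.zx.symm).zpow_left n
  have h2' : s ^ (2 * 2 ^ k) = 1 := by
    have hz : h.z ^ (2 * 2 ^ k) = 1 := by rw [pow_mul, sq, h.zz, one_pow]
    rcases e with e | e <;> rw [e] at h2
    · rw [mul_comm, pow_mul, h2, one_pow]
    · have : (s * h.z) ^ (2 * 2 ^ k) = 1 := by rw [mul_comm 2, pow_mul, h2, one_pow]
      rwa [hcs.mul_pow, hz, mul_one] at this
  have hd : orderOf s ∣ 1 := by
    have hc2 : Nat.Coprime 3 (2 * 2 ^ k) :=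
      (Nat.coprime_mul_iff_right.mpr ⟨by norm_num, Nat.Coprime.pow_right _ (by norm_num)⟩)
    rw [← hc2.gcd_eq_one]
    exact Nat.dvd_gcd (orderOf_dvd_of_pow_eq_one hs3) (orderOf_dvd_of_pow_eq_one h2')
  exact orderOf_eq_one_iff.mp (Nat.dvd_one.mp hd)

theorem π_three_ne {s : G} (hsx : s * x = x * s) (h3 : s ^ 3 = 1) (hsP : s ∉ Subgroup.zpowers x) :
    h.π ⟨s, mem_cent.mpr hsx⟩ ≠ 1 := fun e => hsP (h.ker_three e h3)

omit h in
theorem card_centralizer [Finite G] (h : Hyp x) :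
    Nat.card ↥(Subgroup.centralizer ({x} : Set G)) = 6 * 443520 := by
  rw [Subgroup.card_eq_card_quotient_mul_card_subgroup (Subgroup.center _), h.card6,
    Nat.card_congr h.e.toEquiv, card_M]

end Hyp

variable [Finite G] (h : Hyp x)

include h

/-- A Sylow 3-subgroup of `C(x)` is nonabelian of order 27 with centre `⟨x⟩`, and is one of `G`. -/
theorem sylow_three : ∃ T : Sylow 3 G, (T : Subgroup G) ≤ Subgroup.centralizer ({x} : Set G) ∧
    Nat.card ↥(T : Subgroup G) = 27 ∧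
    (Subgroup.center ↥(T : Subgroup G)).map (T : Subgroup G).subtype = Subgroup.zpowers x ∧
    ∀ a ∈ (T : Subgroup G), ∀ b ∈ (T : Subgroup G), a * b * a⁻¹ * b⁻¹ ∈ Subgroup.zpowers x := by
  classical
  set C := Subgroup.centralizer ({x} : Set G) with hC
  have : Fact (Nat.Prime 3) := ⟨by norm_num⟩
  let T0 : Sylow 3 ↥C := default
  have hT0 : Nat.card ↥(T0 : Subgroup ↥C) = 27 := by
    rw [T0.card_eq_multiplicity, h.card_centralizer]
    have : Nat.factorization (6 * 443520) 3 = 3 := by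
      rw [show (6 * 443520 : ℕ) = 3 ^ 3 * 98560 by norm_num, Nat.factorization_mul (by norm_num) (by norm_num),
        Nat.Prime.factorization_pow (by norm_num)]
      simp [Nat.factorization_eq_zero_of_not_dvd (show ¬ 3 ∣ 98560 by norm_num)]
    rw [this]
    norm_num
  set xc : ↥C := ⟨x, mem_cent.mpr rfl⟩
  have hxc : ∀ c : ↥C, c * xc = xc * c := fun c => Subtype.ext (mem_cent.mp c.2)
  -- x lies in every Sylow subgroup of C
  have hxT : xc ∈ (T0 : Subgroup ↥C) := by
    have hp : IsPGroup 3 ↥(Subgroup.zpowers xc) := IsPGroup.of_card (n := 1)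
      (by rw [Nat.card_zpowers, ← Subgroup.orderOf_coe, pow_one]; exact h.ord)
    obtain ⟨S, hS⟩ := hp.exists_le_sylow
    obtain ⟨c, hc⟩ := MulAction.exists_smul_eq ↥C S T0
    rw [← hc]
    show xc ∈ ((c • S : Sylow 3 ↥C) : Subgroup ↥C)
    rw [Sylow.coe_subgroup_smul, Subgroup.mem_pointwise_smul_iff_inv_smul_mem]
    have : (MulAut.conj c)⁻¹ • xc = xc := by
      show (MulAut.conj c).symm xc = xc
      rw [MulAut.conj_symm_apply, mul_assoc, ← hxc c, inv_mul_cancel_left]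
    rw [this]
    exact hS (Subgroup.mem_zpowers xc)
  have hnab : ¬ ∀ a b : ↥(T0 : Subgroup ↥C), a * b = b * a := by
    intro hab
    letI : CommGroup ↥(T0 : Subgroup ↥C) := { (inferInstance : Group ↥(T0 : Subgroup ↥C)) with mul_comm := hab }
    set τ : ↥C →* ↥(T0 : Subgroup ↥C) := MonoidHom.transfer (MonoidHom.id ↥(T0 : Subgroup ↥C))
    have hker : (⊤ : Subgroup ↥C) ≤ τ.ker := by
      rw [← h.perf, Subgroup.commutator_le]
      intro a _ b _
      rw [MonoidHom.mem_ker, map_commutatorElement]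
      exact commutatorElement_eq_one_iff_mul_comm.mpr (hab _ _)
    have h1 : τ xc = 1 := hker (Subgroup.mem_top xc)
    have hkey : ∀ (k : ℕ) (g₀ : ↥C), g₀⁻¹ * xc ^ k * g₀ ∈ (T0 : Subgroup ↥C) → g₀⁻¹ * xc ^ k * g₀ = xc ^ k := by
      intro k g₀ _
      rw [mul_assoc, ← ((show Commute g₀ xc from hxc g₀).pow_right k).eq, inv_mul_cancel_left]
    rw [show τ xc = _ from MonoidHom.transfer_eq_pow (MonoidHom.id _) xc hkey] at h1
    have h2 : xc ^ (T0 : Subgroup ↥C).index = 1 := congrArg Subtype.val h1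
    have h3 : 3 ∣ (T0 : Subgroup ↥C).index := by
      have ho : orderOf xc = 3 := (Subgroup.orderOf_coe xc).symm.trans h.ord
      exact ho.symm.dvd.trans (orderOf_dvd_of_pow_eq_one h2)
    exact T0.not_dvd_index h3
  set T : Subgroup G := (T0 : Subgroup ↥C).map C.subtype with hT
  have hTC : T ≤ C := Subgroup.map_subtype_le _
  have hT27 : Nat.card ↥T = 27 := by rw [hT, Subgroup.card_map_of_injective C.subtype_injective, hT0]
  have hTp : IsPGroup 3 ↥T := IsPGroup.of_card (n := 3) (by rw [hT27]; norm_num)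
  have hxT' : x ∈ T := ⟨xc, hxT, rfl⟩
  have hxcen : (⟨x, hxT'⟩ : ↥T) ∈ Subgroup.center ↥T :=
    Subgroup.mem_center_iff.mpr fun t => Subtype.ext (mem_cent.mp (hTC t.2))
  have hZ : Nat.card ↥(Subgroup.center ↥T) = 3 := by
    have hdvd := Subgroup.card_subgroup_dvd_card (Subgroup.center ↥T)
    rw [hT27] at hdvd
    obtain ⟨j, hj, hj'⟩ := (Nat.dvd_prime_pow (by norm_num : Nat.Prime 3)).mp
      (show Nat.card ↥(Subgroup.center ↥T) ∣ 3 ^ 3 from hdvd)
    have hne : Nat.card ↥(Subgroup.center ↥T) ≠ 1 := by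
      intro e1
      have := Subgroup.eq_bot_of_card_eq _ e1
      rw [this, Subgroup.mem_bot] at hxcen
      exact h.x_ne (congrArg Subtype.val hxcen)
    have hcomm : ¬ ∀ a b : ↥T, a * b = b * a := by
      intro hab
      apply hnab
      intro a b
      have := congrArg Subtype.val (hab ⟨_, a.1, a.2, rfl⟩ ⟨_, b.1, b.2, rfl⟩)
      exact Subtype.ext (Subtype.ext this)
    interval_cases j
    · exact absurd hj' (by simpa using hne)
    · simpa using hj'
    · exfalso
      apply hcomm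
      have hq : Nat.card (↥T ⧸ Subgroup.center ↥T) = 3 := by
        have := Subgroup.card_eq_card_quotient_mul_card_subgroup (Subgroup.center ↥T)
        rw [hT27, hj'] at this
        omega
      have : IsCyclic (↥T ⧸ Subgroup.center ↥T) := isCyclic_of_prime_card hq
      exact (MonoidHom.isMulCommutative_of_isCyclic_of_ker_le_center (QuotientGroup.mk' (Subgroup.center ↥T))
        (by rw [QuotientGroup.ker_mk'])).is_comm.comm
    · exfalso
      apply hcomm
      have htop : Subgroup.center ↥T = ⊤ := Subgroup.eq_top_of_card_eq _ (by rw [hj', hT27]; norm_num)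
      exact fun a b => (Subgroup.mem_center_iff.mp (htop ▸ Subgroup.mem_top b : b ∈ Subgroup.center ↥T) a)
  have hZx : (Subgroup.center ↥T).map T.subtype = Subgroup.zpowers x := by
    refine (Subgroup.eq_of_le_of_card_ge (Subgroup.zpowers_le.mpr (Subgroup.mem_map.mpr ⟨_, hxcen, rfl⟩)) ?_).symm
    rw [Subgroup.card_map_of_injective T.subtype_injective, hZ, Nat.card_zpowers, Subgroup.coe_subtype, h.ord]
  have hcomP : ∀ a ∈ T, ∀ b ∈ T, a * b * a⁻¹ * b⁻¹ ∈ Subgroup.zpowers x := by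
    intro a ha b hb
    rw [← hZx]
    have hq : Nat.card (↥T ⧸ Subgroup.center ↥T) = 3 ^ 2 := by
      have := Subgroup.card_eq_card_quotient_mul_card_subgroup (Subgroup.center ↥T)
      rw [hT27, hZ] at this
      omega
    have hab := (IsPGroup.isMulCommutative_of_card_eq_prime_sq hq).is_comm.comm
      (QuotientGroup.mk' (Subgroup.center ↥T) ⟨a, ha⟩) (QuotientGroup.mk' (Subgroup.center ↥T) ⟨b, hb⟩)
    refine ⟨⟨a, ha⟩ * ⟨b, hb⟩ * (⟨a, ha⟩ : ↥T)⁻¹ * (⟨b, hb⟩ : ↥T)⁻¹, ?_, rfl⟩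
    rw [← QuotientGroup.ker_mk' (Subgroup.center ↥T)]
    simp only [SetLike.mem_coe, MonoidHom.mem_ker, map_mul, map_inv]
    rw [hab]
    group
  obtain ⟨S, hS⟩ := hTp.exists_le_sylow
  have hST : (S : Subgroup G) = T := by
    by_contra hne
    have hlt : T.subgroupOf (S : Subgroup G) < ⊤ :=
      lt_top_iff_ne_top.mpr fun e => hne (le_antisymm (Subgroup.subgroupOf_eq_top.mp e) hS)
    have := S.2.isNilpotent
    obtain ⟨⟨r, hrS⟩, hrN, hrT⟩ := SetLike.exists_of_lt
      (Group.normalizerCondition_of_isNilpotent _ hlt)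
    rw [Subgroup.mem_subgroupOf] at hrT
    have hr : ∀ t ∈ T, r * t * r⁻¹ ∈ T := fun t ht =>
      ((Subgroup.mem_normalizer_iff.mp hrN ⟨t, hS ht⟩).mp ht :)
    -- r fixes the centre
    have hrx : r * x * r⁻¹ ∈ Subgroup.zpowers x := by
      rw [← hZx]
      refine ⟨⟨r * x * r⁻¹, hr x hxT'⟩, Subgroup.mem_center_iff.mpr fun t => Subtype.ext ?_, rfl⟩
      have ht : r⁻¹ * (t : G) * r ∈ T := by
        have := (Subgroup.mem_normalizer_iff.mp hrN ⟨r⁻¹ * t * r, ?_⟩).mpr (by
          show r * (r⁻¹ * (t : G) * r) * r⁻¹ ∈ T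
          rw [show r * (r⁻¹ * (t : G) * r) * r⁻¹ = t by group]
          exact t.2)
        · exact this
        · exact mul_mem (mul_mem (inv_mem hrS) (hS t.2)) hrS
      show (t : G) * (r * x * r⁻¹) = r * x * r⁻¹ * t
      have := comm_conj r (mem_cent.mp (hTC ht))
      rwa [show r * (r⁻¹ * (t : G) * r) * r⁻¹ = t by group] at this
    have hrC : r ∈ C := by
      rw [mem_cent]
      rcases h.mem_P.mp hrx with e1 | e1 | e1
      · exact absurd (conj_eq_one_iff.mp e1) h.x_ne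
      · exact mul_inv_eq_iff_eq_mul.mp e1
      · exfalso
        -- r of odd order cannot invert x
        have hodd : Odd (orderOf r) := by
          obtain ⟨k, hk⟩ := S.2 ⟨r, hrS⟩
          have : orderOf r ∣ 3 ^ k := orderOf_dvd_of_pow_eq_one (congrArg Subtype.val hk)
          exact Odd.of_dvd_nat (Odd.pow (by decide)) this
        have hpow : ∀ n : ℕ, r ^ (2 * n) * x * (r ^ (2 * n))⁻¹ = x := by
          intro n
          induction n with
          | zero => simp
          | succ n ih =>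
            calc r ^ (2 * (n + 1)) * x * (r ^ (2 * (n + 1)))⁻¹
                = r * (r * (r ^ (2 * n) * x * (r ^ (2 * n))⁻¹) * r⁻¹) * r⁻¹ := by
                  rw [show 2 * (n + 1) = 2 * n + 2 by ring, pow_add, ← (pow_mul_comm r 2 (2 * n))]
                  group
              _ = x := by rw [ih, e1, ← conj_inv, e1, inv_inv]
        obtain ⟨n, hn⟩ := hodd
        have h1 : r * x * r⁻¹ = x := by
          have h2 := hpow (n + 1)
          rwa [show 2 * (n + 1) = orderOf r + 1 by omega, pow_succ, pow_orderOf_eq_one, one_mul] at h2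
        rw [h1] at e1
        have h3 := h.x_pow
        rw [pow_succ, pow_two] at h3
        nth_rewrite 2 [e1] at h3
        rw [mul_inv_cancel, one_mul] at h3
        exact h.x_ne h3
    have hR : IsPGroup 3 ↥((T ⊔ Subgroup.zpowers r).subgroupOf C) := by
      refine IsPGroup.comap_of_injective (S.2.to_le ?_) C.subtype C.subtype_injective
      exact sup_le hS (Subgroup.zpowers_le.mpr hrS)
    have hle : (T0 : Subgroup ↥C) ≤ (T ⊔ Subgroup.zpowers r).subgroupOf C := fun c hc =>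
      le_sup_left (b := Subgroup.zpowers r) ⟨c, hc, rfl⟩
    have := T0.3 hR hle
    have hrT0 : (⟨r, hrC⟩ : ↥C) ∈ (T0 : Subgroup ↥C) := this ▸ le_sup_right (a := T) (Subgroup.mem_zpowers r)
    exact hrT ⟨_, hrT0, rfl⟩
  refine ⟨S, ?_, ?_, ?_, ?_⟩
  · exact hST.trans_le hTC
  · rw [hST]; exact hT27
  · rw [hST]; exact hZx
  · rw [hST]; exact hcomP

/-- There is a noncentral conjugate `y = k x k⁻¹` of `x` in `C(x)` and an element of `C(x)` of order three
fusing the elements of `y⟨x⟩`. -/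
theorem exists_y : ∃ (k a : G), k * x * k⁻¹ * x = x * (k * x * k⁻¹) ∧ k * x * k⁻¹ ∉ Subgroup.zpowers x ∧
    a * x = x * a ∧ Odd (orderOf a) ∧ a * (k * x * k⁻¹) * a⁻¹ = x * (k * x * k⁻¹) := by
  classical
  have : Fact (Nat.Prime 3) := ⟨by norm_num⟩
  obtain ⟨T, hTC, hT27, hZx, hcomP⟩ := sylow_three h
  obtain ⟨S, g, hle, hne⟩ := h.fused
  obtain ⟨w, hw⟩ := MulAction.exists_smul_eq G T S
  have hS : (S : Subgroup G) = (T : Subgroup G).map (MulAut.conj w).toMonoidHom := by
    rw [← hw]; rfl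
  have hZS : (Subgroup.center ↥(S : Subgroup G)).map (S : Subgroup G).subtype =
      (Subgroup.zpowers x).map (MulAut.conj w).toMonoidHom := by
    rw [← hZx]
    ext u
    simp only [Subgroup.mem_map, Subgroup.mem_center_iff, MulEquiv.coe_toMonoidHom, MulAut.conj_apply,
      Subgroup.coe_subtype]
    constructor
    · rintro ⟨⟨v, hv⟩, hc, rfl⟩
      obtain ⟨t, ht, rfl⟩ := (hS ▸ hv : v ∈ (T : Subgroup G).map (MulAut.conj w).toMonoidHom)
      refine ⟨t, ⟨⟨t, ht⟩, fun t' => Subtype.ext ?_, rfl⟩, rfl⟩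
      have h1 := congrArg Subtype.val (hc ⟨w * (t' : G) * w⁻¹, hS ▸ ⟨t', t'.2, rfl⟩⟩)
      have h2 := comm_conj' w h1
      simpa [mul_assoc] using h2
    · rintro ⟨_, ⟨⟨t, ht⟩, hc, rfl⟩, rfl⟩
      refine ⟨⟨w * t * w⁻¹, hS ▸ ⟨t, ht, rfl⟩⟩, fun v => Subtype.ext ?_, rfl⟩
      obtain ⟨t', ht', e⟩ := (hS ▸ v.2 : (v : G) ∈ (T : Subgroup G).map (MulAut.conj w).toMonoidHom)
      show (v : G) * (w * t * w⁻¹) = w * t * w⁻¹ * v
      rw [← e]
      exact comm_conj w (congrArg Subtype.val (hc ⟨t', ht'⟩))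
  rw [hZS] at hle hne
  set k := w⁻¹ * g * w with hk
  have hyT : k * x * k⁻¹ ∈ (T : Subgroup G) := by
    have h1 := hle (show g * (w * x * w⁻¹) * g⁻¹ ∈
        ((Subgroup.zpowers x).map (MulAut.conj w).toMonoidHom).map (MulAut.conj g).toMonoidHom from
      ⟨_, ⟨x, Subgroup.mem_zpowers x, rfl⟩, rfl⟩)
    rw [hS] at h1
    obtain ⟨t, ht, e⟩ := h1
    simp only [MulEquiv.coe_toMonoidHom, MulAut.conj_apply] at e
    have : k * x * k⁻¹ = t := by
      rw [hk, show w⁻¹ * g * w * x * (w⁻¹ * g * w)⁻¹ = w⁻¹ * (g * (w * x * w⁻¹) * g⁻¹) * w by group, ← e]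
      group
    rwa [this]
  have hyP : k * x * k⁻¹ ∉ Subgroup.zpowers x := by
    intro hy
    apply hne
    rw [MonoidHom.map_zpowers, MonoidHom.map_zpowers]
    refine Subgroup.eq_of_le_of_card_ge ?_ ?_
    · rw [Subgroup.zpowers_le]
      obtain ⟨n, hn⟩ := Subgroup.mem_zpowers_iff.mp hy
      refine Subgroup.mem_zpowers_iff.mpr ⟨n, ?_⟩
      simp only [MulEquiv.coe_toMonoidHom, MulAut.conj_apply]
      rw [conj_zpow, hn, hk]
      group
    · simp only [MulEquiv.coe_toMonoidHom, Nat.card_zpowers, MulEquiv.orderOf_eq, le_refl]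
  set y := k * x * k⁻¹ with hy
  refine ⟨k, ?_⟩
  obtain ⟨a, ha, hne'⟩ : ∃ a ∈ (T : Subgroup G), a * y * a⁻¹ ≠ y := by
    by_contra hall
    push Not at hall
    refine hyP (hZx ▸ ⟨⟨y, hyT⟩, Subgroup.mem_center_iff.mpr fun t => Subtype.ext ?_, rfl⟩)
    exact mul_inv_eq_iff_eq_mul.mp (hall t t.2)
  have haodd : Odd (orderOf a) := by
    obtain ⟨j, hj⟩ := T.2 ⟨a, ha⟩
    exact Odd.of_dvd_nat (Odd.pow (by decide)) (orderOf_dvd_of_pow_eq_one (congrArg Subtype.val hj))
  have hax : a * x = x * a := mem_cent.mp (hTC ha)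
  have hyx : y * x = x * y := mem_cent.mp (hTC hyT)
  rcases h.mem_P.mp (hcomP a ha y hyT) with e1 | e1 | e1
  · exact absurd (mul_inv_eq_one.mp e1) hne'
  · exact ⟨a, hyx, hyP, hax, haodd, mul_inv_eq_iff_eq_mul.mp e1⟩
  · refine ⟨a * a, hyx, hyP, by rw [mul_assoc, hax, ← mul_assoc, hax, mul_assoc], ?_, ?_⟩
    · exact Odd.of_dvd_nat haodd (by rw [← pow_two]; exact orderOf_pow_dvd 2)
    · have e2 : a * y * a⁻¹ = x⁻¹ * y := mul_inv_eq_iff_eq_mul.mp e1
      have e3 : a * x⁻¹ * a⁻¹ = x⁻¹ := by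
        rw [((show Commute a x from hax).inv_right).eq, mul_inv_cancel_right]
      calc a * a * y * (a * a)⁻¹ = a * (a * y * a⁻¹) * a⁻¹ := by group
        _ = a * (x⁻¹ * y) * a⁻¹ := by rw [e2]
        _ = (a * x⁻¹ * a⁻¹) * (a * y * a⁻¹) := by group
        _ = x⁻¹ * x⁻¹ * y := by rw [e3, e2, mul_assoc]
        _ = x * y := by
          congr 1
          rw [h.x_inv]
          calc x * x * (x * x) = x ^ 3 * x := by rw [pow_succ, pow_two]; simp only [mul_assoc]
            _ = x := by rw [h.x_pow, one_mul]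

/-- The chosen conjugating element. -/
noncomputable def Hyp.kk : G := (exists_y h).choose

/-- The noncentral conjugate of `x`. -/
noncomputable def Hyp.y : G := h.kk * x * h.kk⁻¹

/-- An element of `C(x)` moving `y` to `xy`. -/
noncomputable def Hyp.aa : G := (exists_y h).choose_spec.choose

theorem Hyp.yx : h.y * x = x * h.y := (exists_y h).choose_spec.choose_spec.1

theorem Hyp.y_notP : h.y ∉ Subgroup.zpowers x := (exists_y h).choose_spec.choose_spec.2.1

theorem Hyp.ax : h.aa * x = x * h.aa := (exists_y h).choose_spec.choose_spec.2.2.1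

theorem Hyp.a_odd : Odd (orderOf h.aa) := (exists_y h).choose_spec.choose_spec.2.2.2.1

theorem Hyp.a_y : h.aa * h.y * h.aa⁻¹ = x * h.y := (exists_y h).choose_spec.choose_spec.2.2.2.2

theorem Hyp.y_pow : h.y ^ 3 = 1 := by rw [Hyp.y, conj_pow, h.x_pow, mul_one, mul_inv_cancel]

/-- Noncentral elements of order three of `C(x)` are conjugate in `C(x)`. -/
theorem Hyp.three_conj {s t : G} (hs : s * x = x * s) (hs3 : s ^ 3 = 1) (hsP : s ∉ Subgroup.zpowers x)
    (ht : t * x = x * t) (ht3 : t ^ 3 = 1) (htP : t ∉ Subgroup.zpowers x) :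
    ∃ c : G, c * x = x * c ∧ c * s * c⁻¹ = t := by
  have main : ∀ {t : G}, t * x = x * t → t ^ 3 = 1 → t ∉ Subgroup.zpowers x →
      ∃ c : G, c * x = x * c ∧ c * h.y * c⁻¹ = t := by
    intro t ht ht3 htP
    have hy := h.π_three_ne h.yx h.y_pow h.y_notP
    have hp : ∀ {u : G} (hu : u * x = x * u), u ^ 3 = 1 → h.π ⟨u, mem_cent.mpr hu⟩ ^ 3 = 1 := by
      intro u hu hu3
      rw [← map_pow, ← map_one h.π]
      exact congrArg _ (Subtype.ext hu3)
    obtain ⟨m, hm⟩ := JankoSix.three_conj (hp h.yx h.y_pow) hy (hp ht ht3) (h.π_three_ne ht ht3 htP)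
    obtain ⟨⟨c, hc⟩, rfl⟩ := h.π_surj m
    rw [← map_inv, ← map_mul, ← map_mul] at hm
    have hcyx : c * h.y * c⁻¹ * x = x * (c * h.y * c⁻¹) := by
      have := comm_conj c h.yx
      rwa [mem_cent.mp hc, mul_inv_cancel_right] at this
    have hzero : h.π ⟨t * (c * h.y * c⁻¹)⁻¹, mul_mem (mem_cent.mpr ht) (inv_mem (mem_cent.mpr hcyx))⟩ = 1 := by
      rw [show (⟨t * (c * h.y * c⁻¹)⁻¹, _⟩ : ↥(Subgroup.centralizer ({x} : Set G))) =
        ⟨t, mem_cent.mpr ht⟩ * (⟨c, hc⟩ * ⟨h.y, mem_cent.mpr h.yx⟩ * ⟨c, hc⟩⁻¹)⁻¹ from rfl,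
        map_mul, map_inv, hm, mul_inv_cancel]
    have hcom : Commute t (c * h.y * c⁻¹)⁻¹ := by
      have h1 := h.π_eq_one.mp hzero
      have h2 := congrArg Subtype.val (Subgroup.mem_center_iff.mp h1 ⟨t, mem_cent.mpr ht⟩)
      simp only [Subgroup.coe_mul] at h2
      rw [mul_assoc t _ t] at h2
      exact mul_left_cancel h2
    have h3 : (t * (c * h.y * c⁻¹)⁻¹) ^ 3 = 1 := by
      rw [hcom.mul_pow, inv_pow, conj_pow, h.y_pow, ht3, mul_one, mul_inv_cancel, inv_one, mul_one]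
    rcases h.mem_P.mp (h.ker_three hzero h3) with e | e | e
    · exact ⟨c, mem_cent.mp hc, (mul_inv_eq_one.mp e).symm⟩
    · refine ⟨c * h.aa, by rw [mul_assoc, h.ax, ← mul_assoc, mem_cent.mp hc, mul_assoc], ?_⟩
      rw [show c * h.aa * h.y * (c * h.aa)⁻¹ = c * (h.aa * h.y * h.aa⁻¹) * c⁻¹ by group, h.a_y,
        mul_inv_eq_iff_eq_mul.mp e, ← mul_assoc c x, mem_cent.mp hc]
      group
    · refine ⟨c * (h.aa * h.aa), ?_, ?_⟩
      · exact ((show Commute c x from mem_cent.mp hc).mul_left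
          ((show Commute h.aa x from h.ax).mul_left (show Commute h.aa x from h.ax))).eq
      · rw [mul_inv_eq_iff_eq_mul.mp e,
          show c * (h.aa * h.aa) * h.y * (c * (h.aa * h.aa))⁻¹ =
            c * (h.aa * (h.aa * h.y * h.aa⁻¹) * h.aa⁻¹) * c⁻¹ by group,
          h.a_y, show h.aa * (x * h.y) * h.aa⁻¹ = (h.aa * x * h.aa⁻¹) * (h.aa * h.y * h.aa⁻¹) by group,
          h.a_y, h.ax, mul_inv_cancel_right, ← mul_assoc x x, ← h.x_inv, ← mul_assoc c x⁻¹,
          ((show Commute c x from mem_cent.mp hc).inv_right).eq]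
        group
  obtain ⟨c1, hc1, e1⟩ := main hs hs3 hsP
  obtain ⟨c2, hc2, e2⟩ := main ht ht3 htP
  refine ⟨c2 * c1⁻¹, ?_, ?_⟩
  · exact ((show Commute c2 x from hc2).mul_left (show Commute c1 x from hc1).inv_left).eq
  · rw [← e2, ← e1]
    group

/-- Every noncentral element of order three of `C(x)` is conjugate to `x`. -/
theorem Hyp.conj_x {s : G} (hs : s * x = x * s) (hs3 : s ^ 3 = 1) (hsP : s ∉ Subgroup.zpowers x) :
    ∃ k : G, k * x * k⁻¹ = s := by
  obtain ⟨c, -, e⟩ := h.three_conj h.yx h.y_pow h.y_notP hs hs3 hsP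
  exact ⟨c * h.kk, by rw [← e, Hyp.y]; group⟩

/-- An element inverting `x` fixes `z`. -/
theorem Hyp.inv_fix_z {n : G} (hn : n * x * n⁻¹ = x⁻¹) : n * h.z = h.z * n := by
  have hcen : ∀ u, u * x = x * u → (n * u * n⁻¹) * x = x * (n * u * n⁻¹) := by
    intro u hu
    have h1 := comm_conj n hu
    rw [hn] at h1
    have h2 := (show Commute (n * u * n⁻¹) x⁻¹ from h1).inv_right
    rwa [inv_inv] at h2
  have hzx := hcen _ h.zx
  set C := Subgroup.centralizer ({x} : Set G)
  have hcenter : h.π ⟨n * h.z * n⁻¹, mem_cent.mpr hzx⟩ = 1 := by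
    refine h.π_eq_one.mpr (Subgroup.mem_center_iff.mpr fun d => Subtype.ext ?_)
    have hd : (n⁻¹ * (d : G) * n) * x = x * (n⁻¹ * (d : G) * n) := by
      have h1 := comm_conj' n (mem_cent.mp d.2)
      have hx' : n⁻¹ * x * n = x⁻¹ := by
        calc n⁻¹ * x * n = (n⁻¹ * x⁻¹ * n)⁻¹ := by group
          _ = x⁻¹ := by
            have hx1 : n⁻¹ * x⁻¹ * n = x := by rw [← hn]; group
            rw [hx1]
      rw [hx'] at h1
      have h2 := (show Commute (n⁻¹ * (d : G) * n) x⁻¹ from h1).inv_right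
      rwa [inv_inv] at h2
    have h1 := comm_conj n (h.z_cen hd)
    rwa [show n * (n⁻¹ * (d : G) * n) * n⁻¹ = d by group] at h1
  rcases h.ker_two hcenter (k := 1) (by rw [pow_one, conj_pow, sq, h.zz, mul_one, mul_inv_cancel]) with e1 | e1
  · exact absurd (conj_eq_one_iff.mp e1) h.z_ne
  · exact mul_inv_eq_iff_eq_mul.mp e1

/-- Some element fixing `z` inverts `x`. -/
theorem Hyp.exists_inv : ∃ n : G, n * x * n⁻¹ = x⁻¹ ∧ n * h.z = h.z * n := by
  have hy' : h.y⁻¹ ∉ Subgroup.zpowers x := fun e => h.y_notP (by simpa using inv_mem e)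
  obtain ⟨c, -, e⟩ := h.three_conj h.yx h.y_pow h.y_notP
    ((show Commute h.y x from h.yx).inv_left.eq) (by rw [inv_pow, h.y_pow, inv_one]) hy'
  set n := h.kk⁻¹ * c * h.kk
  have hn : n * x * n⁻¹ = x⁻¹ := by
    calc n * x * n⁻¹ = h.kk⁻¹ * (c * h.y * c⁻¹) * h.kk := by rw [Hyp.y]; simp only [n]; group
      _ = x⁻¹ := by rw [e, Hyp.y]; group
  exact ⟨n, hn, h.inv_fix_z hn⟩

end CfsgLib.JankoSix
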