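/-
The largest normal 2-subgroup of the centraliser of the central involution is extraspecial of order 2^13.
-/
import Cfsg.Agent.Lib.JankoSix.Setting
import Cfsg.Agent.Lib.JankoSix.Parts
import Cfsg.Agent.Lib.CoprimeGen
import Cfsg.Agent.Lib.Elementary
import Cfsg.Agent.Lib.ExtraspecialTwo
import Cfsg.Agent.Lib.LargeExtra.Odd

set_option autoImplicit false
set_option linter.unusedSectionVars false

namespace CfsgLib.JankoSix

open Cfsg CfsgLib.JankoFour
open scoped Pointwise commutatorElement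

local notation "M" => MTwoTwo

variable {G : Type*} [Group G] [Finite G] {x : G} (h : Hyp x)

/-- The centraliser of the central involution. -/
noncomputable abbrev Hyp.H : Subgroup G := Subgroup.centralizer ({h.z} : Set G)

/-- Its largest normal 2-subgroup. -/
noncomputable def Hyp.E : Subgroup G := twoCoreOfCentralizer h.z

/-- The conjugate of `z` belonging to `y`. -/
noncomputable def Hyp.zy : G := h.kk * h.z * h.kk⁻¹

/-- The Frattini subgroup of `S` with `z` adjoined. -/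
noncomputable def Hyp.frat (S : Subgroup G) : Subgroup G :=
  (frattini ↥S).map S.subtype ⊔ Subgroup.zpowers h.z

namespace Hyp

include h

theorem mem_H {g : G} : g ∈ h.H ↔ g * h.z = h.z * g := mem_cent

theorem C_le_H {g : G} (hg : g * x = x * g) : g ∈ h.H := h.mem_H.mpr (h.z_cen hg)

theorem x_mem_H : x ∈ h.H := h.C_le_H rfl

theorem y_mem_H : h.y ∈ h.H := h.C_le_H h.yx

theorem a_mem_H : h.aa ∈ h.H := h.C_le_H h.ax

theorem z_mem_H : h.z ∈ h.H := h.mem_H.mpr rfl

theorem E_le_H : h.E ≤ h.H := Subgroup.map_subtype_le _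

theorem E_two : IsPGroup 2 ↥h.E := (isPGroup_pCore 2).map _

theorem E_pow {e : G} (he : e ∈ h.E) : ∃ k : ℕ, e ^ 2 ^ k = 1 := by
  obtain ⟨k, hk⟩ := h.E_two ⟨e, he⟩
  exact ⟨k, congrArg Subtype.val hk⟩

theorem E_conj {g e : G} (hg : g ∈ h.H) (he : e ∈ h.E) : g * e * g⁻¹ ∈ h.E := by
  obtain ⟨⟨e', he'⟩, hm, rfl⟩ := he
  exact ⟨⟨g, hg⟩ * ⟨e', he'⟩ * (⟨g, hg⟩ : ↥h.H)⁻¹, (pCore_normal 2 _).conj_mem _ hm _, rfl⟩

theorem H_le_normalizer : h.H ≤ Subgroup.normalizer (h.E : Set G) := by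
  intro g hg
  refine Subgroup.mem_normalizer_iff.mpr fun e => ⟨h.E_conj hg, fun he => ?_⟩
  have := h.E_conj (inv_mem hg) he
  rwa [show g⁻¹ * (g * e * g⁻¹) * g⁻¹⁻¹ = e by group] at this

theorem zpowers_z {g : G} (hg : g ∈ Subgroup.zpowers h.z) : g = 1 ∨ g = h.z := by
  obtain ⟨n, rfl⟩ := Subgroup.mem_zpowers_iff.mp hg
  have ho : orderOf h.z = 2 := orderOf_eq_prime (by rw [sq, h.zz]) h.z_ne
  rw [← zpow_mod_orderOf, ho]
  rcases (by omega : n % ((2 : ℕ) : ℤ) = 0 ∨ n % ((2 : ℕ) : ℤ) = 1) with e | e <;> rw [e]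
  · exact Or.inl (zpow_zero _)
  · exact Or.inr (zpow_one _)

theorem orderOf_z : orderOf h.z = 2 := orderOf_eq_prime (by rw [sq, h.zz]) h.z_ne

theorem card_zpowers_z : Nat.card ↥(Subgroup.zpowers h.z) = 2 := by rw [Nat.card_zpowers, h.orderOf_z]

theorem z_mem_E : h.z ∈ h.E := by
  set Z := (Subgroup.zpowers h.z).subgroupOf h.H
  have hn : Z.Normal := ⟨fun n hn g => by
    have hgz : (g : G) * h.z = h.z * g := h.mem_H.mp g.2
    rw [Subgroup.mem_subgroupOf] at hn ⊢
    rcases h.zpowers_z hn with e | e <;> simp only [Subgroup.coe_mul, Subgroup.coe_inv, e]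
    · rw [mul_one, mul_inv_cancel]; exact one_mem _
    · rw [hgz, mul_inv_cancel_right]; exact Subgroup.mem_zpowers _⟩
  have hp : IsPGroup 2 ↥Z := (IsPGroup.of_card (n := 1) (by rw [h.card_zpowers_z, pow_one])).of_equiv
    (Subgroup.subgroupOfEquivOfLe (Subgroup.zpowers_le.mpr h.z_mem_H)).symm
  exact ⟨⟨h.z, h.z_mem_H⟩, le_pCore hp (Subgroup.mem_subgroupOf.mpr (Subgroup.mem_zpowers _)), rfl⟩

theorem cent_E {g : G} (hg : g ∈ h.H) (hc : ∀ e ∈ h.E, g * e = e * g) : g ∈ h.E := by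
  have hT : IsPGroup 2 ↥(Subgroup.zpowers h.z) := IsPGroup.of_card (n := 1) (by rw [h.card_zpowers_z, pow_one])
  have hne : Subgroup.zpowers h.z ≠ ⊥ := fun e => h.z_ne (Subgroup.zpowers_eq_bot.mp e)
  have hN : Subgroup.normalizer ((Subgroup.zpowers h.z : Subgroup G) : Set G) = h.H := by
    ext u
    rw [h.mem_H]
    constructor
    · intro hu
      rcases h.zpowers_z ((Subgroup.mem_normalizer_iff.mp hu h.z).mp (Subgroup.mem_zpowers _)) with e | e
      · exact absurd (conj_eq_one_iff.mp e) h.z_ne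
      · exact mul_inv_eq_iff_eq_mul.mp e
    · intro hu
      refine Subgroup.mem_normalizer_iff.mpr fun v => ⟨fun hv => ?_, fun hv => ?_⟩
      · rcases h.zpowers_z hv with e | e <;> rw [e]
        · rw [mul_one, mul_inv_cancel]; exact one_mem _
        · rw [hu, mul_inv_cancel_right]; exact Subgroup.mem_zpowers _
      · rcases h.zpowers_z hv with e | e
        · rw [conj_eq_one_iff.mp e]; exact one_mem _
        · have : v = h.z := by
            rw [mul_inv_eq_iff_eq_mul, ← hu] at e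
            exact mul_left_cancel e
          rw [this]; exact Subgroup.mem_zpowers _
  have h2 := h.char2.2 _ hT hne
  rw [hN] at h2
  have hm : (⟨g, hg⟩ : ↥h.H) ∈ Subgroup.centralizer (pCore 2 ↥h.H : Set ↥h.H) :=
    Subgroup.mem_centralizer_iff.mpr fun e he => Subtype.ext (hc (e : G) ⟨e, he, rfl⟩).symm
  exact ⟨⟨g, hg⟩, h2 hm, rfl⟩

/-- Only `1` and `z` in `E` commute with `x`. -/
theorem cent_x {e : G} (he : e ∈ h.E) (hex : e * x = x * e) : e = 1 ∨ e = h.z := by
  classical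
  set C := Subgroup.centralizer ({x} : Set G)
  set K := h.E.subgroupOf C
  have hK : K.Normal := ⟨fun n hn g => h.E_conj (h.C_le_H (mem_cent.mp g.2)) hn⟩
  have hKp : IsPGroup 2 ↥K := h.E_two.comap_of_injective C.subtype C.subtype_injective
  have := simple_M
  have hbot : K.map h.π = ⊥ := by
    refine ((hK.map h.π h.π_surj).eq_bot_or_eq_top).resolve_right fun ht => ?_
    have hp : IsPGroup 2 ↥(⊤ : Subgroup M) := ht ▸ hKp.map _
    have : Fact (Nat.Prime 2) := ⟨Nat.prime_two⟩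
    obtain ⟨n, hn⟩ := IsPGroup.iff_card.mp hp
    rw [Subgroup.card_top, card_M] at hn
    have h7 : 7 ∣ 2 ^ n := hn ▸ (by norm_num)
    have := (show Nat.Prime 7 by norm_num).dvd_of_dvd_pow h7
    norm_num at this
  have h1 : h.π ⟨e, mem_cent.mpr hex⟩ = 1 := by
    rw [← Subgroup.mem_bot, ← hbot]
    exact ⟨⟨e, mem_cent.mpr hex⟩, he, rfl⟩
  obtain ⟨k, hk⟩ := h.E_pow he
  exact h.ker_two h1 hk

theorem inf_cent_x (S : Subgroup G) (hS : S ≤ h.E) :
    S ⊓ Subgroup.centralizer ({x} : Set G) ≤ Subgroup.zpowers h.z := fun e he => by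
  rcases h.cent_x (hS he.1) (mem_cent.mp he.2) with e' | e' <;> rw [e']
  exacts [one_mem _, Subgroup.mem_zpowers _]

theorem zy_cen {g : G} (hg : g * h.y = h.y * g) : g * h.zy = h.zy * g := by
  have h1 := comm_conj' h.kk hg
  rw [show h.kk⁻¹ * h.y * h.kk = x by rw [Hyp.y]; group] at h1
  have h2 := comm_conj h.kk (h.z_cen h1)
  rwa [show h.kk * (h.kk⁻¹ * g * h.kk) * h.kk⁻¹ = g by group] at h2

theorem zy_sq : h.zy * h.zy = 1 := by
  rw [Hyp.zy, show h.kk * h.z * h.kk⁻¹ * (h.kk * h.z * h.kk⁻¹) = h.kk * (h.z * h.z) * h.kk⁻¹ by group, h.zz]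
  group

theorem zy_ne_one : h.zy ≠ 1 := fun e => h.z_ne (conj_eq_one_iff.mp e)

theorem zy_x : h.zy * x = x * h.zy := (h.zy_cen h.yx.symm).symm

theorem zy_mem_H : h.zy ∈ h.H := h.C_le_H h.zy_x

theorem frat_le {S : Subgroup G} (hz : h.z ∈ S) : h.frat S ≤ S :=
  sup_le (Subgroup.map_subtype_le _) (Subgroup.zpowers_le.mpr hz)

theorem z_mem_frat (S : Subgroup G) : h.z ∈ h.frat S :=
  le_sup_right (a := (frattini ↥S).map S.subtype) (Subgroup.mem_zpowers _)

theorem frat_normalizer {S : Subgroup G} {g : G} (hg : g ∈ Subgroup.normalizer (S : Set G)) (hH : g ∈ h.H) :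
    g ∈ Subgroup.normalizer (h.frat S : Set G) := by
  have hW := (le_normalizer_map_characteristic (le_refl (Subgroup.normalizer (S : Set G))) (frattini ↥S)).1
  have key : ∀ u : G, u ∈ Subgroup.normalizer (S : Set G) → u ∈ h.H → ∀ v ∈ h.frat S, u * v * u⁻¹ ∈ h.frat S := by
    intro u hu huH v hv
    have hle : h.frat S ≤ (h.frat S).comap (MulAut.conj u).toMonoidHom := by
      refine sup_le (fun w hw => ?_) (Subgroup.zpowers_le.mpr ?_)
      · exact le_sup_left (b := Subgroup.zpowers h.z) ((Subgroup.mem_normalizer_iff.mp (hW hu) w).mp hw)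
      · show u * h.z * u⁻¹ ∈ h.frat S
        rw [h.mem_H.mp huH, mul_inv_cancel_right]
        exact h.z_mem_frat S
    exact hle hv
  refine Subgroup.mem_normalizer_iff.mpr fun v => ⟨key g hg hH v, fun hv => ?_⟩
  have := key g⁻¹ (inv_mem hg) (inv_mem hH) _ hv
  rwa [show g⁻¹ * (g * v * g⁻¹) * g⁻¹⁻¹ = v by group] at this

theorem sq_mem_frat {S : Subgroup G} (hS : IsPGroup 2 ↥S) {s : G} (hs : s ∈ S) : s * s ∈ h.frat S := by
  have : Fact (Nat.Prime 2) := ⟨Nat.prime_two⟩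
  exact le_sup_left (b := Subgroup.zpowers h.z)
    ⟨(⟨s, hs⟩ : ↥S) ^ 2, pow_mem_frattini_pGroup hS _, by
      show ((⟨s, hs⟩ : ↥S) ^ 2 : ↥S).1 = s * s
      rw [Subgroup.coe_pow, sq]⟩

theorem eq_z_of_frat {S : Subgroup G} (hz : h.z ∈ S) (he : h.frat S = S) : S = Subgroup.zpowers h.z := by
  have h1 : (Subgroup.zpowers h.z).subgroupOf S ⊔ frattini ↥S = ⊤ := by
    refine Subgroup.map_injective S.subtype_injective ?_
    rw [Subgroup.map_sup, ← MonoidHom.range_eq_map, Subgroup.range_subtype, Subgroup.subgroupOf_map_subtype,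
      inf_eq_left.mpr (Subgroup.zpowers_le.mpr hz), sup_comm]
    exact he
  have h2 := frattini_nongenerating h1
  exact le_antisymm (Subgroup.subgroupOf_eq_top.mp h2) (Subgroup.zpowers_le.mpr hz)

/-- The index of an invariant section is the cube of the index in the centraliser of `y`. -/
theorem cube {N S : Subgroup G} (hS : S ≤ h.E) (hNS : N ≤ S) (hSN : S ≤ Subgroup.normalizer (N : Set G))
    (hz : h.z ∈ N) (hsq : ∀ s ∈ S, s * s ∈ N)
    (hnS : ∀ g ∈ ({x, h.y, h.aa} : Set G), g ∈ Subgroup.normalizer (S : Set G))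
    (hnN : ∀ g ∈ ({x, h.y, h.aa} : Set G), g ∈ Subgroup.normalizer (N : Set G)) :
    N.relIndex S = N.relIndex (S ⊓ Subgroup.centralizer ({h.y} : Set G)) ^ 3 ∧
      ∃ j, N.relIndex (S ⊓ Subgroup.centralizer ({h.y} : Set G)) = 4 ^ j := by
  obtain ⟨hprod, hj⟩ := parts_relIndex h.yx.symm h.x_pow h.y_pow hSN hNS (h.E_two.to_le hS) hsq
    (hnS x (by simp)) (hnS _ (by simp)) (hnN x (by simp)) (hnN _ (by simp))
    ((h.inf_cent_x S hS).trans (Subgroup.zpowers_le.mpr hz))
  have haS := hnS h.aa (by simp)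
  have haN := hnN h.aa (by simp)
  have fix : ∀ {K : Subgroup G}, h.aa ∈ Subgroup.normalizer (K : Set G) →
      K.map (MulAut.conj h.aa).toMonoidHom = K := by
    intro K hK
    ext u
    constructor
    · rintro ⟨v, hv, rfl⟩
      exact (Subgroup.mem_normalizer_iff.mp hK v).mp hv
    · intro hu
      refine ⟨h.aa⁻¹ * u * h.aa, (Subgroup.mem_normalizer_iff.mp hK _).mpr ?_, ?_⟩
      · rwa [show h.aa * (h.aa⁻¹ * u * h.aa) * h.aa⁻¹ = u by group]
      · show h.aa * (h.aa⁻¹ * u * h.aa) * h.aa⁻¹ = u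
        group
  have move : ∀ u : G, N.relIndex (S ⊓ Subgroup.centralizer ({h.aa * u * h.aa⁻¹} : Set G)) =
      N.relIndex (S ⊓ Subgroup.centralizer ({u} : Set G)) := by
    intro u
    have hinj : Function.Injective (MulAut.conj h.aa).toMonoidHom := (MulAut.conj h.aa).injective
    conv_rhs => rw [← Subgroup.relIndex_map_map_of_injective (f := (MulAut.conj h.aa).toMonoidHom) _ _ hinj]
    rw [fix haN, Subgroup.map_inf _ _ _ hinj, fix haS]
    congr 2
    ext v
    rw [mem_cent]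
    constructor
    · intro hv
      refine ⟨h.aa⁻¹ * v * h.aa, mem_cent.mpr ?_, ?_⟩
      · have := comm_conj' h.aa hv
        rwa [show h.aa⁻¹ * (h.aa * u * h.aa⁻¹) * h.aa = u by group] at this
      · show h.aa * (h.aa⁻¹ * v * h.aa) * h.aa⁻¹ = v
        group
    · rintro ⟨w, hw, rfl⟩
      exact comm_conj h.aa (mem_cent.mp hw)
  have e1 : h.aa * h.y * h.aa⁻¹ = x * h.y := h.a_y
  have e2 : h.aa * (x * h.y) * h.aa⁻¹ = x * x * h.y := by
    rw [show h.aa * (x * h.y) * h.aa⁻¹ = (h.aa * x * h.aa⁻¹) * (h.aa * h.y * h.aa⁻¹) by group, h.ax,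
      mul_inv_cancel_right, h.a_y, mul_assoc]
  refine ⟨?_, hj h.x_ne⟩
  rw [hprod, ← e2, move, ← e1, move]
  ring

/-- An invariant subgroup whose centralised part is `⟨z⟩` is `⟨z⟩`. -/
theorem inv_eq_z {S : Subgroup G} (hS : S ≤ h.E) (hz : h.z ∈ S)
    (hn : ∀ g ∈ ({x, h.y, h.aa} : Set G), g ∈ Subgroup.normalizer (S : Set G))
    (hy : S ⊓ Subgroup.centralizer ({h.y} : Set G) ≤ Subgroup.zpowers h.z) : S = Subgroup.zpowers h.z := by
  have hH : ∀ g ∈ ({x, h.y, h.aa} : Set G), g ∈ h.H := by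
    rintro g (rfl | rfl | rfl)
    exacts [h.x_mem_H, h.y_mem_H, h.a_mem_H]
  have hSN : S ≤ Subgroup.normalizer (h.frat S : Set G) := fun s hs =>
    h.frat_normalizer (Subgroup.le_normalizer hs) (h.E_le_H (hS hs))
  obtain ⟨h3, -⟩ := h.cube hS (h.frat_le hz) hSN (h.z_mem_frat S)
    (fun s hs => h.sq_mem_frat (h.E_two.to_le hS) hs) hn (fun g hg => h.frat_normalizer (hn g hg) (hH g hg))
  rw [Subgroup.relIndex_eq_one.mpr (hy.trans (Subgroup.zpowers_le.mpr (h.z_mem_frat S))), one_pow,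
    Subgroup.relIndex_eq_one] at h3
  exact h.eq_z_of_frat hz (le_antisymm (h.frat_le hz) h3)

theorem E_normalised : ∀ g ∈ ({x, h.y, h.aa} : Set G), g ∈ Subgroup.normalizer (h.E : Set G) := by
  rintro g (rfl | rfl | rfl)
  exacts [h.H_le_normalizer h.x_mem_H, h.H_le_normalizer h.y_mem_H, h.H_le_normalizer h.a_mem_H]

theorem x_not_mem_E : x ∉ h.E := fun hx => by
  rcases h.cent_x hx rfl with e | e
  · exact h.x_ne e
  · have := h.ord
    rw [e, h.orderOf_z] at this
    norm_num at this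

theorem zy_ne_z : h.zy ≠ h.z := by
  intro e
  have hk : h.kk ∈ h.H := h.mem_H.mpr (mul_inv_eq_iff_eq_mul.mp e)
  have hy : h.E ⊓ Subgroup.centralizer ({h.y} : Set G) ≤ Subgroup.zpowers h.z := by
    rintro u ⟨hu, huy⟩
    have hu' : h.kk⁻¹ * u * h.kk ∈ h.E := by
      have := h.E_conj (inv_mem hk) hu
      rwa [inv_inv] at this
    have huc := comm_conj' h.kk (mem_cent.mp huy)
    rw [show h.kk⁻¹ * h.y * h.kk = x by rw [Hyp.y]; group] at huc
    rcases h.cent_x hu' huc with e' | e'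
    · rw [show u = 1 by
        calc u = h.kk * (h.kk⁻¹ * u * h.kk) * h.kk⁻¹ := by group
          _ = 1 := by rw [e']; group]
      exact one_mem _
    · rw [show u = h.z by
        calc u = h.kk * (h.kk⁻¹ * u * h.kk) * h.kk⁻¹ := by group
          _ = h.z := by rw [e']; exact e]
      exact Subgroup.mem_zpowers _
  have hE := h.inv_eq_z le_rfl h.z_mem_E h.E_normalised hy
  refine h.x_not_mem_E (h.cent_E h.x_mem_H fun u hu => ?_)
  rcases h.zpowers_z (hE ▸ hu) with rfl | rfl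
  · rw [mul_one, one_mul]
  · exact h.zx.symm

theorem zy_not_mem_E : h.zy ∉ h.E := fun hm => by
  rcases h.cent_x hm h.zy_x with e | e
  · exact h.zy_ne_one e
  · exact h.zy_ne_z e

/-- No conjugate of `x` under `C(z)` is a noncentral element of `C(x)`. -/
theorem no_conj {g : G} (hg : g ∈ h.H) (hs : g * x * g⁻¹ * x = x * (g * x * g⁻¹)) :
    g * x * g⁻¹ ∈ Subgroup.zpowers x := by
  by_contra hn
  obtain ⟨c, hc, e⟩ := h.three_conj h.yx h.y_pow h.y_notP hs (by rw [conj_pow, h.x_pow, mul_one, mul_inv_cancel]) hn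
  have hu : (h.kk⁻¹ * c⁻¹ * g) * x = x * (h.kk⁻¹ * c⁻¹ * g) := by
    have : h.kk⁻¹ * c⁻¹ * (g * x * g⁻¹) * c * h.kk = x := by rw [← e, Hyp.y]; group
    calc (h.kk⁻¹ * c⁻¹ * g) * x = (h.kk⁻¹ * c⁻¹ * (g * x * g⁻¹) * c * h.kk) * (h.kk⁻¹ * c⁻¹ * g) := by group
      _ = x * (h.kk⁻¹ * c⁻¹ * g) := by rw [this]
  refine h.zy_ne_z ?_
  have h1 := h.z_cen hu
  have h2 : h.kk⁻¹ * c⁻¹ * g * h.z = h.kk⁻¹ * h.z * (c⁻¹ * g) := by
    rw [mul_assoc _ g, h.mem_H.mp hg, ← mul_assoc, mul_assoc h.kk⁻¹ c⁻¹ h.z,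
      (show Commute c h.z from h.z_cen hc).inv_left.eq]
    group
  rw [h2] at h1
  have h3 : h.kk⁻¹ * h.z = h.z * h.kk⁻¹ := by
    refine mul_right_cancel (b := c⁻¹ * g) ?_
    rw [h1]
    group
  rw [Hyp.zy, mul_assoc, ← h3, mul_inv_cancel_left]

/-- The map `u ↦ k⁻¹ u k` followed by the map onto M22. -/
theorem kk_conj_mem {u : G} (hu : u * h.y = h.y * u) : (h.kk⁻¹ * u * h.kk) * x = x * (h.kk⁻¹ * u * h.kk) := by
  have h1 := comm_conj' h.kk hu
  rwa [show h.kk⁻¹ * h.y * h.kk = x by rw [Hyp.y]; group] at h1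

theorem exists_psi : ∃ ψ : ↥(h.E ⊓ Subgroup.centralizer ({h.y} : Set G)) →* M, Function.Injective ψ ∧
    ∀ u, ψ u = h.π ⟨h.kk⁻¹ * (u : G) * h.kk, mem_cent.mpr (h.kk_conj_mem (mem_cent.mp u.2.2))⟩ := by
  let ψ : ↥(h.E ⊓ Subgroup.centralizer ({h.y} : Set G)) →* M :=
    { toFun := fun u => h.π ⟨h.kk⁻¹ * (u : G) * h.kk, mem_cent.mpr (h.kk_conj_mem (mem_cent.mp u.2.2))⟩
      map_one' := by
        rw [← map_one h.π]
        exact congrArg _ (Subtype.ext (by simp))
      map_mul' := fun u v => by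
        rw [← map_mul]
        exact congrArg _ (Subtype.ext (by simp [mul_assoc])) }
  refine ⟨ψ, (injective_iff_map_eq_one ψ).mpr fun u hu => ?_, fun u => rfl⟩
  obtain ⟨k, hk⟩ := h.E_pow u.2.1
  have hk' : (h.kk⁻¹ * (u : G) * h.kk) ^ 2 ^ k = 1 := by
    have e : h.kk⁻¹ * (u : G) * h.kk = h.kk⁻¹ * u * h.kk⁻¹⁻¹ := by rw [inv_inv]
    rw [e, conj_pow, hk, mul_one, mul_inv_cancel]
  rcases h.ker_two hu hk' with e | e
  · refine Subtype.ext ?_
    have e' : h.kk⁻¹ * (u : G) * h.kk = 1 := e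
    calc (u : G) = h.kk * (h.kk⁻¹ * u * h.kk) * h.kk⁻¹ := by group
      _ = 1 := by rw [e']; group
  · exfalso
    refine h.zy_not_mem_E ?_
    have : (u : G) = h.zy := by
      rw [Hyp.zy]
      have e' : h.kk⁻¹ * (u : G) * h.kk = h.z := e
      calc (u : G) = h.kk * (h.kk⁻¹ * u * h.kk) * h.kk⁻¹ := by group
        _ = _ := by rw [e']
    rw [← this]
    exact u.2.1

/-- The centraliser of `y` in `E` has order dividing 32. -/
theorem card_U_dvd : Nat.card ↥(h.E ⊓ Subgroup.centralizer ({h.y} : Set G)) ∣ 32 := by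
  classical
  set U := h.E ⊓ Subgroup.centralizer ({h.y} : Set G) with hU
  have : Fact (Nat.Prime 2) := ⟨Nat.prime_two⟩
  have : Fact (Nat.Prime 3) := ⟨by norm_num⟩
  obtain ⟨ψ, hψ, -⟩ := h.exists_psi
  obtain ⟨m, hm⟩ := IsPGroup.iff_card.mp (h.E_two.to_le (inf_le_left : U ≤ h.E))
  have hm7 : m ≤ 7 := by
    have hd : 2 ^ m ∣ 443520 := by
      rw [← hm, Nat.card_congr (MonoidHom.ofInjective hψ).toEquiv, ← card_M]
      exact Subgroup.card_subgroup_dvd_card _
    by_contra hlt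
    have h8 : 2 ^ 8 ∣ 443520 := (pow_dvd_pow 2 (by omega)).trans hd
    norm_num at h8
  have hUx : ∀ u ∈ U, x * u * x⁻¹ ∈ U := by
    rintro u ⟨hu, huy⟩
    refine ⟨h.E_conj h.x_mem_H hu, mem_cent.mpr ?_⟩
    have := comm_conj x (mem_cent.mp huy)
    rwa [← h.yx, mul_inv_cancel_right] at this
  let α : Function.End ↥U := fun u => ⟨x * u * x⁻¹, hUx u u.2⟩
  have hα3 : ∀ u, α (α (α u)) = u := fun u => Subtype.ext (by
    show x * (x * (x * (u : G) * x⁻¹) * x⁻¹) * x⁻¹ = u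
    calc x * (x * (x * (u : G) * x⁻¹) * x⁻¹) * x⁻¹ = x ^ 3 * u * (x ^ 3)⁻¹ := by
          simp only [pow_succ, pow_zero, one_mul, mul_inv_rev, mul_assoc]
      _ = u := by rw [h.x_pow]; group)
  have hzU : h.z ∈ U := ⟨h.z_mem_E, mem_cent.mpr (h.z_cen h.yx).symm⟩
  have hfix : Function.fixedPoints α = {1, ⟨h.z, hzU⟩} := by
    ext u
    simp only [Set.mem_insert_iff, Set.mem_singleton_iff]
    constructor
    · intro hu
      rcases h.cent_x u.2.1 (mul_inv_eq_iff_eq_mul.mp (congrArg Subtype.val hu : x * (u : G) * x⁻¹ = u)).symm with e | e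
      · exact Or.inl (Subtype.ext e)
      · exact Or.inr (Subtype.ext e)
    · rintro (rfl | rfl)
      · exact Subtype.ext (by show x * (1 : G) * x⁻¹ = 1; group)
      · exact Subtype.ext (by show x * h.z * x⁻¹ = h.z; rw [← h.zx, mul_inv_cancel_right])
  have := Fintype.ofFinite ↥U
  have hmod := Equiv.Perm.card_fixedPoints_modEq (p := 3) (n := 1) (f := α) (funext fun u => hα3 u)
  simp only [← Nat.card_eq_fintype_card] at hmod
  rw [hm, hfix, Nat.card_coe_set_eq, Set.ncard_pair (fun e => h.z_ne (congrArg Subtype.val e).symm)] at hmod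
  have hm_ne : m ≠ 7 := by
    rintro rfl
    let S : Sylow 2 M := Sylow.ofCard ψ.range (by
      rw [← Nat.card_congr (MonoidHom.ofInjective hψ).toEquiv, hm, factorization_M22.1])
    obtain ⟨k, hk⟩ := sylow_two_conj S
    have hr : ψ.range = sylS.map (MulAut.conj k).toMonoidHom := by rw [← hk]; rfl
    let f : ↥U ≃* ↥sylS := (MonoidHom.ofInjective hψ).trans ((MulEquiv.subgroupCongr hr).trans
      (sylS.equivMapOfInjective _ (MulAut.conj k).injective).symm)
    let αe : MulAut ↥U :=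
      { toFun := α
        invFun := fun u => α (α u)
        left_inv := fun u => hα3 u
        right_inv := fun u => hα3 u
        map_mul' := fun u v => Subtype.ext (by simp [α, mul_assoc]) }
    obtain ⟨s, hs, hs1, hs2⟩ := three_auto (θ := (f.symm.trans αe).trans f)
      (fun s => by
        show f (α (f.symm (f (α (f.symm (f (α (f.symm s)))))))) = s
        rw [f.symm_apply_apply, f.symm_apply_apply, hα3, f.apply_symm_apply])
      (w := f ⟨h.z, hzU⟩)
      (fun s => by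
        rw [← f.apply_symm_apply s, ← map_mul, ← map_mul]
        exact congrArg f (Subtype.ext (h.mem_H.mp (h.E_le_H (f.symm s).2.1)).symm))
      (by rw [← map_mul, ← map_one f]; exact congrArg f (Subtype.ext h.zz))
      (fun e => h.z_ne (congrArg Subtype.val (f.injective (e.trans (map_one f).symm))))
      (by
        show f (α (f.symm (f ⟨h.z, hzU⟩))) = f ⟨h.z, hzU⟩
        rw [f.symm_apply_apply]
        exact congrArg f (Subtype.ext (by show x * h.z * x⁻¹ = h.z; rw [← h.zx, mul_inv_cancel_right])))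
    have hfs : α (f.symm s) = f.symm s := f.injective (by rw [f.apply_symm_apply]; exact hs)
    have hmem : f.symm s ∈ Function.fixedPoints α := hfs
    rw [hfix] at hmem
    rcases hmem with e | e
    · exact hs1 (by rw [← f.apply_symm_apply s, e, map_one])
    · exact hs2 (by rw [← f.apply_symm_apply s, Set.mem_singleton_iff.mp e])
  rw [hm]
  have : m ≤ 5 := by
    interval_cases m <;> first | omega | exact absurd hmod (by decide)
  exact pow_dvd_pow 2 this

theorem exists_eleven : ∃ v : G, v * x = x * v ∧ v ^ 11 = 1 ∧ ∃ e ∈ h.E, v * e ≠ e * v := by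
  have : Fact (Nat.Prime 11) := ⟨by norm_num⟩
  obtain ⟨⟨v, hv⟩, ho⟩ := exists_prime_orderOf_dvd_card' (G := ↥(Subgroup.centralizer ({x} : Set G))) 11
    (by rw [h.card_centralizer]; norm_num)
  rw [← Subgroup.orderOf_coe] at ho
  refine ⟨v, mem_cent.mp hv, ho ▸ pow_orderOf_eq_one v, ?_⟩
  by_contra hall
  push Not at hall
  obtain ⟨k, hk⟩ := h.E_pow (h.cent_E (h.C_le_H (mem_cent.mp hv)) hall)
  have h11 : 11 ∣ 2 ^ k := ho ▸ orderOf_dvd_of_pow_eq_one hk
  have := (show Nat.Prime 11 by norm_num).dvd_of_dvd_pow h11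
  norm_num at this

theorem eleven_coprime {v : G} (hv : v ^ 11 = 1) {S : Subgroup G} (hS : S ≤ h.E) :
    (Nat.card ↥(Subgroup.zpowers v)).Coprime (Nat.card ↥S) := by
  have : Fact (Nat.Prime 2) := ⟨Nat.prime_two⟩
  obtain ⟨m, hm⟩ := IsPGroup.iff_card.mp (h.E_two.to_le hS)
  rw [hm, Nat.card_zpowers]
  exact Nat.Coprime.coprime_dvd_left (orderOf_dvd_of_pow_eq_one hv) (Nat.Coprime.pow_right _ (by norm_num))

/-- An element of order eleven acts trivially on small sections. -/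
theorem eleven_small {v : G} (hv : v ^ 11 = 1) {N S : Subgroup G} (hS : S ≤ h.E) (hNS : N ≤ S)
    (hSN : S ≤ Subgroup.normalizer (N : Set G)) (hvS : v ∈ Subgroup.normalizer (S : Set G))
    (hvN : v ∈ Subgroup.normalizer (N : Set G)) (hsmall : N.relIndex S < 2 ^ 10) {s : G} (hs : s ∈ S) :
    ∃ c ∈ S, c * v = v * c ∧ c⁻¹ * s ∈ N := by
  classical
  have : Fact (Nat.Prime 2) := ⟨Nat.prime_two⟩
  have : Fact (Nat.Prime 11) := ⟨by norm_num⟩
  have hn : (N.subgroupOf S).Normal := Subgroup.normal_subgroupOf_iff_le_normalizer hNS |>.mpr hSN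
  set q := QuotientGroup.mk' (N.subgroupOf S) with hq
  have qeq : ∀ u w : ↥S, q u = q w ↔ (u : G)⁻¹ * w ∈ N := fun u w => by
    rw [hq, QuotientGroup.mk'_apply, QuotientGroup.mk'_apply, QuotientGroup.eq, Subgroup.mem_subgroupOf]
    rfl
  let cv : ↥S →* ↥S :=
    { toFun := fun u => ⟨v * u * v⁻¹, (Subgroup.mem_normalizer_iff.mp hvS u).mp u.2⟩
      map_one' := Subtype.ext (by simp)
      map_mul' := fun u w => Subtype.ext (by simp [mul_assoc]) }
  let φ : ↥S ⧸ N.subgroupOf S →* ↥S ⧸ N.subgroupOf S :=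
    QuotientGroup.map _ _ cv (fun u hu => (Subgroup.mem_normalizer_iff.mp hvN _).mp hu)
  let α : Function.End (↥S ⧸ N.subgroupOf S) := fun w => φ w
  have hαn : ∀ (n : ℕ) (u : ↥S), ∃ hm, (α ^ n) (q u) = q ⟨v ^ n * u * (v ^ n)⁻¹, hm⟩ := by
    intro n
    induction n with
    | zero => exact fun u => ⟨by simp, congrArg q (Subtype.ext (by simp))⟩
    | succ n ih =>
      intro u
      obtain ⟨hm, e⟩ := ih u
      have hm' : v ^ (n + 1) * (u : G) * (v ^ (n + 1))⁻¹ ∈ S :=
        (Subgroup.mem_normalizer_iff.mp (pow_mem hvS (n + 1)) u).mp u.2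
      refine ⟨hm', ?_⟩
      rw [pow_succ']
      show φ ((α ^ n) (q u)) = _
      rw [e]
      refine congrArg q (Subtype.ext ?_)
      show v * (v ^ n * (u : G) * (v ^ n)⁻¹) * v⁻¹ = v ^ (n + 1) * u * (v ^ (n + 1))⁻¹
      rw [pow_succ']
      group
  have hα : α ^ 11 ^ 1 = 1 := by
    funext w
    obtain ⟨u, rfl⟩ := QuotientGroup.mk'_surjective _ w
    obtain ⟨hm, e11⟩ := hαn 11 u
    rw [pow_one]
    exact e11.trans (congrArg q (Subtype.ext (by show v ^ 11 * (u : G) * (v ^ 11)⁻¹ = u; rw [hv]; group)))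
  have := Fintype.ofFinite (↥S ⧸ N.subgroupOf S)
  have hmod := Equiv.Perm.card_fixedPoints_modEq (p := 11) (n := 1) (f := α) hα
  simp only [← Nat.card_eq_fintype_card] at hmod
  have hfix : Nat.card ↥(Function.fixedPoints α) = Nat.card ↥(fixSub φ) := rfl
  obtain ⟨d, hd⟩ := IsPGroup.iff_card.mp ((h.E_two.to_le hS).to_quotient (N.subgroupOf S))
  obtain ⟨a, had, ha⟩ := (Nat.dvd_prime_pow Nat.prime_two).mp
    (show Nat.card ↥(fixSub φ) ∣ 2 ^ d from hd ▸ Subgroup.card_subgroup_dvd_card _)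
  have hd10 : d < 10 := by
    have hlt : 2 ^ d < 2 ^ 10 := hd ▸ hsmall
    exact (Nat.pow_lt_pow_iff_right (by norm_num)).mp hlt
  rw [hd, hfix, ha] at hmod
  have hda : a = d := by
    revert hmod
    interval_cases d <;> interval_cases a <;> decide
  have htop : fixSub φ = ⊤ := Subgroup.eq_top_of_card_eq _ (by rw [ha, hda, hd])
  have hfixs : ∀ u : ↥S, φ (q u) = q u := fun u => (htop ▸ Subgroup.mem_top (q u) : q u ∈ fixSub φ)
  have hfix' : ∀ b ∈ Subgroup.zpowers v, b * s * b⁻¹ * s⁻¹ ∈ N := by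
    intro b hb
    obtain ⟨n, -, rfl⟩ := Finset.mem_image.mp
      ((isOfFinOrder_of_finite v).mem_zpowers_iff_mem_range_orderOf.mp hb)
    obtain ⟨hm, e⟩ := hαn n ⟨s, hs⟩
    have hiter : (α ^ n) (q ⟨s, hs⟩) = q ⟨s, hs⟩ := by
      clear e hb
      induction n with
      | zero => rfl
      | succ k ih =>
        obtain ⟨hm', -⟩ := hαn k ⟨s, hs⟩
        rw [pow_succ']
        show φ ((α ^ k) (q ⟨s, hs⟩)) = _
        rw [ih hm']
        exact hfixs _
    rw [hiter, qeq] at e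
    have := (Subgroup.mem_normalizer_iff.mp (hSN hs) _).mp e
    simpa [mul_assoc] using this
  obtain ⟨c, hc, hcN⟩ := CfsgLib.coprime_fixed_quotient (Subgroup.zpowers_le.mpr hvS) (h.eleven_coprime hv hS)
    (Or.inl (Group.isSolvable_of_comm fun a b => mul_comm' a b)) hNS hSN (Subgroup.zpowers_le.mpr hvN) hs hfix'
  refine ⟨c, hc.1, (hc.2 v (Subgroup.mem_zpowers v)).symm, ?_⟩
  have := inv_mem hcN
  rwa [mul_inv_rev, inv_inv] at this

theorem normalizer_z {g : G} (hg : g ∈ h.H) : g ∈ Subgroup.normalizer ((Subgroup.zpowers h.z : Subgroup G) : Set G) := by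
  refine Subgroup.mem_normalizer_iff.mpr fun v => ?_
  have hc : ∀ n : ℤ, g * h.z ^ n * g⁻¹ = h.z ^ n := fun n => by
    rw [((show Commute g h.z from h.mem_H.mp hg).zpow_right n).eq, mul_inv_cancel_right]
  constructor <;> intro hv <;> obtain ⟨n, hn⟩ := Subgroup.mem_zpowers_iff.mp hv
  · rw [← hn, hc]; exact zpow_mem (Subgroup.mem_zpowers _) n
  · have : v = h.z ^ n := by
      calc v = g⁻¹ * (g * v * g⁻¹) * g := by group
        _ = g⁻¹ * (g * h.z ^ n * g⁻¹) * g := by rw [hc, hn]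
        _ = h.z ^ n := by group
    rw [this]; exact zpow_mem (Subgroup.mem_zpowers _) n

/-- The Frattini subgroup of `E` lies in `⟨z⟩`, the centraliser of `y` in `E` has order 32, and `E` has order
`2 ^ 13`. -/
theorem E_structure : h.frat h.E = Subgroup.zpowers h.z ∧
    Nat.card ↥(h.E ⊓ Subgroup.centralizer ({h.y} : Set G)) = 32 ∧ Nat.card ↥h.E = 2 ^ 13 := by
  classical
  set U := h.E ⊓ Subgroup.centralizer ({h.y} : Set G)
  set N := h.frat h.E
  have hNE : N ≤ h.E := h.frat_le h.z_mem_E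
  have hnN : ∀ g ∈ h.H, g ∈ Subgroup.normalizer (N : Set G) := fun g hg =>
    h.frat_normalizer (h.H_le_normalizer hg) hg
  have hH : ∀ g ∈ ({x, h.y, h.aa} : Set G), g ∈ h.H := by
    rintro g (rfl | rfl | rfl)
    exacts [h.x_mem_H, h.y_mem_H, h.a_mem_H]
  obtain ⟨hcube, j, hj⟩ := h.cube le_rfl hNE (fun g hg => hnN g (h.E_le_H hg)) (h.z_mem_frat _)
    (fun s hs => h.sq_mem_frat h.E_two hs) h.E_normalised (fun g hg => hnN g (hH g hg))
  have hmul : Nat.card ↥(N ⊓ U) * N.relIndex U = Nat.card ↥U := by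
    have := Subgroup.card_mul_index (N.subgroupOf U)
    rwa [← Subgroup.inf_subgroupOf_right, Nat.card_congr (Subgroup.subgroupOfEquivOfLe inf_le_right).toEquiv,
      Subgroup.inf_subgroupOf_right] at this
  have hzU : h.z ∈ N ⊓ U := ⟨h.z_mem_frat _, h.z_mem_E, mem_cent.mpr (h.z_cen h.yx).symm⟩
  have h2 : 2 ≤ Nat.card ↥(N ⊓ U) :=
    h.card_zpowers_z ▸ Subgroup.card_le_of_le (Subgroup.zpowers_le.mpr hzU)
  have h32 : Nat.card ↥U ≤ 32 := Nat.le_of_dvd (by norm_num) h.card_U_dvd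
  change N.relIndex h.E = N.relIndex U ^ 3 at hcube
  change N.relIndex U = 4 ^ j at hj
  rw [hj] at hcube hmul
  have hj2 : j = 2 := by
    have h4 : 4 ^ j ≤ 16 := by nlinarith
    have hjle : j ≤ 2 := (Nat.pow_le_pow_iff_right (by norm_num : 1 < 4)).mp (show 4 ^ j ≤ 4 ^ 2 by omega)
    by_contra hne
    obtain ⟨v, hvx, hv, e, he, hne'⟩ := h.exists_eleven
    have hvH := h.C_le_H hvx
    have hsmall : N.relIndex h.E < 2 ^ 10 := by
      rw [hcube]
      interval_cases j <;> first | omega | norm_num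
    have htop : (h.E ⊓ Subgroup.centralizer ({v} : Set G)).subgroupOf h.E ⊔ frattini ↥h.E = ⊤ := by
      refine Subgroup.map_injective h.E.subtype_injective ?_
      rw [Subgroup.map_sup, ← MonoidHom.range_eq_map, Subgroup.range_subtype, Subgroup.subgroupOf_map_subtype,
        inf_eq_left.mpr (inf_le_left : h.E ⊓ _ ≤ h.E)]
      refine le_antisymm (sup_le inf_le_left (Subgroup.map_subtype_le _)) fun s hs => ?_
      obtain ⟨c, hc, hcv, hcN⟩ := h.eleven_small hv le_rfl hNE (fun g hg => hnN g (h.E_le_H hg))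
        (h.H_le_normalizer hvH) (hnN v hvH) hsmall hs
      rw [show s = c * (c⁻¹ * s) by group]
      refine mul_mem (le_sup_left (b := (frattini ↥h.E).map h.E.subtype) ⟨hc, mem_cent.mpr hcv⟩) ?_
      have hle : N ≤ (h.E ⊓ Subgroup.centralizer ({v} : Set G)) ⊔ (frattini ↥h.E).map h.E.subtype :=
        sup_le le_sup_right (Subgroup.zpowers_le.mpr
          (le_sup_left (b := (frattini ↥h.E).map h.E.subtype) ⟨h.z_mem_E, mem_cent.mpr (h.z_cen hvx).symm⟩))
      exact hle hcN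
    have := frattini_nongenerating htop
    exact hne' (mem_cent.mp ((Subgroup.subgroupOf_eq_top.mp this) he).2).symm
  subst hj2
  have hU : Nat.card ↥U = 32 := by
    have : Nat.card ↥U ≥ 32 := by nlinarith
    omega
  have hNU : Nat.card ↥(N ⊓ U) = 2 := by
    rw [hU] at hmul
    omega
  have hN : N = Subgroup.zpowers h.z := by
    refine h.inv_eq_z hNE (h.z_mem_frat _) (fun g hg => hnN g (hH g hg)) ?_
    intro u hu
    have heq : Subgroup.zpowers h.z = N ⊓ U := Subgroup.eq_of_le_of_card_ge (Subgroup.zpowers_le.mpr hzU)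
      (by rw [hNU, h.card_zpowers_z])
    rw [heq]
    exact ⟨hu.1, hNE hu.1, hu.2⟩
  refine ⟨hN, hU, ?_⟩
  have := Subgroup.card_mul_index (N.subgroupOf h.E)
  rw [Nat.card_congr (Subgroup.subgroupOfEquivOfLe hNE).toEquiv, hN, h.card_zpowers_z] at this
  rw [hN] at hcube
  rw [← this, ← Subgroup.relIndex, hcube]
  norm_num

theorem card_E : Nat.card ↥h.E = 2 ^ 13 := h.E_structure.2.2

theorem card_U : Nat.card ↥(h.E ⊓ Subgroup.centralizer ({h.y} : Set G)) = 32 := h.E_structure.2.1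

theorem E_sq {e : G} (he : e ∈ h.E) : e * e = 1 ∨ e * e = h.z :=
  h.zpowers_z (h.E_structure.1 ▸ h.sq_mem_frat h.E_two he)

theorem E_sq_mem {e : G} (he : e ∈ h.E) : e * e ∈ Subgroup.zpowers h.z :=
  h.E_structure.1 ▸ h.sq_mem_frat h.E_two he

theorem E_comm {d e : G} (hd : d ∈ h.E) (he : e ∈ h.E) : d * e * d⁻¹ * e⁻¹ ∈ Subgroup.zpowers h.z := by
  have hc : ∀ {u : G}, u ∈ Subgroup.zpowers h.z → ∀ v ∈ h.E, u * v = v * u := fun hu v hv => by
    rcases h.zpowers_z hu with e' | e' <;> rw [e']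
    · rw [one_mul, mul_one]
    · exact (h.mem_H.mp (h.E_le_H hv)).symm
  have h1 := h.E_sq_mem (mul_mem hd he)
  have h2 := h.E_sq_mem (inv_mem hd)
  have h3 := h.E_sq_mem (inv_mem he)
  have : d * e * d⁻¹ * e⁻¹ = (d * e * (d * e)) * (e⁻¹ * (d⁻¹ * d⁻¹) * e) * (e⁻¹ * e⁻¹) := by group
  rw [this, mul_assoc e⁻¹ _ e, hc h2 e he, inv_mul_cancel_left]
  exact mul_mem (mul_mem h1 h2) h3

/-- `E` is extraspecial. -/
theorem extraspecial : IsExtraspecial 2 ↥h.E := by
  classical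
  have : Fact (Nat.Prime 2) := ⟨Nat.prime_two⟩
  set U := h.E ⊓ Subgroup.centralizer ({h.y} : Set G)
  set Z := Subgroup.zpowers h.z
  have hH : ∀ g ∈ ({x, h.y, h.aa} : Set G), g ∈ h.H := by
    rintro g (rfl | rfl | rfl)
    exacts [h.x_mem_H, h.y_mem_H, h.a_mem_H]
  -- invariant subgroups containing z
  have key : ∀ S : Subgroup G, S ≤ h.E → h.z ∈ S → (∀ g ∈ h.H, ∀ s ∈ S, g * s * g⁻¹ ∈ S) →
      ∃ j, Nat.card ↥(S ⊓ U) = 2 * 4 ^ j ∧ Nat.card ↥S = 2 * (4 ^ j) ^ 3 := by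
    intro S hS hz hconj
    have hn : ∀ g ∈ h.H, g ∈ Subgroup.normalizer (S : Set G) := fun g hg =>
      Subgroup.mem_normalizer_iff.mpr fun v => ⟨hconj g hg v, fun hv => by
        have := hconj g⁻¹ (inv_mem hg) _ hv
        rwa [show g⁻¹ * (g * v * g⁻¹) * g⁻¹⁻¹ = v by group] at this⟩
    obtain ⟨hc, j, hj⟩ := h.cube hS (Subgroup.zpowers_le.mpr hz)
      (fun s hs => h.normalizer_z (h.E_le_H (hS hs))) (Subgroup.mem_zpowers _)
      (fun s hs => h.E_sq_mem (hS hs)) (fun g hg => hn g (hH g hg)) (fun g hg => h.normalizer_z (hH g hg))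
    have e : S ⊓ U = S ⊓ Subgroup.centralizer ({h.y} : Set G) := by
      rw [← inf_assoc, inf_eq_left.mpr hS]
    have hcard : ∀ K : Subgroup G, h.z ∈ K → Nat.card ↥K = 2 * Z.relIndex K := fun K hK => by
      have := Subgroup.card_mul_index (Z.subgroupOf K)
      rw [Nat.card_congr (Subgroup.subgroupOfEquivOfLe (Subgroup.zpowers_le.mpr hK)).toEquiv,
        h.card_zpowers_z] at this
      exact this.symm
    refine ⟨j, ?_, ?_⟩
    · rw [e, hcard _ (Subgroup.mem_inf.mpr ⟨hz, mem_cent.mpr (h.z_cen h.yx).symm⟩), hj]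
    · rw [hcard S hz, hc, hj]
  have hne : ∃ a ∈ h.E, ∃ b ∈ h.E, a * b ≠ b * a := by
    by_contra hall
    push Not at hall
    let W : Subgroup G :=
      { carrier := {e | e ∈ h.E ∧ e * e = 1}
        one_mem' := ⟨one_mem _, one_mul 1⟩
        mul_mem' := fun {a b} ha hb => ⟨mul_mem ha.1 hb.1, by
          rw [mul_assoc, ← mul_assoc b a b, ← hall a ha.1 b hb.1, mul_assoc a b b, hb.2, mul_one, ha.2]⟩
        inv_mem' := fun {a} ha => ⟨inv_mem ha.1, by rw [← mul_inv_rev, ha.2, inv_one]⟩ }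
    obtain ⟨j, hj1, -⟩ := key W (fun e he => he.1) ⟨h.z_mem_E, h.zz⟩ (fun g hg e he =>
      ⟨h.E_conj hg he.1, by
        rw [show g * e * g⁻¹ * (g * e * g⁻¹) = g * (e * e) * g⁻¹ by group, he.2]; group⟩)
    -- squaring maps U into ⟨z⟩ with kernel W ⊓ U
    let sqh : ↥U →* ↥Z :=
      { toFun := fun u => ⟨(u : G) * u, h.E_sq_mem u.2.1⟩
        map_one' := Subtype.ext (by simp)
        map_mul' := fun u v => Subtype.ext (by
          show (u : G) * v * (u * v) = u * u * (v * v)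
          rw [mul_assoc, ← mul_assoc (v : G) u v, ← hall u u.2.1 v v.2.1]
          simp only [mul_assoc]) }
    have hker : sqh.ker = (W ⊓ U).subgroupOf U := by
      ext u
      rw [MonoidHom.mem_ker, Subgroup.mem_subgroupOf]
      exact ⟨fun e => ⟨⟨u.2.1, congrArg Subtype.val e⟩, u.2⟩, fun e => Subtype.ext e.1.2⟩
    have hU := Subgroup.card_mul_index sqh.ker
    have hcard : Nat.card ↥sqh.ker = 2 * 4 ^ j := by
      rw [hker, Nat.card_congr (Subgroup.subgroupOfEquivOfLe inf_le_right).toEquiv, hj1]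
    rw [hcard, h.card_U, Subgroup.index_ker] at hU
    have hr : Nat.card ↥sqh.range ≤ 2 := h.card_zpowers_z ▸ Subgroup.card_le_card_group _
    have hj3 : j ≤ 3 := by
      by_contra hlt
      push Not at hlt
      have : 4 ^ 4 ≤ 4 ^ j := Nat.pow_le_pow_right (by norm_num) hlt
      nlinarith [Nat.card_pos (α := ↥sqh.range)]
    have hj : j = 2 := by
      interval_cases j <;> omega
    subst hj
    have heq : W ⊓ U = U := Subgroup.eq_of_le_of_card_ge inf_le_right (by rw [hj1, h.card_U]; norm_num)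
    obtain ⟨ψ, hψ, -⟩ := h.exists_psi
    have hel : IsElementaryAbelian 2 ψ.range := by
      refine ⟨⟨⟨?_⟩⟩, ?_⟩
      · rintro ⟨_, a, rfl⟩ ⟨_, b, rfl⟩
        refine Subtype.ext ?_
        show ψ a * ψ b = ψ b * ψ a
        rw [← map_mul, ← map_mul]
        exact congrArg ψ (Subtype.ext (hall a a.2.1 b b.2.1))
      · rintro _ ⟨a, rfl⟩
        rw [← map_pow, ← map_one ψ]
        refine congrArg ψ (Subtype.ext ?_)
        rw [Subgroup.coe_pow, sq]
        exact ((heq.ge a.2 : (a : G) ∈ W ⊓ U)).1.2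
    have := syl_data.1 _ hel
    rw [← Nat.card_congr (MonoidHom.ofInjective hψ).toEquiv, h.card_U] at this
    omega
  obtain ⟨a, ha, b, hb, hab⟩ := hne
  set Zs := h.E ⊓ Subgroup.centralizer (h.E : Set G) with hZs
  have hzZs : h.z ∈ Zs := ⟨h.z_mem_E, fun e he => h.mem_H.mp (h.E_le_H he)⟩
  have hZconj : ∀ g ∈ h.H, ∀ s ∈ Zs, g * s * g⁻¹ ∈ Zs := fun g hg s hs => ⟨h.E_conj hg hs.1, fun e he => by
    have he' : g⁻¹ * e * g ∈ h.E := by
      have := h.E_conj (inv_mem hg) he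
      rwa [inv_inv] at this
    have := comm_conj g (hs.2 _ he')
    rwa [show g * (g⁻¹ * e * g) * g⁻¹ = e by group] at this⟩
  obtain ⟨j, hjU, hjZ⟩ := key Zs inf_le_left hzZs hZconj
  have hj : j = 0 := by
    have hle : 2 * 4 ^ j ≤ 32 := hjU ▸ h.card_U ▸ Subgroup.card_le_of_le inf_le_right
    have hj2 : j ≤ 2 := (Nat.pow_le_pow_iff_right (by norm_num : 1 < 4)).mp (show 4 ^ j ≤ 4 ^ 2 by omega)
    interval_cases j
    · rfl
    · exfalso
      obtain ⟨v, hvx, hv, e, he, hne'⟩ := h.exists_eleven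
      have hvH := h.C_le_H hvx
      have hn : ∀ g ∈ h.H, g ∈ Subgroup.normalizer (Zs : Set G) := fun g hg =>
        Subgroup.mem_normalizer_iff.mpr fun u => ⟨hZconj g hg u, fun hu => by
          have := hZconj g⁻¹ (inv_mem hg) _ hu
          rwa [show g⁻¹ * (g * u * g⁻¹) * g⁻¹⁻¹ = u by group] at this⟩
      have hZ64 : Z.relIndex Zs = 64 := by
        have := Subgroup.card_mul_index (Z.subgroupOf Zs)
        rw [Nat.card_congr (Subgroup.subgroupOfEquivOfLe (Subgroup.zpowers_le.mpr hzZs)).toEquiv,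
          h.card_zpowers_z, hjZ, ← Subgroup.relIndex] at this
        omega
      have hcomm1 : ∀ s ∈ Zs, s * v = v * s := by
        intro s hs
        obtain ⟨c, -, hcv, hcN⟩ := h.eleven_small hv inf_le_left (Subgroup.zpowers_le.mpr hzZs)
          (fun u hu => h.normalizer_z (h.E_le_H hu.1)) (hn v hvH) (h.normalizer_z hvH) (by rw [hZ64]; norm_num) hs
        rw [show s = c * (c⁻¹ * s) by group]
        rcases h.zpowers_z hcN with e' | e' <;> rw [e']
        · rw [mul_one]; exact hcv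
        · exact ((show Commute c v from hcv).mul_left (show Commute h.z v from (h.z_cen hvx).symm)).eq
      have hE64 : Zs.relIndex h.E < 2 ^ 10 := by
        have := Subgroup.card_mul_index (Zs.subgroupOf h.E)
        rw [Nat.card_congr (Subgroup.subgroupOfEquivOfLe (inf_le_left : Zs ≤ h.E)).toEquiv, h.card_E, hjZ,
          ← Subgroup.relIndex] at this
        omega
      refine hne' ?_
      obtain ⟨c, -, hcv, hcN⟩ := h.eleven_small hv le_rfl inf_le_left (fun u hu => hn u (h.E_le_H hu))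
        (h.H_le_normalizer hvH) (hn v hvH) hE64 he
      rw [show e = c * (c⁻¹ * e) by group]
      exact ((show Commute c v from hcv).mul_left (show Commute (c⁻¹ * e) v from hcomm1 _ hcN)).eq.symm
    · exfalso
      have heq : Zs = h.E := Subgroup.eq_of_le_of_card_ge inf_le_left (by rw [hjZ, h.card_E]; norm_num)
      exact hab ((heq.ge ha).2 b hb).symm
  subst hj
  have hZeq : Zs = Z := (Subgroup.eq_of_le_of_card_ge (Subgroup.zpowers_le.mpr hzZs)
    (by rw [hjZ, h.card_zpowers_z]; norm_num)).symm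
  refine CfsgLargeExtra.isExtraspecial_of_ext2 (z := ⟨h.z, h.z_mem_E⟩) ⟨?_, ?_, ?_⟩ (a := ⟨a, ha⟩) (b := ⟨b, hb⟩)
    (fun e => hab (congrArg Subtype.val e))
  · exact fun e => h.z_ne (congrArg Subtype.val e)
  · intro g
    constructor
    · intro hg
      have : (g : G) ∈ Zs := ⟨g.2, fun e he => congrArg Subtype.val (Subgroup.mem_center_iff.mp hg ⟨e, he⟩)⟩
      rcases h.zpowers_z (hZeq ▸ this) with e | e
      exacts [Or.inl (Subtype.ext e), Or.inr (Subtype.ext e)]
    · rintro (rfl | rfl)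
      · exact one_mem _
      · exact Subgroup.mem_center_iff.mpr fun e => Subtype.ext (h.mem_H.mp (h.E_le_H e.2))
  · intro g
    rcases h.E_sq g.2 with e | e
    exacts [Or.inl (Subtype.ext e), Or.inr (Subtype.ext e)]

end Hyp

end CfsgLib.JankoSix
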