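/-
Conjugates of `x` modulo the 2-core, and the centraliser of `y` there.
-/
import Cfsg.Agent.Lib.JankoSix.TwoCore

set_option autoImplicit false
set_option linter.unusedSectionVars false

namespace CfsgLib.JankoSix

open Cfsg CfsgLib.JankoFour
open scoped Pointwise

local notation "M" => MTwoTwo

variable {G : Type*} [Group G] [Finite G] {x : G} (h : Hyp x)

/-- Congruence modulo `E`. -/
def Hyp.Eq (g g' : G) : Prop := g⁻¹ * g' ∈ h.E

/-- The conjugate of `zy` belonging to `xy`. -/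
noncomputable def Hyp.zxy : G := h.aa * h.zy * h.aa⁻¹

/-- In a group of order dividing twelve, a subgroup of order three centralised by an involution is normal. -/
theorem twelve {Q : Type*} [Group Q] [Finite Q] (hQ : Nat.card Q ∣ 12) {a j : Q}
    (ha : a ^ 3 = 1) (ha1 : a ≠ 1) (hj : j * j = 1) (hj1 : j ≠ 1) (hc : a * j = j * a) (g : Q) :
    g * a * g⁻¹ ∈ Subgroup.zpowers a := by
  classical
  have : Fact (Nat.Prime 3) := ⟨by norm_num⟩
  have ho : orderOf a = 3 := orderOf_eq_prime ha ha1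
  have hoj : orderOf j = 2 := orderOf_eq_prime (by rw [sq, hj]) hj1
  have h6 : orderOf (a * j) = 6 := by
    rw [(show Commute a j from hc).orderOf_mul_eq_mul_orderOf_of_coprime (by rw [ho, hoj]; norm_num), ho, hoj]
  have hN : a * j ∈ Subgroup.normalizer ((Subgroup.zpowers a : Subgroup Q) : Set Q) := by
    refine mul_mem (Subgroup.le_normalizer (Subgroup.mem_zpowers a)) ?_
    refine Subgroup.mem_normalizer_iff.mpr fun v => ⟨fun hv => ?_, fun hv => ?_⟩
    · obtain ⟨n, rfl⟩ := Subgroup.mem_zpowers_iff.mp hv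
      rw [← ((show Commute a j from hc).zpow_left n).eq, mul_inv_cancel_right]
      exact zpow_mem (Subgroup.mem_zpowers a) n
    · obtain ⟨n, hn⟩ := Subgroup.mem_zpowers_iff.mp hv
      have : v = a ^ n := by
        calc v = j⁻¹ * (j * v * j⁻¹) * j := by group
          _ = a ^ n := by rw [← hn, mul_assoc, ((show Commute a j from hc).zpow_left n).eq, inv_mul_cancel_left]
      rw [this]; exact zpow_mem (Subgroup.mem_zpowers a) n
  have h9 : ¬ 9 ∣ Nat.card Q := fun h9 => absurd (h9.trans hQ) (by norm_num)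
  have hfac : (Nat.card Q).factorization 3 = 1 := by
    have hpos : 0 < Nat.card Q := Nat.card_pos
    have h3 : 3 ∣ Nat.card Q := ho ▸ orderOf_dvd_natCard a
    have h1 := (Nat.prime_three.pow_dvd_iff_le_factorization hpos.ne').not.mp (show ¬ 3 ^ 2 ∣ Nat.card Q from h9)
    have h2 := (Nat.prime_three.pow_dvd_iff_le_factorization hpos.ne').mp (show 3 ^ 1 ∣ Nat.card Q by simpa using h3)
    omega
  let P : Sylow 3 Q := Sylow.ofCard (Subgroup.zpowers a) (by rw [Nat.card_zpowers, ho, hfac]; norm_num)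
  have hn := card_sylow_modEq_one 3 Q
  have hidx : Nat.card (Sylow 3 Q) = (Subgroup.normalizer ((Subgroup.zpowers a : Subgroup Q) : Set Q)).index :=
    P.card_eq_index_normalizer
  have h6N : 6 ∣ Nat.card ↥(Subgroup.normalizer ((Subgroup.zpowers a : Subgroup Q) : Set Q)) := by
    rw [← h6, ← Nat.card_zpowers]
    exact Subgroup.card_dvd_of_le (Subgroup.zpowers_le.mpr hN)
  have hle : (Subgroup.normalizer ((Subgroup.zpowers a : Subgroup Q) : Set Q)).index ≤ 2 := by
    have hmul := Subgroup.card_mul_index (Subgroup.normalizer ((Subgroup.zpowers a : Subgroup Q) : Set Q))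
    have := Nat.le_of_dvd (by norm_num) hQ
    have := Nat.le_of_dvd Nat.card_pos h6N
    nlinarith
  have h1 : Nat.card (Sylow 3 Q) = 1 := by
    rw [Nat.ModEq] at hn
    have : 0 < Nat.card (Sylow 3 Q) := Nat.card_pos
    omega
  rw [hidx, Subgroup.index_eq_one] at h1
  exact (Subgroup.mem_normalizer_iff.mp (h1 ▸ Subgroup.mem_top g :
    g ∈ Subgroup.normalizer ((Subgroup.zpowers a : Subgroup Q) : Set Q)) a).mp (Subgroup.mem_zpowers a)

namespace Hyp

include h

theorem Eq.refl' (g : G) : h.Eq g g := by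
  show g⁻¹ * g ∈ h.E
  rw [inv_mul_cancel]; exact one_mem _

theorem Eq.symm' {g g' : G} (e : h.Eq g g') : h.Eq g' g := by
  have := h.E.inv_mem e
  rwa [mul_inv_rev, inv_inv] at this

theorem Eq.trans' {g g' g'' : G} (e : h.Eq g g') (e' : h.Eq g' g'') : h.Eq g g'' := by
  have := h.E.mul_mem e e'
  rwa [show g⁻¹ * g' * (g'⁻¹ * g'') = g⁻¹ * g'' by group] at this

theorem Eq.mul {a a' b b' : G} (hb : b ∈ h.H) (ea : h.Eq a a') (eb : h.Eq b b') : h.Eq (a * b) (a' * b') := by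
  have := mul_mem (h.E_conj (inv_mem hb) ea) eb
  show (a * b)⁻¹ * (a' * b') ∈ h.E
  rwa [show b⁻¹ * (a⁻¹ * a') * b⁻¹⁻¹ * (b⁻¹ * b') = (a * b)⁻¹ * (a' * b') by group] at this

theorem Eq.conj {g a a' : G} (hg : g ∈ h.H) (ea : h.Eq a a') : h.Eq (g * a * g⁻¹) (g * a' * g⁻¹) := by
  show (g * a * g⁻¹)⁻¹ * (g * a' * g⁻¹) ∈ h.E
  rw [show (g * a * g⁻¹)⁻¹ * (g * a' * g⁻¹) = g * (a⁻¹ * a') * g⁻¹ by group]
  exact h.E_conj hg ea

theorem Eq.of_mem {g g' : G} (e : h.Eq g g') (hg : g ∈ h.H) : g' ∈ h.H := by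
  have := mul_mem hg (h.E_le_H e)
  rwa [mul_inv_cancel_left] at this

/-- Elements of order three congruent modulo `E` are conjugate under `E`. -/
theorem conj_in_E {a b : G} (ha : a ∈ h.H) (ha3 : a ^ 3 = 1) (hb3 : b ^ 3 = 1) (hab : h.Eq a b) :
    ∃ e ∈ h.E, e * a * e⁻¹ = b := by
  classical
  have hb : b ∈ h.H := Eq.of_mem h hab ha
  have hmem : ∀ e : G, e ∈ h.E → b * e * a⁻¹ ∈ h.E := by
    intro e he
    rw [show b * e * a⁻¹ = a * ((a⁻¹ * b) * e) * a⁻¹ by group]
    exact h.E_conj ha (mul_mem hab he)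
  let α : Function.End ↥h.E := fun e => ⟨b * e * a⁻¹, hmem e e.2⟩
  have hα : α ^ 3 ^ 1 = 1 := funext fun e => Subtype.ext (by
    show b * (b * (b * (e : G) * a⁻¹) * a⁻¹) * a⁻¹ = e
    calc b * (b * (b * (e : G) * a⁻¹) * a⁻¹) * a⁻¹ = b ^ 3 * e * (a ^ 3)⁻¹ := by
          simp only [pow_succ, pow_zero, one_mul, mul_inv_rev, mul_assoc]
      _ = e := by rw [hb3, ha3]; group)
  have := Fintype.ofFinite ↥h.E
  have : Fact (Nat.Prime 3) := ⟨by norm_num⟩
  have hmod := Equiv.Perm.card_fixedPoints_modEq (p := 3) (n := 1) (f := α) hα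
  simp only [← Nat.card_eq_fintype_card] at hmod
  rcases isEmpty_or_nonempty ↥(Function.fixedPoints α) with he | ⟨⟨e, he⟩⟩
  · rw [h.card_E, Nat.card_of_isEmpty] at hmod
    exact absurd hmod (by decide)
  · refine ⟨e, e.2, ?_⟩
    have e' : b * (e : G) * a⁻¹ = e := congrArg Subtype.val he
    calc (e : G) * a * (e : G)⁻¹ = b * (e : G) * a⁻¹ * a * (e : G)⁻¹ := by rw [e']
      _ = b := by group

/-- The centraliser of `x` modulo `E` is the image of `C(x)`. -/
theorem lift_cent {g : G} (hg : g ∈ h.H) (e : h.Eq (g * x * g⁻¹) x) :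
    ∃ c : G, c * x = x * c ∧ h.Eq g c := by
  obtain ⟨u, hu, he⟩ := h.conj_in_E (mul_mem (mul_mem hg h.x_mem_H) (inv_mem hg))
    (by rw [conj_pow, h.x_pow, mul_one, mul_inv_cancel]) h.x_pow e
  refine ⟨u * g, ?_, ?_⟩
  · calc u * g * x = (u * (g * x * g⁻¹) * u⁻¹) * (u * g) := by group
      _ = x * (u * g) := by rw [he]
  · show g⁻¹ * (u * g) ∈ h.E
    have := h.E_conj (inv_mem hg) hu
    rwa [inv_inv, mul_assoc] at this

theorem Eq.cent {c c' : G} (hc : c * x = x * c) (hc' : c' * x = x * c') (e : h.Eq c c') :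
    c' = c ∨ c' = c * h.z := by
  rcases h.cent_x e ((show Commute c x from hc).inv_left.mul_left hc').eq with e1 | e1
  · exact Or.inl (inv_mul_eq_one.mp e1).symm
  · exact Or.inr (inv_mul_eq_iff_eq_mul.mp e1)

/-- An element of `C(x)` of order three modulo `E` may be replaced by one of order three. -/
theorem lift_three {s : G} (hs : s * x = x * s) (e : h.Eq (s ^ 3) 1) :
    ∃ s' : G, s' * x = x * s' ∧ s' ^ 3 = 1 ∧ h.Eq s' s := by
  have h1 : (s ^ 3) * x = x * s ^ 3 := ((show Commute s x from hs).pow_left 3).eq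
  rcases Eq.cent h h1 (by rw [one_mul, mul_one]) e with e1 | e1
  · exact ⟨s, hs, e1.symm, Eq.refl' h s⟩
  · have e3 : s ^ 3 = h.z := (eq_inv_of_mul_eq_one_left e1.symm).trans h.z_inv
    have hsz : Commute s h.z := h.z_cen hs
    refine ⟨s * h.z, ((show Commute s x from hs).mul_left h.zx).eq, ?_, ?_⟩
    · rw [hsz.mul_pow, e3, pow_succ h.z 2, pow_two, h.zz, one_mul, h.zz]
    · show (s * h.z)⁻¹ * s ∈ h.E
      rw [mul_inv_rev, mul_assoc, inv_mul_cancel, mul_one]
      exact inv_mem h.z_mem_E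

/-- No conjugate of `x` is congruent to a noncentral element of `C(x)`. -/
theorem isolated {g s : G} (hg : g ∈ h.H) (hs : s * x = x * s) (e : h.Eq (g * x * g⁻¹) s) :
    h.Eq (g * x * g⁻¹) x ∨ h.Eq (g * x * g⁻¹) x⁻¹ := by
  have h3 : h.Eq ((g * x * g⁻¹) ^ 3) (s ^ 3) := by
    have hm : g * x * g⁻¹ ∈ h.H := mul_mem (mul_mem hg h.x_mem_H) (inv_mem hg)
    rw [pow_succ, pow_two, pow_succ s, pow_two]
    exact Eq.mul h hm (Eq.mul h hm e e) e
  rw [conj_pow, h.x_pow, mul_one, mul_inv_cancel] at h3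
  obtain ⟨s', hs', hs'3, hss⟩ := h.lift_three hs (Eq.symm' h h3)
  have e' : h.Eq (g * x * g⁻¹) s' := Eq.trans' h e (Eq.symm' h hss)
  obtain ⟨u, hu, he⟩ := h.conj_in_E (mul_mem (mul_mem hg h.x_mem_H) (inv_mem hg))
    (by rw [conj_pow, h.x_pow, mul_one, mul_inv_cancel]) hs'3 e'
  have hc : (u * g) * x * (u * g)⁻¹ = s' := by rw [← he]; group
  have := h.no_conj (mul_mem (h.E_le_H hu) hg) (by rw [hc]; exact hs')
  rw [hc] at this
  rcases h.mem_P.mp this with e1 | e1 | e1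
  · exfalso
    rw [← hc, conj_eq_one_iff] at e1
    exact h.x_ne e1
  · exact Or.inl (e1 ▸ e')
  · exact Or.inr (e1 ▸ e')

theorem zxy_x : h.zxy * x = x * h.zxy := by
  have := comm_conj h.aa h.zy_x
  rwa [h.ax, mul_inv_cancel_right] at this

theorem zxy_y : h.zxy * h.y = h.y * h.zxy := by
  have h1 := comm_conj h.aa (h.zy_cen (g := h.y) rfl).symm
  rw [h.a_y] at h1
  have h2 := (show Commute h.zxy (x * h.y) from h1)
  have h3 : Commute h.zxy (x⁻¹ * (x * h.y)) := ((show Commute h.zxy x from h.zxy_x).inv_right).mul_right h2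
  rw [inv_mul_cancel_left] at h3
  exact h3.eq

theorem zxy_sq : h.zxy * h.zxy = 1 := by
  show h.aa * h.zy * h.aa⁻¹ * (h.aa * h.zy * h.aa⁻¹) = 1
  rw [show h.aa * h.zy * h.aa⁻¹ * (h.aa * h.zy * h.aa⁻¹) = h.aa * (h.zy * h.zy) * h.aa⁻¹ by group, h.zy_sq]
  group

/-- The elements `zy`, `zxy` differ modulo `⟨z⟩`. -/
theorem zxy_ne : h.zxy ≠ h.zy ∧ h.zxy ≠ h.z * h.zy ∧ h.zxy ≠ h.z ∧ h.zxy ≠ 1 := by
  have hne : h.zxy ≠ h.zy := by
    intro e
    have hk : (h.kk⁻¹ * h.aa * h.kk) * h.z = h.z * (h.kk⁻¹ * h.aa * h.kk) := by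
      have hc : h.aa * h.zy = h.zy * h.aa := mul_inv_eq_iff_eq_mul.mp e
      have := comm_conj' h.kk hc
      rwa [show h.kk⁻¹ * h.zy * h.kk = h.z by rw [Hyp.zy]; group] at this
    have hg : (h.kk⁻¹ * h.aa * h.kk) * x * (h.kk⁻¹ * h.aa * h.kk)⁻¹ = h.kk⁻¹ * (x * h.y) * h.kk := by
      rw [← h.a_y, Hyp.y]; group
    have hcx : h.kk⁻¹ * (x * h.y) * h.kk * x = x * (h.kk⁻¹ * (x * h.y) * h.kk) :=
      h.kk_conj_mem (by rw [mul_assoc, ← mul_assoc h.y x, h.yx, mul_assoc])
    have := h.no_conj (h.mem_H.mpr hk) (by rw [hg]; exact hcx)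
    rw [hg] at this
    have hy : h.kk⁻¹ * h.y * h.kk = x := by rw [Hyp.y]; group
    rcases h.mem_P.mp this with e1 | e1 | e1
    · have e2 : x * h.y = 1 := by
        calc x * h.y = h.kk * (h.kk⁻¹ * (x * h.y) * h.kk) * h.kk⁻¹ := by group
          _ = 1 := by rw [e1]; group
      refine h.y_notP ?_
      rw [eq_inv_of_mul_eq_one_right e2]
      exact inv_mem (Subgroup.mem_zpowers x)
    · have e2 : x * h.y = h.y := by
        calc x * h.y = h.kk * (h.kk⁻¹ * (x * h.y) * h.kk) * h.kk⁻¹ := by group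
          _ = h.kk * (h.kk⁻¹ * h.y * h.kk) * h.kk⁻¹ := by rw [e1, hy]
          _ = h.y := by group
      exact h.x_ne (mul_eq_right.mp e2)
    · have e2 : x * h.y = h.y⁻¹ := by
        calc x * h.y = h.kk * (h.kk⁻¹ * (x * h.y) * h.kk) * h.kk⁻¹ := by group
          _ = h.kk * (h.kk⁻¹ * h.y * h.kk)⁻¹ * h.kk⁻¹ := by rw [e1, hy]
          _ = h.y⁻¹ := by group
      refine h.y_notP ?_
      have e3 : x = h.y⁻¹ * h.y⁻¹ := by rw [← eq_mul_inv_iff_mul_eq.mpr e2]
      have e4 : h.y⁻¹ * h.y⁻¹ = h.y := by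
        have h3 := h.y_pow
        rw [pow_succ, pow_two] at h3
        rw [← mul_inv_rev, inv_eq_of_mul_eq_one_right h3]
      rw [e4] at e3
      rw [← e3]
      exact Subgroup.mem_zpowers x
  refine ⟨hne, ?_, ?_, ?_⟩
  · intro e
    have e0 : h.aa * h.zy * h.aa⁻¹ = h.z * h.zy := e
    have hz : h.aa * h.z = h.z * h.aa := h.z_cen h.ax
    have e2 : (h.aa * h.aa) * h.zy * (h.aa * h.aa)⁻¹ = h.zy := by
      calc (h.aa * h.aa) * h.zy * (h.aa * h.aa)⁻¹ = h.aa * (h.aa * h.zy * h.aa⁻¹) * h.aa⁻¹ := by group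
        _ = h.aa * (h.z * h.zy) * h.aa⁻¹ := by rw [e0]
        _ = (h.aa * h.z * h.aa⁻¹) * (h.aa * h.zy * h.aa⁻¹) := by group
        _ = h.zy := by rw [hz, mul_inv_cancel_right, e0, ← mul_assoc, h.zz, one_mul]
    have hc2 : Commute (h.aa ^ 2) h.zy := by rw [pow_two]; exact mul_inv_eq_iff_eq_mul.mp e2
    obtain ⟨n, hn⟩ := h.a_odd
    have hc : Commute h.aa h.zy := by
      have h1 := hc2.pow_left (n + 1)
      rwa [← pow_mul, show 2 * (n + 1) = orderOf h.aa + 1 by omega, pow_succ, pow_orderOf_eq_one, one_mul] at h1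
    exact hne (by rw [Hyp.zxy, hc.eq, mul_inv_cancel_right])
  · intro e
    refine h.zy_ne_z ?_
    calc h.zy = h.aa⁻¹ * (h.aa * h.zy * h.aa⁻¹) * h.aa := by group
      _ = h.aa⁻¹ * (h.aa * h.z) := by rw [show h.aa * h.zy * h.aa⁻¹ = h.z from e, h.z_cen h.ax, mul_assoc]
      _ = h.z := inv_mul_cancel_left _ _
  · intro e
    exact h.zy_ne_one (conj_eq_one_iff.mp e)

/-- The centraliser of `y` modulo `E` normalises `⟨x⟩`. -/
theorem y_local {g : G} (hg : g ∈ h.H) (e : h.Eq (g * h.y * g⁻¹) h.y) :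
    h.Eq (g * x * g⁻¹) x ∨ h.Eq (g * x * g⁻¹) x⁻¹ := by
  classical
  obtain ⟨u, hu, he⟩ := h.conj_in_E (mul_mem (mul_mem hg h.y_mem_H) (inv_mem hg))
    (by rw [conj_pow, h.y_pow, mul_one, mul_inv_cancel]) h.y_pow e
  suffices hmain : ∀ g : G, g ∈ h.H → g * h.y = h.y * g →
      ∃ s, s * x = x * s ∧ h.Eq (g * x * g⁻¹) s by
    have hug : u * g ∈ h.H := mul_mem (h.E_le_H hu) hg
    obtain ⟨s, hs, es⟩ := hmain (u * g) hug (by
      calc u * g * h.y = (u * (g * h.y * g⁻¹) * u⁻¹) * (u * g) := by group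
        _ = _ := by rw [he])
    have e1 : h.Eq (g * x * g⁻¹) (u * g * x * (u * g)⁻¹) := by
      have hm : g * x * g⁻¹ ∈ h.H := mul_mem (mul_mem hg h.x_mem_H) (inv_mem hg)
      show (g * x * g⁻¹)⁻¹ * (u * g * x * (u * g)⁻¹) ∈ h.E
      rw [show (g * x * g⁻¹)⁻¹ * (u * g * x * (u * g)⁻¹) = ((g * x * g⁻¹)⁻¹ * u * (g * x * g⁻¹)⁻¹⁻¹) * u⁻¹ by group]
      exact mul_mem (h.E_conj (inv_mem hm) hu) (inv_mem hu)
    exact h.isolated hg hs (Eq.trans' h e1 es)
  intro g hg hgy
  set K := h.H ⊓ Subgroup.centralizer ({h.y} : Set G) with hK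
  let φ : ↥K →* M :=
    { toFun := fun v => h.π ⟨h.kk⁻¹ * (v : G) * h.kk, mem_cent.mpr (h.kk_conj_mem (mem_cent.mp v.2.2))⟩
      map_one' := by
        rw [← map_one h.π]
        exact congrArg _ (Subtype.ext (by simp))
      map_mul' := fun u v => by
        rw [← map_mul]
        exact congrArg _ (Subtype.ext (by simp [mul_assoc])) }
  have hker : ∀ v : ↥K, φ v = 1 → ∃ s ∈ Subgroup.zpowers h.y, (v : G) = s ∨ (v : G) = s * h.zy := by
    intro v hv
    obtain ⟨s, hs, e1⟩ := h.ker_cases hv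
    obtain ⟨n, rfl⟩ := Subgroup.mem_zpowers_iff.mp hs
    refine ⟨h.y ^ n, zpow_mem (Subgroup.mem_zpowers _) n, ?_⟩
    have hv' : (v : G) = h.kk * (h.kk⁻¹ * v * h.kk) * h.kk⁻¹ := by group
    rcases e1 with e1 | e1
    · left
      rw [hv', show h.kk⁻¹ * (v : G) * h.kk = x ^ n from e1, Hyp.y, conj_zpow]
    · right
      rw [hv', show h.kk⁻¹ * (v : G) * h.kk = x ^ n * h.z from e1, Hyp.y, Hyp.zy, conj_zpow]
      group
  have hKH : ∀ v : ↥K, (v : G) ∈ h.H := fun v => v.2.1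
  let U : Subgroup ↥K := h.E.subgroupOf K
  have hUcard : Nat.card ↥U = 32 := by
    rw [show U = (h.E ⊓ K).subgroupOf K from (Subgroup.inf_subgroupOf_right _ _).symm,
      Nat.card_congr (Subgroup.subgroupOfEquivOfLe inf_le_right).toEquiv]
    rw [hK, ← inf_assoc, inf_eq_left.mpr h.E_le_H]
    exact h.card_U
  have hUn : U.Normal := ⟨fun n hn v => h.E_conj (hKH v) hn⟩
  have hUinj : ∀ v : ↥K, v ∈ U → φ v = 1 → v = 1 := by
    intro v hv hv1
    obtain ⟨ψ, hψ, hψe⟩ := h.exists_psi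
    have : ψ ⟨v, hv, v.2.2⟩ = 1 := by rw [hψe]; exact hv1
    exact Subtype.ext (congrArg (fun u : ↥(h.E ⊓ Subgroup.centralizer ({h.y} : Set G)) => (u : G))
      (hψ (this.trans (map_one ψ).symm)))
  set zK : ↥K := ⟨h.z, h.z_mem_H, mem_cent.mpr (h.z_cen h.yx).symm⟩
  set xK : ↥K := ⟨x, h.x_mem_H, mem_cent.mpr h.yx.symm⟩
  set jK : ↥K := ⟨h.zxy, h.C_le_H h.zxy_x, mem_cent.mpr h.zxy_y⟩
  set L := φ.range
  have hLU : (U.map φ).subgroupOf L = U.map φ.rangeRestrict := by
    ext v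
    rw [Subgroup.mem_subgroupOf]
    constructor
    · rintro ⟨u, hu, e1⟩; exact ⟨u, hu, Subtype.ext e1⟩
    · rintro ⟨u, hu, rfl⟩; exact ⟨u, hu, rfl⟩
  set N := U.map φ.rangeRestrict with hN
  have hNn : N.Normal := hUn.map _ φ.rangeRestrict_surjective
  have hNcard : Nat.card ↥N = 32 := by
    have hinj : Function.Injective (φ.rangeRestrict.comp U.subtype) := (injective_iff_map_eq_one _).mpr fun v hv =>
      Subtype.ext (hUinj v.1 v.2 (congrArg Subtype.val hv))
    rw [← hUcard, hN, ← Subgroup.range_subtype U, ← MonoidHom.range_comp,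
      ← Nat.card_congr (MonoidHom.ofInjective (f := φ.rangeRestrict.comp U.subtype) hinj).toEquiv,
      Subgroup.range_subtype]
  have hL : Nat.card ↥L ∣ 384 := by
    have hb1 : φ zK ≠ 1 := fun e1 => h.z_ne (congrArg Subtype.val (hUinj zK h.z_mem_E e1))
    refine (Subgroup.card_dvd_of_le ?_).trans (cent_invol (b := φ zK)
      (by rw [← map_mul, show zK * zK = 1 from Subtype.ext h.zz, map_one]) hb1)
    rintro _ ⟨v, rfl⟩
    rw [mem_cent, ← map_mul, ← map_mul]
    exact congrArg φ (Subtype.ext (h.mem_H.mp (hKH v)))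
  have hQ : Nat.card (↥L ⧸ N) ∣ 12 := by
    have := Subgroup.card_eq_card_quotient_mul_card_subgroup N
    rw [hNcard] at this
    exact Nat.dvd_of_mul_dvd_mul_right (show 0 < 32 by norm_num) (this ▸ hL)
  set Φ : ↥K →* ↥L ⧸ N := (QuotientGroup.mk' N).comp φ.rangeRestrict
  have hΦ : ∀ v : ↥K, Φ v = 1 → ∃ u ∈ h.E, ∃ s ∈ Subgroup.zpowers h.y, u * h.y = h.y * u ∧
      ((v : G) = u * s ∨ (v : G) = u * (s * h.zy)) := by
    intro v hv
    obtain ⟨u, hu, e1⟩ := (QuotientGroup.eq_one_iff _).mp hv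
    obtain ⟨s, hs, e2⟩ := hker (u⁻¹ * v) (by
      have e1' : φ u = φ v := congrArg Subtype.val e1
      rw [map_mul, map_inv, e1', inv_mul_cancel])
    refine ⟨u, hu, s, hs, mem_cent.mp u.2.2, ?_⟩
    simp only [Subgroup.coe_mul, Subgroup.coe_inv] at e2
    rcases e2 with e2 | e2
    · exact Or.inl (inv_mul_eq_iff_eq_mul.mp e2)
    · exact Or.inr (inv_mul_eq_iff_eq_mul.mp e2)
  have hmix : ∀ (u s : G), u ∈ h.E → s ∈ Subgroup.zpowers h.y → ∀ w, w * x = x * w →
      (w = u * s ∨ w = u * (s * h.zy)) → u = 1 ∨ u = h.z := by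
    intro u s hu hs w hw hcase
    refine h.cent_x hu ?_
    obtain ⟨n, rfl⟩ := Subgroup.mem_zpowers_iff.mp hs
    have hsx : Commute (h.y ^ n) x := (show Commute h.y x from h.yx).zpow_left n
    rcases hcase with e1 | e1
    · have := (show Commute w x from hw).mul_left hsx.inv_left
      rwa [e1, mul_inv_cancel_right] at this
    · have := (show Commute w x from hw).mul_left (hsx.mul_left (show Commute h.zy x from h.zy_x)).inv_left
      rwa [e1, mul_inv_cancel_right] at this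
  have hj1 : Φ jK ≠ 1 := by
    intro e1
    obtain ⟨u, hu, s, hs, -, hcase⟩ := hΦ jK e1
    have hu' := hmix u s hu hs h.zxy h.zxy_x hcase
    -- the `s`-part is trivial
    have hscom : Commute s h.zy := by
      obtain ⟨n, rfl⟩ := Subgroup.mem_zpowers_iff.mp hs
      exact ((show Commute h.y h.zy from h.zy_cen (g := h.y) rfl)).zpow_left n
    have hsz : Commute s h.z := by
      obtain ⟨n, rfl⟩ := Subgroup.mem_zpowers_iff.mp hs
      exact ((show Commute h.y h.z from h.z_cen h.yx)).zpow_left n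
    have huu : u * u = 1 ∧ Commute u s ∧ Commute u h.zy := by
      rcases hu' with rfl | rfl
      · exact ⟨one_mul 1, Commute.one_left _, Commute.one_left _⟩
      · exact ⟨h.zz, hsz.symm, (show Commute h.zy h.z from h.z_cen h.zy_x).symm⟩
    have hs2 : s * s = 1 := by
      have hsq := h.zxy_sq
      rcases hcase with e2 | e2 <;> rw [show h.zxy = _ from e2] at hsq
      · calc s * s = (u * u) * (s * s) := by rw [huu.1, one_mul]
          _ = u * s * (u * s) := by
            rw [mul_assoc u s, ← mul_assoc s u, ← huu.2.1.eq]; group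
          _ = 1 := hsq
      · calc s * s = (u * u) * (s * s) * (h.zy * h.zy) := by rw [huu.1, h.zy_sq, one_mul, mul_one]
          _ = u * (s * h.zy) * (u * (s * h.zy)) := by
            have c1 : Commute (s * h.zy) u := huu.2.1.symm.mul_left huu.2.2.symm
            rw [mul_assoc u (s * h.zy), ← mul_assoc (s * h.zy) u, c1.eq, mul_assoc u (s * h.zy),
              show s * h.zy * (s * h.zy) = s * s * (h.zy * h.zy) by
                rw [mul_assoc s h.zy, ← mul_assoc h.zy s, ← hscom.eq]; group]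
            group
          _ = 1 := hsq
    have hs1 : s = 1 := by
      obtain ⟨n, rfl⟩ := Subgroup.mem_zpowers_iff.mp hs
      have h3 : (h.y ^ n) ^ 3 = 1 := by
        rw [← zpow_natCast, ← zpow_mul, mul_comm, zpow_mul, zpow_natCast, h.y_pow, one_zpow]
      rwa [pow_succ, pow_two, hs2, one_mul] at h3
    subst hs1
    obtain ⟨n1, n2, n3, n4⟩ := h.zxy_ne
    rcases hu' with rfl | rfl <;> rcases hcase with e2 | e2 <;>
      simp only [one_mul, mul_one] at e2
    exacts [n4 e2, n1 e2, n3 e2, n2 e2]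
  have hx1 : Φ xK ≠ 1 := by
    intro e1
    obtain ⟨u, hu, s, hs, -, hcase⟩ := hΦ xK e1
    rcases hcase with e2 | e2
    · rcases hmix u s hu hs x rfl (Or.inl e2) with rfl | rfl
      · rw [one_mul] at e2
        refine h.y_notP ?_
        have e2' : x = s := e2
        have hxy : x ∈ Subgroup.zpowers h.y := e2'.symm ▸ hs
        have he : Subgroup.zpowers x = Subgroup.zpowers h.y :=
          Subgroup.eq_of_le_of_card_ge (Subgroup.zpowers_le.mpr hxy) (by
            rw [Nat.card_zpowers, Nat.card_zpowers, h.ord, orderOf_eq_prime (p := 3) h.y_pow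
              (fun e3 => h.y_notP (e3 ▸ one_mem _))])
        rw [he]
        exact Subgroup.mem_zpowers _
      · have h3 := h.x_pow
        obtain ⟨n, rfl⟩ := Subgroup.mem_zpowers_iff.mp hs
        rw [show x = h.z * h.y ^ n from e2,
          ((show Commute h.z h.y from (h.z_cen h.yx).symm).zpow_right n).mul_pow,
          ← zpow_natCast (h.y ^ n), ← zpow_mul, mul_comm n, zpow_mul, zpow_natCast, h.y_pow, one_zpow, mul_one,
          pow_succ, pow_two, h.zz, one_mul] at h3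
        exact h.z_ne h3
    · obtain ⟨n, rfl⟩ := Subgroup.mem_zpowers_iff.mp hs
      have h3 := h.x_pow
      have hyz : Commute (h.y ^ n) h.zy := ((show Commute h.y h.zy from h.zy_cen (g := h.y) rfl)).zpow_left n
      have hmem : h.zy ∈ h.E := by
        rcases hmix u _ hu hs x rfl (Or.inr e2) with rfl | rfl
        · rw [one_mul] at e2
          rw [show x = h.y ^ n * h.zy from e2, hyz.mul_pow, ← zpow_natCast (h.y ^ n), ← zpow_mul, mul_comm n,
            zpow_mul, zpow_natCast, h.y_pow, one_zpow, one_mul, pow_succ, pow_two, h.zy_sq, one_mul] at h3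
          exact absurd h3 h.zy_ne_one
        · have hcz : Commute h.z (h.y ^ n * h.zy) :=
            ((show Commute h.z h.y from (h.z_cen h.yx).symm).zpow_right n).mul_right
              (show Commute h.zy h.z from h.z_cen h.zy_x).symm
          rw [show x = h.z * (h.y ^ n * h.zy) from e2, hcz.mul_pow, hyz.mul_pow, ← zpow_natCast (h.y ^ n),
            ← zpow_mul, mul_comm n, zpow_mul, zpow_natCast, h.y_pow, one_zpow, one_mul, pow_succ, pow_two, h.zz,
            one_mul, pow_succ, pow_two, h.zy_sq, one_mul] at h3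
          rw [← inv_eq_of_mul_eq_one_right h3, h.z_inv]
          exact h.z_mem_E
      exact h.zy_not_mem_E hmem
  obtain ⟨n, hn⟩ := Subgroup.mem_zpowers_iff.mp (twelve hQ (a := Φ xK) (j := Φ jK)
    (by rw [← map_pow, show xK ^ 3 = 1 from Subtype.ext h.x_pow, map_one]) hx1
    (by rw [← map_mul, show jK * jK = 1 from Subtype.ext h.zxy_sq, map_one]) hj1
    (by rw [← map_mul, ← map_mul]; exact congrArg Φ (Subtype.ext h.zxy_x.symm)) (Φ ⟨g, hg, mem_cent.mpr hgy⟩))
  set gK : ↥K := ⟨g, hg, mem_cent.mpr hgy⟩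
  obtain ⟨u, hu, s, hs, -, hcase⟩ := hΦ (gK * xK * gK⁻¹ * (xK ^ n)⁻¹) (by
    rw [map_mul, map_mul, map_mul, map_inv, map_inv, map_zpow, hn, mul_inv_cancel])
  simp only [Subgroup.coe_mul, Subgroup.coe_inv, Subgroup.coe_zpow, gK, xK] at hcase
  have hsx : s * x = x * s := by
    obtain ⟨m, rfl⟩ := Subgroup.mem_zpowers_iff.mp hs
    exact ((show Commute h.y x from h.yx).zpow_left m).eq
  have hxn : Commute (x ^ n) x := Commute.zpow_self x n
  have hEq : ∀ w : G, w ∈ h.H → g * x * g⁻¹ * (x ^ n)⁻¹ = u * w → h.Eq (g * x * g⁻¹) (w * x ^ n) := by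
    intro w hw e1
    have hm : w * x ^ n ∈ h.H := mul_mem hw (zpow_mem h.x_mem_H n)
    rw [mul_inv_eq_iff_eq_mul.mp e1]
    show (u * w * x ^ n)⁻¹ * (w * x ^ n) ∈ h.E
    rw [show (u * w * x ^ n)⁻¹ * (w * x ^ n) = (w * x ^ n)⁻¹ * u⁻¹ * (w * x ^ n)⁻¹⁻¹ by group]
    exact h.E_conj (inv_mem hm) (inv_mem hu)
  rcases hcase with e1 | e1
  · exact ⟨s * x ^ n, ((show Commute s x from hsx).mul_left hxn).eq, hEq s (h.C_le_H hsx) e1⟩
  · exact ⟨s * h.zy * x ^ n, (((show Commute s x from hsx).mul_left h.zy_x).mul_left hxn).eq,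
      hEq _ (mul_mem (h.C_le_H hsx) h.zy_mem_H) e1⟩

end Hyp

end CfsgLib.JankoSix
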