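/-
The centraliser of the involution `zy` modulo the 2-core normalises `⟨x⟩`: the action on the commutator space
of `zy` in `E/⟨z⟩`.
-/
import Cfsg.Agent.Lib.JankoSix.Local
import Cfsg.Agent.Lib.JankoSix.GLFour

set_option autoImplicit false
set_option linter.unusedSectionVars false

namespace CfsgLib.JankoSix

open Cfsg CfsgLib.JankoFour
open scoped Pointwise

local notation "M" => MTwoTwo

variable {G : Type*} [Group G] [Finite G] {x : G} (h : Hyp x)

/-- `⟨z⟩` inside `E`. -/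
noncomputable def Hyp.Zs : Subgroup ↥h.E := (Subgroup.zpowers h.z).subgroupOf h.E

instance Hyp.Zs_normal : h.Zs.Normal :=
  ⟨fun n hn g => ((Subgroup.mem_normalizer_iff.mp (h.normalizer_z (h.E_le_H g.2)) _).mp hn :)⟩

/-- The elements of `C(z)` normalising `⟨x⟩` modulo `E`. -/
noncomputable def Hyp.N0 : Subgroup G where
  carrier := {g | g ∈ h.H ∧ (h.Eq (g * x * g⁻¹) x ∨ h.Eq (g * x * g⁻¹) x⁻¹)}
  one_mem' := ⟨one_mem _, Or.inl (by rw [one_mul, inv_one, mul_one]; exact Hyp.Eq.refl' h x)⟩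
  mul_mem' := by
    rintro a b ⟨ha, ha'⟩ ⟨hb, hb'⟩
    refine ⟨mul_mem ha hb, ?_⟩
    have e : a * b * x * (a * b)⁻¹ = a * (b * x * b⁻¹) * a⁻¹ := by group
    rw [e]
    rcases hb' with eb | eb
    · exact ha'.imp (Hyp.Eq.trans' h (Hyp.Eq.conj h ha eb)) (Hyp.Eq.trans' h (Hyp.Eq.conj h ha eb))
    · have e1 := Hyp.Eq.conj h ha eb
      rw [show a * x⁻¹ * a⁻¹ = (a * x * a⁻¹)⁻¹ by group] at e1
      have inv_eq : ∀ {u v : G}, u ∈ h.H → h.Eq u v → h.Eq u⁻¹ v⁻¹ := by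
        intro u v hu huv
        show u⁻¹⁻¹ * v⁻¹ ∈ h.E
        have h1 := h.E_conj hu (inv_mem huv)
        rwa [mul_inv_rev, inv_inv, show u * (v⁻¹ * u) * u⁻¹ = u⁻¹⁻¹ * v⁻¹ by group] at h1
      have hm : a * x * a⁻¹ ∈ h.H := mul_mem (mul_mem ha h.x_mem_H) (inv_mem ha)
      rcases ha' with ea | ea
      · exact Or.inr (Hyp.Eq.trans' h e1 (inv_eq hm ea))
      · refine Or.inl (Hyp.Eq.trans' h e1 ?_)
        have := inv_eq hm ea
        rwa [inv_inv] at this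
  inv_mem' := by
    rintro a ⟨ha, ha'⟩
    refine ⟨inv_mem ha, ?_⟩
    rcases ha' with e | e <;> have e1 := Hyp.Eq.symm' h (Hyp.Eq.conj h (inv_mem ha) e) <;>
      rw [show a⁻¹ * (a * x * a⁻¹) * a⁻¹⁻¹ = x by group] at e1
    · exact Or.inl e1
    · refine Or.inr ?_
      show (a⁻¹ * x * a⁻¹⁻¹)⁻¹ * x⁻¹ ∈ h.E
      have h1 := h.E_conj h.x_mem_H e1
      rwa [show x * ((a⁻¹ * x⁻¹ * a⁻¹⁻¹)⁻¹ * x) * x⁻¹ = ((a⁻¹ * x⁻¹ * a⁻¹⁻¹) * x⁻¹)⁻¹ by group,
        inv_mem_iff, show (a⁻¹ * x⁻¹ * a⁻¹⁻¹) * x⁻¹ = (a⁻¹ * x * a⁻¹⁻¹)⁻¹ * x⁻¹ by group] at h1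

/-- The elements of `C(z)` fixing `zy` modulo `E`. -/
noncomputable def Hyp.Kt : Subgroup G where
  carrier := {g | g ∈ h.H ∧ h.Eq (g * h.zy * g⁻¹) h.zy}
  one_mem' := ⟨one_mem _, by rw [one_mul, inv_one, mul_one]; exact Hyp.Eq.refl' h h.zy⟩
  mul_mem' := by
    rintro a b ⟨ha, ha'⟩ ⟨hb, hb'⟩
    refine ⟨mul_mem ha hb, ?_⟩
    rw [show a * b * h.zy * (a * b)⁻¹ = a * (b * h.zy * b⁻¹) * a⁻¹ by group]
    exact Hyp.Eq.trans' h (Hyp.Eq.conj h ha hb') ha'
  inv_mem' := by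
    rintro a ⟨ha, ha'⟩
    refine ⟨inv_mem ha, ?_⟩
    have e1 := Hyp.Eq.symm' h (Hyp.Eq.conj h (inv_mem ha) ha')
    rwa [show a⁻¹ * (a * h.zy * a⁻¹) * a⁻¹⁻¹ = h.zy by group] at e1

namespace Hyp

include h

theorem N0_le_H : h.N0 ≤ h.H := fun _ hg => hg.1

theorem C_le_N0 {c : G} (hc : c * x = x * c) : c ∈ h.N0 :=
  ⟨h.C_le_H hc, Or.inl (by rw [hc, mul_inv_cancel_right]; exact Eq.refl' h x)⟩

theorem E_le_N0 : h.E ≤ h.N0 := fun e he => ⟨h.E_le_H he, Or.inl (by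
  show (e * x * e⁻¹)⁻¹ * x ∈ h.E
  rw [show (e * x * e⁻¹)⁻¹ * x = e * (x⁻¹ * e⁻¹ * x⁻¹⁻¹) by group]
  exact mul_mem he (h.E_conj (inv_mem h.x_mem_H) (inv_mem he)))⟩

theorem mul_comm_quot (a b : ↥h.E ⧸ h.Zs) : a * b = b * a := by
  obtain ⟨d, rfl⟩ := QuotientGroup.mk'_surjective _ a
  obtain ⟨e, rfl⟩ := QuotientGroup.mk'_surjective _ b
  rw [← map_mul, ← map_mul, QuotientGroup.mk'_apply, QuotientGroup.mk'_apply, QuotientGroup.eq]
  show ((d * e : ↥h.E) : G)⁻¹ * ((e * d : ↥h.E) : G) ∈ Subgroup.zpowers h.z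
  have := h.E_comm (inv_mem e.2) (inv_mem d.2)
  simpa [mul_assoc] using this

theorem sq_quot (a : ↥h.E ⧸ h.Zs) : a * a = 1 := by
  obtain ⟨e, rfl⟩ := QuotientGroup.mk'_surjective _ a
  rw [← map_mul, QuotientGroup.mk'_apply, QuotientGroup.eq_one_iff]
  exact h.E_sq_mem e.2

theorem mk_eq_iff (d e : ↥h.E) : (QuotientGroup.mk' h.Zs d = QuotientGroup.mk' h.Zs e) ↔
    (d : G)⁻¹ * e ∈ Subgroup.zpowers h.z := by
  rw [QuotientGroup.mk'_apply, QuotientGroup.mk'_apply, QuotientGroup.eq]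
  rfl

/-- The action of `C(z)` on `E/⟨z⟩`. -/
theorem exists_act : ∃ act : ↥h.H → (↥h.E ⧸ h.Zs →* ↥h.E ⧸ h.Zs),
    (∀ (g : ↥h.H) (e : ↥h.E), act g (QuotientGroup.mk' h.Zs e) =
      QuotientGroup.mk' h.Zs ⟨g * e * (g : G)⁻¹, h.E_conj g.2 e.2⟩) ∧
    (∀ g g' : ↥h.H, ∀ v, act (g * g') v = act g (act g' v)) ∧
    (∀ g g' : ↥h.H, h.Eq g g' → ∀ v, act g v = act g' v) ∧
    (∀ v, act 1 v = v) := by
  let cE : ↥h.H → (↥h.E →* ↥h.E) := fun g =>
    { toFun := fun e => ⟨g * e * (g : G)⁻¹, h.E_conj g.2 e.2⟩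
      map_one' := Subtype.ext (by simp)
      map_mul' := fun a b => Subtype.ext (by simp [mul_assoc]) }
  let act : ↥h.H → (↥h.E ⧸ h.Zs →* ↥h.E ⧸ h.Zs) := fun g => QuotientGroup.map _ _ (cE g)
    (fun e he => (Subgroup.mem_normalizer_iff.mp (h.normalizer_z g.2) _).mp he)
  refine ⟨act, fun g e => rfl, fun g g' v => ?_, fun g g' e v => ?_, fun v => ?_⟩
  · obtain ⟨d, rfl⟩ := QuotientGroup.mk'_surjective _ v
    show QuotientGroup.mk' h.Zs (cE (g * g') d) = QuotientGroup.mk' h.Zs (cE g (cE g' d))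
    exact congrArg _ (Subtype.ext (by simp [cE, mul_assoc]))
  · obtain ⟨d, rfl⟩ := QuotientGroup.mk'_surjective _ v
    show QuotientGroup.mk' h.Zs (cE g d) = QuotientGroup.mk' h.Zs (cE g' d)
    rw [h.mk_eq_iff]
    show ((g : G) * d * (g : G)⁻¹)⁻¹ * ((g' : G) * d * (g' : G)⁻¹) ∈ Subgroup.zpowers h.z
    have h1 := (Subgroup.mem_normalizer_iff.mp (h.normalizer_z g.2) _).mp
      (h.E_comm (inv_mem d.2) (show (g : G)⁻¹ * g' ∈ h.E from e))
    rwa [show (g : G) * ((d : G)⁻¹ * ((g : G)⁻¹ * g') * (d : G)⁻¹⁻¹ * ((g : G)⁻¹ * g')⁻¹) * (g : G)⁻¹ =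
      ((g : G) * d * (g : G)⁻¹)⁻¹ * ((g' : G) * d * (g' : G)⁻¹) by group] at h1
  · obtain ⟨d, rfl⟩ := QuotientGroup.mk'_surjective _ v
    show QuotientGroup.mk' h.Zs (cE 1 d) = QuotientGroup.mk' h.Zs d
    exact congrArg _ (Subtype.ext (by simp [cE]))

theorem zy_Kt : h.zy ∈ h.Kt :=
  ⟨h.zy_mem_H, by rw [mul_inv_cancel_right]; exact Eq.refl' h _⟩

theorem cent_zy_Kt {g : G} (hg : g ∈ h.H) (hc : g * h.zy = h.zy * g) : g ∈ h.Kt :=
  ⟨hg, by rw [hc, mul_inv_cancel_right]; exact Eq.refl' h _⟩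

/-- An element inverting `y` and centralising `x` and `zy`. -/
theorem exists_swap : ∃ c : G, c * x = x * c ∧ c * h.y * c⁻¹ = h.y⁻¹ ∧ c * h.zy = h.zy * c := by
  have hy' : h.y⁻¹ ∉ Subgroup.zpowers x := fun e => h.y_notP (by simpa using inv_mem e)
  obtain ⟨c, hc, e⟩ := h.three_conj h.yx h.y_pow h.y_notP
    ((show Commute h.y x from h.yx).inv_left.eq) (by rw [inv_pow, h.y_pow, inv_one]) hy'
  refine ⟨c, hc, e, ?_⟩
  have hn : (h.kk⁻¹ * c * h.kk) * x * (h.kk⁻¹ * c * h.kk)⁻¹ = x⁻¹ := by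
    calc (h.kk⁻¹ * c * h.kk) * x * (h.kk⁻¹ * c * h.kk)⁻¹ = h.kk⁻¹ * (c * h.y * c⁻¹) * h.kk := by
          rw [Hyp.y]; group
      _ = x⁻¹ := by rw [e, Hyp.y]; group
  have h1 := comm_conj h.kk (h.inv_fix_z hn)
  rwa [show h.kk * (h.kk⁻¹ * c * h.kk) * h.kk⁻¹ = c by group] at h1

open GLFour in
/-- Coordinates on the commutator space of `zy`. -/
theorem exists_coord : ∃ (act : ↥h.H → (↥h.E ⧸ h.Zs →* ↥h.E ⧸ h.Zs)) (ι : ℕ → ↥h.E ⧸ h.Zs),
    (∀ g g' : ↥h.H, ∀ v, act (g * g') v = act g (act g' v)) ∧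
    (∀ g g' : ↥h.H, h.Eq g g' → ∀ v, act g v = act g' v) ∧
    (∀ v, act 1 v = v) ∧
    (∀ u, u < 16 → ∀ v, v < 16 → ι (u ^^^ v) = ι u * ι v) ∧
    (∀ u, u < 16 → ∀ v, v < 16 → ι u = ι v → u = v) ∧
    (∀ g : ↥h.H, (g : G) ∈ h.Kt → ∀ u, u < 16 → ∃ v, v < 16 ∧ act g (ι u) = ι v) ∧
    (∀ u, u < 16 → act ⟨x, h.x_mem_H⟩ (ι u) = ι (app mX u)) ∧
    (∀ u, u < 16 → act ⟨h.y, h.y_mem_H⟩ (ι u) = ι (app mY u)) ∧
    (∀ v, act ⟨x, h.x_mem_H⟩ (act ⟨x, h.x_mem_H⟩ v) = v * act ⟨x, h.x_mem_H⟩ v) := by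
  classical
  obtain ⟨act, amk, amul, aeq, aone⟩ := h.exists_act
  letI : CommGroup (↥h.E ⧸ h.Zs) :=
    { (inferInstance : Group (↥h.E ⧸ h.Zs)) with mul_comm := h.mul_comm_quot }
  have hsq := h.sq_quot
  set q := QuotientGroup.mk' h.Zs with hq
  have qsurj : Function.Surjective q := QuotientGroup.mk'_surjective _
  set X : ↥h.H := ⟨x, h.x_mem_H⟩ with hX
  set Y : ↥h.H := ⟨h.y, h.y_mem_H⟩ with hY
  set T : ↥h.H := ⟨h.zy, h.zy_mem_H⟩ with hT
  set φ := act X with hφ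
  set ψ := act Y with hψ
  set τ := act T with hτ
  have acomm : ∀ g g' : ↥h.H, (g : G) * g' = g' * g → ∀ v, act g (act g' v) = act g' (act g v) :=
    fun g g' e v => by rw [← amul, ← amul, show g * g' = g' * g from Subtype.ext e]
  have hφ3 : ∀ v, φ (φ (φ v)) = v := fun v => by
    rw [hφ, ← amul, ← amul, show X * X * X = 1 from Subtype.ext (by
      show x * x * x = 1
      rw [← h.x_pow, pow_succ, pow_two]), aone]
  have hψ3 : ∀ v, ψ (ψ (ψ v)) = v := fun v => by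
    rw [hψ, ← amul, ← amul, show Y * Y * Y = 1 from Subtype.ext (by
      show h.y * h.y * h.y = 1
      rw [← h.y_pow, pow_succ, pow_two]), aone]
  have hτ2 : ∀ v, τ (τ v) = v := fun v => by
    rw [hτ, ← amul, show T * T = 1 from Subtype.ext h.zy_sq, aone]
  have hc : ∀ v, φ (ψ v) = ψ (φ v) := acomm X Y h.yx.symm
  have hcx : ∀ v, τ (φ v) = φ (τ v) := acomm T X h.zy_x
  have hcy : ∀ v, τ (ψ v) = ψ (τ v) := acomm T Y (h.zy_cen (g := h.y) rfl).symm
  -- fixed points of elements of order three lift exactly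
  have fixlift : ∀ (g : ↥h.H), (g : G) ^ 3 = 1 → ∀ e : ↥h.E, act g (q e) = q e → (e : G) * g = g * e := by
    intro g hg e he
    rw [amk, eq_comm, hq, h.mk_eq_iff] at he
    have hzg : Commute (g : G) h.z := h.mem_H.mp g.2
    rcases h.zpowers_z he with e1 | e1
    · exact (mul_inv_eq_iff_eq_mul.mp (inv_mul_eq_one.mp e1).symm).symm
    · exfalso
      have e2 : (g : G) * e * (g : G)⁻¹ = e * h.z := inv_mul_eq_iff_eq_mul.mp e1
      have e3 : (g : G) ^ 3 * e * ((g : G) ^ 3)⁻¹ = e * h.z := by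
        calc (g : G) ^ 3 * e * ((g : G) ^ 3)⁻¹
            = (g : G) * ((g : G) * ((g : G) * e * (g : G)⁻¹) * (g : G)⁻¹) * (g : G)⁻¹ := by
              simp only [pow_succ, pow_zero, one_mul, mul_inv_rev, mul_assoc]
          _ = (g : G) * ((g : G) * ((e : G) * h.z) * (g : G)⁻¹) * (g : G)⁻¹ := by rw [e2]
          _ = (g : G) * (((g : G) * e * (g : G)⁻¹) * ((g : G) * h.z * (g : G)⁻¹)) * (g : G)⁻¹ := by group
          _ = (g : G) * ((e : G) * h.z * h.z) * (g : G)⁻¹ := by rw [e2, hzg.eq, mul_inv_cancel_right]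
          _ = e * h.z := by rw [mul_assoc (e : G), h.zz, mul_one, e2]
      rw [hg, one_mul, inv_one, mul_one] at e3
      exact h.z_ne (left_eq_mul.mp e3)
  have hfree : ∀ v, φ v = v → v = 1 := by
    intro v hv
    obtain ⟨e, rfl⟩ := qsurj v
    rw [hq, QuotientGroup.mk'_apply, QuotientGroup.eq_one_iff]
    rcases h.cent_x e.2 (fixlift X h.x_pow e hv) with e1 | e1
    · rw [show e = 1 from Subtype.ext e1]; exact one_mem _
    · show (e : G) ∈ Subgroup.zpowers h.z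
      rw [e1]; exact Subgroup.mem_zpowers _
  have tr : ∀ m, m * φ m * φ (φ m) = 1 := fun m => hfree _ (by
    rw [map_mul, map_mul, hφ3]
    calc φ m * φ (φ m) * m = m * (φ m * φ (φ m)) := mul_comm _ _
      _ = m * φ m * φ (φ m) := (mul_assoc _ _ _).symm)
  have hφφ : ∀ m, φ (φ m) = m * φ m := fun m => by
    calc φ (φ m) = (m * φ m) * (m * φ m) * φ (φ m) := by rw [hsq, one_mul]
      _ = (m * φ m) * (m * φ m * φ (φ m)) := mul_assoc _ _ _
      _ = m * φ m := by rw [tr, mul_one]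
  -- `zy` fixes the part of `y`
  have τy : ∀ v, ψ v = v → τ v = v := by
    intro v hv
    obtain ⟨e, rfl⟩ := qsurj v
    have hc := fixlift Y h.y_pow e hv
    rw [hτ, amk]
    refine congrArg q (Subtype.ext ?_)
    show h.zy * (e : G) * h.zy⁻¹ = e
    rw [← h.zy_cen hc, mul_inv_cancel_right]
  set D : ↥h.E ⧸ h.Zs →* ↥h.E ⧸ h.Zs :=
    { toFun := fun v => v * τ v
      map_one' := by rw [map_one, one_mul]
      map_mul' := fun a b => by rw [map_mul]; exact mul_mul_mul_comm _ _ _ _ } with hD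
  have Dapp : ∀ v, D v = v * τ v := fun v => rfl
  have DD : ∀ v, D (D v) = 1 := fun v => by
    rw [Dapp, Dapp, map_mul, hτ2, mul_comm (τ v) v]
    exact hsq _
  have Dφ : ∀ v, D (φ v) = φ (D v) := fun v => by rw [Dapp, Dapp, map_mul, hcx]
  have Dψ : ∀ v, D (ψ v) = ψ (D v) := fun v => by rw [Dapp, Dapp, map_mul, hcy]
  -- transport between the parts
  obtain ⟨c, hcxx, hcyy, hczy⟩ := h.exists_swap
  set Cc : ↥h.H := ⟨c, h.C_le_H hcxx⟩ with hCc
  set Aa : ↥h.H := ⟨h.aa, h.a_mem_H⟩ with hAa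
  have Aφ : ∀ v, act Aa (φ v) = φ (act Aa v) := acomm Aa X h.ax
  have Aψ : ∀ v, act Aa (ψ v) = φ (ψ (act Aa v)) := fun v => by
    rw [hφ, hψ, ← amul, ← amul, ← amul]
    refine congrArg (fun g => act g v) (Subtype.ext ?_)
    show h.aa * h.y = x * h.y * h.aa
    rw [mul_inv_eq_iff_eq_mul.mp h.a_y]
  have Cφ : ∀ v, act Cc (φ v) = φ (act Cc v) := acomm Cc X hcxx
  have Cψ : ∀ v, act Cc (ψ v) = ψ (ψ (act Cc v)) := fun v => by
    rw [hψ, ← amul, ← amul, ← amul]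
    refine congrArg (fun g => act g v) (Subtype.ext ?_)
    show c * h.y = h.y * h.y * c
    rw [mul_inv_eq_iff_eq_mul.mp hcyy]
    congr 1
    refine inv_eq_of_mul_eq_one_right ?_
    rw [← h.y_pow, pow_succ, pow_two, mul_assoc]
  have Cτ : ∀ v, act Cc (τ v) = τ (act Cc v) := acomm Cc T hczy
  have ainj : ∀ g : ↥h.H, Function.Injective (act g) := fun g v w e => by
    have := congrArg (act g⁻¹) e
    rwa [← amul, ← amul, inv_mul_cancel, aone, aone] at this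
  have asurj : ∀ g : ↥h.H, Function.Surjective (act g) := fun g v =>
    ⟨act g⁻¹ v, by rw [← amul, mul_inv_cancel, aone]⟩
  -- the three parts have order sixteen
  have card0 : Nat.card {v // ψ v = v} = 16 := by
    set U := h.E ⊓ Subgroup.centralizer ({h.y} : Set G)
    let f : ↥U →* ↥h.E ⧸ h.Zs := q.comp (Subgroup.inclusion inf_le_left)
    have hran : ∀ v, v ∈ f.range ↔ ψ v = v := by
      intro v
      constructor
      · rintro ⟨u, rfl⟩
        show ψ (q (Subgroup.inclusion inf_le_left u)) = _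
        rw [hψ, amk]
        refine congrArg q (Subtype.ext ?_)
        show h.y * (u : G) * h.y⁻¹ = u
        rw [← mem_cent.mp u.2.2, mul_inv_cancel_right]
      · intro hv
        obtain ⟨e, rfl⟩ := qsurj v
        exact ⟨⟨e, e.2, mem_cent.mpr (fixlift Y h.y_pow e hv)⟩, rfl⟩
    have hker : f.ker = (Subgroup.zpowers h.z).subgroupOf U := by
      ext u
      rw [MonoidHom.mem_ker, Subgroup.mem_subgroupOf]
      exact QuotientGroup.eq_one_iff _
    have h1 := Subgroup.card_mul_index f.ker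
    rw [Subgroup.index_ker, hker, Nat.card_congr (Subgroup.subgroupOfEquivOfLe (Subgroup.zpowers_le.mpr
      (Subgroup.mem_inf.mpr ⟨h.z_mem_E, mem_cent.mpr (h.z_cen h.yx).symm⟩))).toEquiv, h.card_zpowers_z, h.card_U] at h1
    have h2 : Nat.card {v // ψ v = v} = Nat.card ↥f.range :=
      Nat.card_congr (Equiv.subtypeEquivRight fun v => (hran v).symm)
    omega
  have card1 : Nat.card {v // φ (ψ v) = v} = 16 := by
    rw [← card0]
    refine (Nat.card_congr (Equiv.subtypeEquiv (Equiv.ofBijective _ ⟨ainj Aa, asurj Aa⟩) fun v => ?_)).symm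
    show ψ v = v ↔ φ (ψ (act Aa v)) = act Aa v
    rw [← Aψ]
    exact (ainj Aa).eq_iff.symm
  -- the trace argument: `zy` acts nontrivially on the part of `xy`
  have hC12 : ∀ v, φ (φ (ψ v)) = v → φ (ψ (act Cc v)) = act Cc v := by
    intro v hv
    have e := congrArg (act Cc) hv
    rw [Cφ, Cφ, Cψ] at e
    calc φ (ψ (act Cc v)) = φ (ψ (φ (φ (ψ (ψ (act Cc v)))))) := by rw [e]
      _ = act Cc v := by simp only [← hc, hφ3, hψ3]
  have hC21 : ∀ v, φ (ψ v) = v → φ (φ (ψ (act Cc v))) = act Cc v := by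
    intro v hv
    have e := congrArg (act Cc) hv
    rw [Cφ, Cψ] at e
    calc φ (φ (ψ (act Cc v))) = φ (φ (ψ (φ (ψ (ψ (act Cc v)))))) := by rw [e]
      _ = act Cc v := by simp only [← hc, hφ3, hψ3]
  obtain ⟨w1, hw1, hw1'⟩ : ∃ w, φ (ψ w) = w ∧ D w ≠ 1 := by
    by_contra hall
    push Not at hall
    have h2 : ∀ v, φ (φ (ψ v)) = v → D v = 1 := by
      intro v hv
      refine ainj Cc ?_
      rw [map_one, Dapp, map_mul, Cτ, ← Dapp]
      exact hall _ (hC12 v hv)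
    have hzero : ∀ v, D v = 1 := by
      intro v
      obtain ⟨a, b, c', ha, hb, hc', rfl⟩ := three_span φ ψ hφ3 hψ3 hc hsq hfree v
      rw [map_mul, map_mul, hall b hb, h2 c' hc', Dapp, τy a ha, hsq, one_mul, one_mul]
    refine h.zy_not_mem_E (h.cent_E h.zy_mem_H fun e he => ?_)
    -- the commutator with `zy` is a homomorphism into `⟨z⟩` invariant under `x`
    have hε : ∀ e : ↥h.E, ∃ u ∈ Subgroup.zpowers h.z, h.zy * (e : G) * h.zy⁻¹ = e * u := by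
      intro e
      have h1 : τ (q e) = q e := by
        calc τ (q e) = q e * (q e * τ (q e)) := by rw [← mul_assoc, hsq, one_mul]
          _ = q e := by rw [← Dapp, hzero, mul_one]
      rw [hτ, amk, eq_comm, hq, h.mk_eq_iff] at h1
      exact ⟨_, h1, (mul_inv_cancel_left _ _).symm⟩
    choose ε hεz hε' using hε
    have zc : ∀ {u v : G}, u ∈ Subgroup.zpowers h.z → v ∈ h.H → Commute u v := fun hu hv => by
      rcases h.zpowers_z hu with e1 | e1 <;> rw [e1]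
      · exact Commute.one_left _
      · exact (show Commute _ h.z from h.mem_H.mp hv).symm
    have εmul : ∀ a b : ↥h.E, ε (a * b) = ε a * ε b := by
      intro a b
      refine mul_left_cancel (a := (a : G) * b) ?_
      calc (a : G) * b * ε (a * b) = h.zy * ((a * b : ↥h.E) : G) * h.zy⁻¹ := (hε' (a * b)).symm
        _ = (h.zy * (a : G) * h.zy⁻¹) * (h.zy * (b : G) * h.zy⁻¹) := by rw [Subgroup.coe_mul]; group
        _ = (a : G) * (ε a * b) * ε b := by rw [hε', hε']; group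
        _ = (a : G) * b * (ε a * ε b) := by rw [(zc (hεz a) (h.E_le_H b.2)).eq]; group
    let cx : ↥h.E → ↥h.E := fun e => ⟨x * e * x⁻¹, h.E_conj h.x_mem_H e.2⟩
    have εx : ∀ e, ε (cx e) = ε e := by
      intro e
      refine mul_left_cancel (a := x * (e : G) * x⁻¹) ?_
      calc x * (e : G) * x⁻¹ * ε (cx e) = h.zy * (x * (e : G) * x⁻¹) * h.zy⁻¹ := (hε' (cx e)).symm
        _ = (h.zy * x) * e * (h.zy * x)⁻¹ := by group
        _ = (x * h.zy) * e * (x * h.zy)⁻¹ := by rw [h.zy_x]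
        _ = x * (h.zy * e * h.zy⁻¹) * x⁻¹ := by group
        _ = x * (e : G) * (ε e * x⁻¹) := by rw [hε']; group
        _ = x * (e : G) * x⁻¹ * ε e := by rw [(zc (hεz e) (inv_mem h.x_mem_H)).eq]; group
    set m : ↥h.E := ⟨e, he⟩ * cx ⟨e, he⟩ * cx (cx ⟨e, he⟩) with hm
    have hm1 : q m = 1 := by
      have hqx : ∀ e, q (cx e) = φ (q e) := fun e => by rw [hφ, amk]
      rw [hm, map_mul, map_mul]
      simp only [hqx]
      exact tr (q ⟨e, he⟩)
    have hmz : (m : G) ∈ Subgroup.zpowers h.z := (QuotientGroup.eq_one_iff (N := h.Zs) m).mp hm1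
    have hεm : ε m = 1 := by
      have h1 := hε' m
      rw [← (zc hmz h.zy_mem_H).eq, mul_inv_cancel_right] at h1
      exact left_eq_mul.mp h1
    rw [hm, εmul, εmul, εx, εx, εx] at hεm
    have : ε ⟨e, he⟩ = 1 := by
      rcases h.zpowers_z (hεz ⟨e, he⟩) with e1 | e1
      · exact e1
      · rw [e1, h.zz, one_mul] at hεm
        exact absurd hεm h.z_ne
    have h1 := hε' ⟨e, he⟩
    rw [this, mul_one] at h1
    exact mul_inv_eq_iff_eq_mul.mp h1
  set a1 := D w1 with ha1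
  set a2 := act Cc a1 with ha2
  have ha1F : φ (ψ a1) = a1 := by rw [ha1, ← Dψ, ← Dφ, hw1]
  have ha2F : φ (φ (ψ a2)) = a2 := hC21 a1 ha1F
  have ha2D : a2 = D (act Cc w1) := by rw [ha2, ha1, Dapp, Dapp, map_mul, Cτ]
  have ψa1 : ψ a1 = a1 * φ a1 := by
    calc ψ a1 = φ (φ (φ (ψ a1))) := (hφ3 _).symm
      _ = a1 * φ a1 := by rw [ha1F, hφφ]
  have ψa2 : ψ a2 = φ a2 := by
    calc ψ a2 = φ (φ (φ (ψ a2))) := (hφ3 _).symm
      _ = φ a2 := congrArg φ ha2F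
  -- the image of the part of `xy` has four elements
  let F1 : Subgroup (↥h.E ⧸ h.Zs) := fixSub (φ.comp ψ)
  have hF1 : Nat.card ↥F1 = 16 := card1
  let D1 : ↥F1 →* ↥h.E ⧸ h.Zs := D.comp F1.subtype
  have hP : Nat.card ↥D1.range ≤ 4 := by
    have hsub : D1.range ≤ F1 := by
      rintro _ ⟨v, rfl⟩
      show φ (ψ (D v)) = D v
      rw [← Dψ, ← Dφ, show φ (ψ (v : ↥h.E ⧸ h.Zs)) = v from v.2]
    have hle : D1.range ≤ D1.ker.map F1.subtype := by
      intro v hv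
      refine ⟨⟨v, hsub hv⟩, ?_, rfl⟩
      obtain ⟨u, rfl⟩ := hv
      exact DD _
    have h1 := Subgroup.card_le_of_le hle
    rw [Subgroup.card_map_of_injective F1.subtype_injective] at h1
    have h2 := Subgroup.card_mul_index D1.ker
    rw [Subgroup.index_ker, hF1] at h2
    nlinarith
  have hne : ∀ a, a ≠ 1 → a ≠ φ a ∧ φ a ≠ 1 ∧ a * φ a ≠ 1 ∧ a * φ a ≠ a ∧ a * φ a ≠ φ a := by
    intro a ha
    have h1 : a ≠ φ a := fun e => ha (hfree a e.symm)
    have h2 : φ a ≠ 1 := fun e => ha (by rw [← hφ3 a, e, map_one, map_one])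
    refine ⟨h1, h2, fun e => h1 ?_, fun e => h2 (mul_eq_left.mp e), fun e => ha (mul_eq_right.mp e)⟩
    calc a = a * (φ a * φ a) := by rw [hsq, mul_one]
      _ = φ a := by rw [← mul_assoc, e, one_mul]
  -- coordinates
  let pw : Bool → (↥h.E ⧸ h.Zs) → (↥h.E ⧸ h.Zs) := fun b a => if b then a else 1
  have pw_xor : ∀ b b' a, pw (xor b b') a = pw b a * pw b' a := by
    intro b b' a
    cases b <;> cases b' <;> simp [pw, hsq]
  let ι : ℕ → ↥h.E ⧸ h.Zs := fun v =>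
    (pw (v.testBit 0) a1 * pw (v.testBit 1) (φ a1)) * (pw (v.testBit 2) a2 * pw (v.testBit 3) (φ a2))
  have ι_mul : ∀ u v, ι (u ^^^ v) = ι u * ι v := by
    intro u v
    simp only [ι, Nat.testBit_xor]
    rw [pw_xor, pw_xor, pw_xor, pw_xor, mul_mul_mul_comm (pw (u.testBit 0) a1), mul_mul_mul_comm (pw (u.testBit 2) a2)]
    exact mul_mul_mul_comm _ _ _ _
  have ι1 : ι 1 = a1 := by simp [ι, pw, Nat.testBit, Nat.shiftRight_eq_div_pow]
  have ι2 : ι 2 = φ a1 := by simp [ι, pw, Nat.testBit, Nat.shiftRight_eq_div_pow]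
  have ι4 : ι 4 = a2 := by simp [ι, pw, Nat.testBit, Nat.shiftRight_eq_div_pow]
  have ι8 : ι 8 = φ a2 := by simp [ι, pw, Nat.testBit, Nat.shiftRight_eq_div_pow]
  have ι0 : ι 0 = 1 := by simp [ι, pw]
  have lin : ∀ (f : ↥h.E ⧸ h.Zs →* ↥h.E ⧸ h.Zs) (F : Mat), f a1 = ι F.1 → f (φ a1) = ι F.2.1 →
      f a2 = ι F.2.2.1 → f (φ a2) = ι F.2.2.2 → ∀ u, u < 16 → f (ι u) = ι (app F u) := by
    intro f F e1 e2 e4 e8 u hu
    have ipw : ∀ (b : Bool) n, ι (if b then n else 0) = pw b (ι n) := fun b n => by cases b <;> simp [pw, ι0]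
    have fpw : ∀ (b : Bool) a, f (pw b a) = pw b (f a) := fun b a => by cases b <;> simp [pw]
    have eb : u.testBit 0 = (u % 2 == 1) ∧ u.testBit 1 = (u / 2 % 2 == 1) ∧ u.testBit 2 = (u / 4 % 2 == 1) ∧
        u.testBit 3 = (u / 8 % 2 == 1) := by
      revert hu; revert u; decide
    rw [app, ι_mul, ι_mul, ι_mul, ipw, ipw, ipw, ipw, ← eb.1, ← eb.2.1, ← eb.2.2.1, ← eb.2.2.2, ← e1, ← e2, ← e4,
      ← e8]
    simp only [ι, map_mul, fpw]
  have P4 : ∀ v, φ (ψ v) = v → D v = 1 ∨ D v = a1 ∨ D v = φ a1 ∨ D v = a1 * φ a1 := by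
    intro v hv
    by_contra hnot
    push Not at hnot
    obtain ⟨n1, n2, n3, n4⟩ := hnot
    obtain ⟨g1, g2, g3, g4, g5⟩ := hne a1 hw1'
    have hin : ∀ u, φ (ψ u) = u → D u ∈ D1.range := fun u hu => ⟨⟨u, hu⟩, rfl⟩
    have hφw : φ (ψ (φ w1)) = φ w1 := by rw [← hc, hw1]
    have hmem : ∀ p ∈ ({1, a1, φ a1, a1 * φ a1, D v} : Finset _), p ∈ D1.range := by
      intro p hp
      simp only [Finset.mem_insert, Finset.mem_singleton] at hp
      rcases hp with rfl | rfl | rfl | rfl | rfl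
      · exact one_mem _
      · exact hin w1 hw1
      · rw [ha1, ← Dφ]; exact hin _ hφw
      · exact mul_mem (hin w1 hw1) (by rw [ha1, ← Dφ]; exact hin _ hφw)
      · exact hin v hv
    have hcard : ({1, a1, φ a1, a1 * φ a1, D v} : Finset (↥h.E ⧸ h.Zs)).card = 5 := by
      rw [Finset.card_insert_of_notMem (by simp [Ne.symm hw1', g2.symm, g3.symm, n1.symm]),
        Finset.card_insert_of_notMem (by simp [g1, g4.symm, n2.symm]),
        Finset.card_insert_of_notMem (by simp [g5.symm, n3.symm]),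
        Finset.card_insert_of_notMem (by simp [n4.symm]), Finset.card_singleton]
    have := Nat.card_le_card_of_injective
      (fun p : ↥({1, a1, φ a1, a1 * φ a1, D v} : Finset (↥h.E ⧸ h.Zs)) => (⟨p.1, hmem p.1 p.2⟩ : ↥D1.range))
      (fun p p' e => Subtype.ext (congrArg Subtype.val e :))
    rw [Nat.card_eq_finsetCard, hcard] at this
    omega
  have imD : ∀ v, ∃ n, n < 16 ∧ D v = ι n := by
    intro v
    obtain ⟨a, b, c', ha, hb, hc', rfl⟩ := three_span φ ψ hφ3 hψ3 hc hsq hfree v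
    obtain ⟨w, hw⟩ := asurj Cc c'
    have hwF : φ (ψ w) = w := by
      refine ainj Cc ?_
      rw [Cφ, Cψ, hw]
      calc φ (ψ (ψ c')) = φ (ψ (ψ (φ (φ (ψ c'))))) := by rw [hc']
        _ = c' := by simp only [← hc, hφ3, hψ3]
    have e0 : D a = 1 := by rw [Dapp, τy a ha, hsq]
    have e2 : D c' = act Cc (D w) := by rw [Dapp, Dapp, map_mul, Cτ, hw]
    obtain ⟨i, hi, hib⟩ : ∃ i, i < 4 ∧ D b = ι i := by
      rcases P4 b hb with e | e | e | e
      · exact ⟨0, by norm_num, e.trans ι0.symm⟩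
      · exact ⟨1, by norm_num, e.trans ι1.symm⟩
      · exact ⟨2, by norm_num, e.trans ι2.symm⟩
      · exact ⟨3, by norm_num, e.trans (by rw [show (3 : ℕ) = 1 ^^^ 2 from rfl, ι_mul, ι1, ι2])⟩
    obtain ⟨j, hj, hjc⟩ : ∃ j, j < 16 ∧ D c' = ι j := by
      rw [e2]
      rcases P4 w hwF with e | e | e | e <;> rw [e]
      · exact ⟨0, by norm_num, by rw [map_one, ι0]⟩
      · exact ⟨4, by norm_num, by rw [ι4, ha2]⟩
      · exact ⟨8, by norm_num, by rw [ι8, Cφ, ha2]⟩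
      · exact ⟨12, by norm_num, by rw [map_mul, Cφ, show (12 : ℕ) = 4 ^^^ 8 from rfl, ι_mul, ι4, ι8, ha2]⟩
    exact ⟨i ^^^ j, Nat.xor_lt_two_pow (n := 4) (by omega) hj,
      by rw [map_mul, map_mul, e0, one_mul, hib, hjc, ι_mul]⟩
  have inj0 : ∀ u, u < 16 → ι u = 1 → u = 0 := by
    intro u hu e
    set p1 := pw (u.testBit 0) a1 * pw (u.testBit 1) (φ a1) with hp1
    set p2 := pw (u.testBit 2) a2 * pw (u.testBit 3) (φ a2) with hp2
    have e12 : p1 = p2 := by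
      calc p1 = p1 * (p2 * p2) := by rw [hsq, mul_one]
        _ = p2 := by rw [← mul_assoc, show p1 * p2 = 1 from e, one_mul]
    have f1 : φ (ψ p1) = p1 := by
      have hb : φ (ψ (φ a1)) = φ a1 := by rw [← hc, ha1F]
      rw [hp1]; cases u.testBit 0 <;> cases u.testBit 1 <;> simp [pw, ha1F, hb]
    have f2 : φ (φ (ψ p1)) = p1 := by
      have hb : φ (φ (ψ (φ a2))) = φ a2 := by rw [← hc, ha2F]
      rw [e12, hp2]; cases u.testBit 2 <;> cases u.testBit 3 <;> simp [pw, ha2F, hb]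
    have p1e : p1 = 1 := hfree _ (by rw [f1] at f2; exact f2)
    have p2e : p2 = 1 := e12 ▸ p1e
    obtain ⟨g1, g2, g3, -, -⟩ := hne a1 hw1'
    obtain ⟨k1, k2, k3, -, -⟩ := hne a2 (fun e => hw1' (ainj Cc (e.trans (map_one _).symm)))
    have b01 : u.testBit 0 = false ∧ u.testBit 1 = false := by
      rw [hp1] at p1e
      rcases Bool.eq_false_or_eq_true (u.testBit 0) with h0 | h0 <;>
        rcases Bool.eq_false_or_eq_true (u.testBit 1) with h1 | h1 <;>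
          simp [pw, h0, h1, g2, g3, hw1', a1] at p1e ⊢
    have b23 : u.testBit 2 = false ∧ u.testBit 3 = false := by
      rw [hp2] at p2e
      have a2ne : a2 ≠ 1 := fun e => hw1' (ainj Cc (e.trans (map_one _).symm))
      rcases Bool.eq_false_or_eq_true (u.testBit 2) with h0 | h0 <;>
        rcases Bool.eq_false_or_eq_true (u.testBit 3) with h1 | h1 <;>
          simp [pw, h0, h1, k2, k3, a2ne] at p2e ⊢
    have hbits : ∀ n, n < 16 → n.testBit 0 = false ∧ n.testBit 1 = false → n.testBit 2 = false ∧ n.testBit 3 = false →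
        n = 0 := by decide
    exact hbits u hu b01 b23
  refine ⟨act, ι, amul, aeq, aone, fun u _ v _ => ι_mul u v, ?_, ?_, ?_, ?_, hφφ⟩
  · intro u hu v hv e
    have h1 := inj0 (u ^^^ v) (Nat.xor_lt_two_pow (n := 4) hu hv) (by rw [ι_mul, e, hsq])
    have hx : ∀ u, u < 16 → ∀ v, v < 16 → u ^^^ v = 0 → u = v := by decide
    exact hx u hu v hv h1
  · intro g hg u hu
    have hgT : ∀ v, act g (τ v) = τ (act g v) := by
      intro v
      rw [hτ, ← amul, ← amul]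
      refine aeq _ _ ?_ v
      have h1 := Eq.mul h g.2 hg.2 (Eq.refl' h (g : G))
      rwa [inv_mul_cancel_right] at h1
    have hD' : ∀ v, act g (D v) = D (act g v) := fun v => by rw [Dapp, Dapp, map_mul, hgT]
    have hran : ∃ w, ι u = D w := by
      have r1 : ∀ b, ∃ w, pw b a1 = D w := fun b => by
        cases b
        · exact ⟨1, by simp [pw]⟩
        · exact ⟨w1, rfl⟩
      have r2 : ∀ b, ∃ w, pw b (φ a1) = D w := fun b => by
        cases b
        · exact ⟨1, by simp [pw]⟩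
        · exact ⟨φ w1, (Dφ w1).symm⟩
      have r3 : ∀ b, ∃ w, pw b a2 = D w := fun b => by
        cases b
        · exact ⟨1, by simp [pw]⟩
        · exact ⟨act Cc w1, ha2D⟩
      have r4 : ∀ b, ∃ w, pw b (φ a2) = D w := fun b => by
        cases b
        · exact ⟨1, by simp [pw]⟩
        · exact ⟨φ (act Cc w1), by rw [Dφ, ← ha2D]; rfl⟩
      obtain ⟨s1, e1⟩ := r1 (u.testBit 0)
      obtain ⟨s2, e2⟩ := r2 (u.testBit 1)
      obtain ⟨s3, e3⟩ := r3 (u.testBit 2)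
      obtain ⟨s4, e4⟩ := r4 (u.testBit 3)
      exact ⟨(s1 * s2) * (s3 * s4), by simp only [ι, e1, e2, e3, e4, map_mul]⟩
    obtain ⟨w, hw⟩ := hran
    obtain ⟨n, hn, hn'⟩ := imD (act g w)
    exact ⟨n, hn, by rw [hw, hD', hn']⟩
  · refine lin φ mX ?_ ?_ ?_ ?_
    · exact ι2.symm
    · rw [hφφ]; show _ = ι 3; rw [show (3 : ℕ) = 1 ^^^ 2 from rfl, ι_mul, ι1, ι2]
    · exact ι8.symm
    · rw [hφφ]; show _ = ι 12; rw [show (12 : ℕ) = 4 ^^^ 8 from rfl, ι_mul, ι4, ι8]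
  · refine lin ψ mY ?_ ?_ ?_ ?_
    · rw [ψa1]; show _ = ι 3; rw [show (3 : ℕ) = 1 ^^^ 2 from rfl, ι_mul, ι1, ι2]
    · rw [← hc, ψa1, map_mul, hφφ]
      show _ = ι 1
      rw [ι1, mul_left_comm, hsq, mul_one]
    · rw [ψa2]; exact ι8.symm
    · rw [← hc, ψa2, hφφ]; show _ = ι 12; rw [show (12 : ℕ) = 4 ^^^ 8 from rfl, ι_mul, ι4, ι8]

/-- Three does not divide the order of the part of `Kt` outside `⟨x, y⟩`. -/
theorem Kt_three (S : Subgroup G) (hS : S ≤ h.Kt) (hp : IsPGroup 3 ↥S) (hxS : x ∈ S) (hyS : h.y ∈ S) :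
    S ≤ Subgroup.closure {x, h.y} := by
  classical
  have : Fact (Nat.Prime 3) := ⟨by norm_num⟩
  obtain ⟨T, hTC, hT27, hZx, -⟩ := sylow_three h
  have hS' : S ≤ h.H := fun s hs => (hS hs).1
  have hTH : (T : Subgroup G) ≤ h.H := fun t ht => h.C_le_H (mem_cent.mp (hTC ht))
  let TH : Sylow 3 ↥h.H := T.subtype hTH
  obtain ⟨S', hS''⟩ := (hp.comap_of_injective h.H.subtype h.H.subtype_injective :
    IsPGroup 3 ↥(S.subgroupOf h.H)).exists_le_sylow
  obtain ⟨⟨w, hw⟩, hwe⟩ := MulAction.exists_smul_eq ↥h.H TH S'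
  have hSw : ∀ s ∈ S, w⁻¹ * s * w ∈ (T : Subgroup G) := by
    intro s hs
    have h1 : (⟨s, hS' hs⟩ : ↥h.H) ∈ (S' : Subgroup ↥h.H) := hS'' hs
    rw [← hwe, Sylow.coe_subgroup_smul, Subgroup.mem_pointwise_smul_iff_inv_smul_mem] at h1
    have h2 : ((MulAut.conj (⟨w, hw⟩ : ↥h.H))⁻¹ • (⟨s, hS' hs⟩ : ↥h.H)) ∈ (T : Subgroup G).subgroupOf h.H := h1
    rw [Subgroup.mem_subgroupOf] at h2
    simpa using h2
  have hSC : ∀ s ∈ S, s * x = x * s := by
    intro s hs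
    have hwx : (w * x * w⁻¹) * x = x * (w * x * w⁻¹) := by
      have h1 := comm_conj w (mem_cent.mp (hTC (hSw x hxS))).symm
      rwa [show w * (w⁻¹ * x * w) * w⁻¹ = x by group] at h1
    have h2 := h.no_conj hw hwx
    have h1 := comm_conj w (mem_cent.mp (hTC (hSw s hs)))
    rw [show w * (w⁻¹ * s * w) * w⁻¹ = s by group] at h1
    rcases h.mem_P.mp h2 with e | e | e
    · exact absurd (conj_eq_one_iff.mp e) h.x_ne
    · rwa [e] at h1
    · rw [e] at h1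
      have := (show Commute s x⁻¹ from h1).inv_right
      rwa [inv_inv] at this
  have hSzy : ∀ s ∈ S, s * h.zy = h.zy * s := by
    intro s hs
    have hcc : (s * h.zy * s⁻¹) * x = x * (s * h.zy * s⁻¹) := by
      have h1 := comm_conj s h.zy_x
      rwa [hSC s hs, mul_inv_cancel_right] at h1
    have hsodd : Odd (orderOf s) := by
      obtain ⟨k, hk⟩ := hp ⟨s, hs⟩
      exact Odd.of_dvd_nat (Odd.pow (by decide)) (orderOf_dvd_of_pow_eq_one (congrArg Subtype.val hk))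
    rcases Eq.cent h hcc h.zy_x (hS hs).2 with e1 | e1
    · exact mul_inv_eq_iff_eq_mul.mp e1.symm
    · -- an element of odd order cannot move `zy` to `zy z`
      have e2 : s * h.zy * s⁻¹ = h.zy * h.z := by
        calc s * h.zy * s⁻¹ = s * h.zy * s⁻¹ * h.z * h.z := by rw [mul_assoc _ h.z, h.zz, mul_one]
          _ = h.zy * h.z := by rw [← e1]
      have hsz : Commute s h.z := h.z_cen (hSC s hs)
      have e3 : (s * s) * h.zy * (s * s)⁻¹ = h.zy := by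
        calc (s * s) * h.zy * (s * s)⁻¹ = s * (s * h.zy * s⁻¹) * s⁻¹ := by group
          _ = s * (h.zy * h.z) * s⁻¹ := by rw [e2]
          _ = (s * h.zy * s⁻¹) * (s * h.z * s⁻¹) := by group
          _ = h.zy := by rw [e2, hsz.eq, mul_inv_cancel_right, mul_assoc, h.zz, mul_one]
      obtain ⟨n, hn⟩ := hsodd
      have hc2 : Commute (s ^ 2) h.zy := by rw [pow_two]; exact mul_inv_eq_iff_eq_mul.mp e3
      have h4 := hc2.pow_left (n + 1)
      rw [← pow_mul, show 2 * (n + 1) = orderOf s + 1 by omega, pow_succ, pow_orderOf_eq_one, one_mul] at h4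
      exact h4.eq
  set A := Subgroup.closure ({x, h.y} : Set G) with hA
  have hSleC : S ≤ Subgroup.centralizer ({x} : Set G) := fun s hs => mem_cent.mpr (hSC s hs)
  set π' := h.π.comp (Subgroup.inclusion hSleC) with hπ'
  have hker : ∀ s : ↥S, π' s = 1 → (s : G) ∈ Subgroup.zpowers x := by
    intro s hs
    obtain ⟨k, hk⟩ := hp s
    obtain ⟨u, hu, e1 | e1⟩ := h.ker_cases hs
    · rw [show (s : G) = u from e1]; exact hu
    · exfalso
      have hzu : h.z = u⁻¹ * s := by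
        rw [show (s : G) = u * h.z from e1, inv_mul_cancel_left]
      have hzS : h.z ∈ S := hzu ▸ mul_mem (inv_mem (Subgroup.zpowers_le.mpr hxS hu)) s.2
      obtain ⟨m, hm⟩ := hp ⟨h.z, hzS⟩
      have h3 : orderOf h.z ∣ 3 ^ m := orderOf_dvd_of_pow_eq_one (congrArg Subtype.val hm)
      rw [h.orderOf_z] at h3
      exact absurd (Nat.prime_two.dvd_of_dvd_pow h3) (by norm_num)
  intro s hs
  obtain ⟨d, hd⟩ := IsPGroup.iff_card.mp (hp.of_surjective π'.rangeRestrict π'.rangeRestrict_surjective)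
  have hd2 : d ≤ 1 := by
    by_contra hlt
    have h9 : 3 ^ 2 ∣ Nat.card ↥π'.range := hd ▸ pow_dvd_pow 3 (by omega)
    obtain ⟨R, hR⟩ := Sylow.exists_subgroup_card_pow_prime 3 h9
    have hR9 : Nat.card ↥(R.map π'.range.subtype) = 9 := by
      rw [Subgroup.card_map_of_injective π'.range.subtype_injective, hR]; norm_num
    set i := h.π ⟨h.zy, mem_cent.mpr h.zy_x⟩ with hi
    have hi1 : i ≠ 1 := fun e => by
      rcases h.ker_two e (k := 1) (by rw [pow_one, sq]; exact h.zy_sq) with e1 | e1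
      · exact h.zy_ne_one e1
      · exact h.zy_ne_z e1
    have hcom : ∀ r ∈ R.map π'.range.subtype, i * r = r * i := by
      rintro _ ⟨⟨_, s', rfl⟩, -, rfl⟩
      show i * h.π _ = h.π _ * i
      rw [hi, ← map_mul, ← map_mul]
      exact congrArg h.π (Subtype.ext (hSzy s' s'.2).symm)
    obtain ⟨r, hr, hr1⟩ := (R.map π'.range.subtype).bot_or_exists_ne_one.resolve_left fun e => by
      rw [e, Subgroup.card_bot] at hR9; norm_num at hR9
    refine nine_invol hR9 (by rw [hi, ← map_mul, ← map_one h.π]; exact congrArg h.π (Subtype.ext h.zy_sq))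
      hi1 ?_ hr hr1 (hcom r hr)
    refine Subgroup.mem_normalizer_iff.mpr fun v => ⟨fun hv => ?_, fun hv => ?_⟩
    · rwa [hcom v hv, mul_inv_cancel_right]
    · have := hcom _ hv
      rw [← mul_assoc, ← mul_assoc] at this
      have hv' : i * v * i⁻¹ = v := by
        calc i * v * i⁻¹ = i⁻¹ * (i * (i * v) * i⁻¹) := by group
          _ = i⁻¹ * (i * v * i⁻¹ * i) := by rw [← mul_assoc i i v, this]
          _ = v := by group
      rwa [hv'] at hv
  have hy1 : π' ⟨h.y, hyS⟩ ≠ 1 := fun e => h.y_notP (hker _ e)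
  have hrange : π'.range = Subgroup.zpowers (π' ⟨h.y, hyS⟩) := by
    refine (Subgroup.eq_of_le_of_card_ge (Subgroup.zpowers_le.mpr (MonoidHom.mem_range.mpr ⟨_, rfl⟩)) ?_).symm
    rw [hd, Nat.card_zpowers, orderOf_eq_prime (p := 3) (by
      rw [← map_pow, show (⟨h.y, hyS⟩ : ↥S) ^ 3 = 1 from Subtype.ext h.y_pow, map_one]) hy1]
    exact le_of_le_of_eq (Nat.pow_le_pow_right (by norm_num) hd2) (pow_one 3)
  obtain ⟨n, hn⟩ := Subgroup.mem_zpowers_iff.mp (hrange ▸ ⟨⟨s, hs⟩, rfl⟩ :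
    π' ⟨s, hs⟩ ∈ Subgroup.zpowers (π' ⟨h.y, hyS⟩))
  have h1 := hker ((⟨h.y, hyS⟩ : ↥S) ^ (-n) * ⟨s, hs⟩) (by
    rw [map_mul, map_zpow, ← hn, ← zpow_add, neg_add_cancel, zpow_zero])
  have hxA : x ∈ A := Subgroup.subset_closure (by simp)
  have hyA : h.y ∈ A := Subgroup.subset_closure (by simp)
  have h2 : h.y ^ (-n) * s ∈ A := Subgroup.zpowers_le.mpr hxA (by simpa using h1)
  rw [show s = h.y ^ n * (h.y ^ (-n) * s) by group]
  exact mul_mem (zpow_mem hyA n) h2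

open GLFour in
/-- The centraliser of `zy` modulo `E` normalises `⟨x⟩`. -/
theorem zy_local {g : G} (hg : g ∈ h.Kt) : g ∈ h.N0 := by
  classical
  obtain ⟨act, ι, amul, aeq, aone, ιmul, ιinj, aimg, aX, aY, hfree⟩ := h.exists_coord
  set X : ↥h.H := ⟨x, h.x_mem_H⟩
  set Y : ↥h.H := ⟨h.y, h.y_mem_H⟩
  have ι0 : ι 0 = 1 := by
    have h1 := ιmul 0 (by norm_num) 0 (by norm_num)
    rwa [show (0 : ℕ) ^^^ 0 = 0 from rfl, left_eq_mul] at h1
  have xKt : x ∈ h.Kt := h.cent_zy_Kt h.x_mem_H h.zy_x.symm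
  have yKt : h.y ∈ h.Kt := h.cent_zy_Kt h.y_mem_H (h.zy_cen (g := h.y) rfl)
  -- the matrix of an element
  have code : ∀ k : ↥h.H, (k : G) ∈ h.Kt → ∃ F : Mat, F.1 < 16 ∧ F.2.1 < 16 ∧ F.2.2.1 < 16 ∧ F.2.2.2 < 16 ∧
      ∀ u, u < 16 → act k (ι u) = ι (app F u) := by
    intro k hk
    obtain ⟨v1, l1, e1⟩ := aimg k hk 1 (by norm_num)
    obtain ⟨v2, l2, e2⟩ := aimg k hk 2 (by norm_num)
    obtain ⟨v4, l4, e4⟩ := aimg k hk 4 (by norm_num)
    obtain ⟨v8, l8, e8⟩ := aimg k hk 8 (by norm_num)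
    refine ⟨(v1, v2, v4, v8), l1, l2, l4, l8, fun u hu => ?_⟩
    let b0 := if u % 2 == 1 then 1 else 0
    let b1 := if u / 2 % 2 == 1 then 2 else 0
    let b2 := if u / 4 % 2 == 1 then 4 else 0
    let b3 := if u / 8 % 2 == 1 then 8 else 0
    have hu' : u = (b0 ^^^ b1) ^^^ (b2 ^^^ b3) := by
      simp only [b0, b1, b2, b3]
      revert hu; revert u; decide
    have lb : b0 < 16 ∧ b1 < 16 ∧ b2 < 16 ∧ b3 < 16 := by
      simp only [b0, b1, b2, b3]
      refine ⟨?_, ?_, ?_, ?_⟩ <;> split <;> norm_num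
    have lt2 : ∀ {p q : ℕ}, p < 16 → q < 16 → p ^^^ q < 16 := fun hp hq => Nat.xor_lt_two_pow (n := 4) hp hq
    have ib : ∀ (b : Bool) n v, v < 16 → act k (ι n) = ι v →
        act k (ι (if b then n else 0)) = ι (if b then v else 0) := fun b n v _ e => by
      cases b
      · simp [ι0]
      · simpa using e
    have lv : ∀ (b : Bool) v, v < 16 → (if b then v else 0) < 16 := fun b v hv => by cases b <;> simp [hv]
    conv_lhs => rw [hu', ιmul _ (lt2 lb.1 lb.2.1) _ (lt2 lb.2.2.1 lb.2.2.2), ιmul _ lb.1 _ lb.2.1,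
      ιmul _ lb.2.2.1 _ lb.2.2.2]
    rw [map_mul, map_mul, map_mul, ib _ 1 v1 l1 e1, ib _ 2 v2 l2 e2, ib _ 4 v4 l4 e4, ib _ 8 v8 l8 e8, app,
      ιmul _ (lt2 (lv _ _ l1) (lv _ _ l2)) _ (lt2 (lv _ _ l4) (lv _ _ l8)), ιmul _ (lv _ _ l1) _ (lv _ _ l2),
      ιmul _ (lv _ _ l4) _ (lv _ _ l8)]
  have applt : ∀ {F : Mat}, F.1 < 16 → F.2.1 < 16 → F.2.2.1 < 16 → F.2.2.2 < 16 → ∀ u, app F u < 16 := by
    intro F h1 h2 h3 h4 u
    have lv : ∀ (b : Bool) v, v < 16 → (if b then v else 0) < 16 := fun b v hv => by cases b <;> simp [hv]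
    exact Nat.xor_lt_two_pow (n := 4) (Nat.xor_lt_two_pow (n := 4) (lv _ _ h1) (lv _ _ h2))
      (Nat.xor_lt_two_pow (n := 4) (lv _ _ h3) (lv _ _ h4))
  let Rep : ↥h.H → Mat → Prop := fun k F =>
    (k : G) ∈ h.Kt ∧ (F.1 < 16 ∧ F.2.1 < 16 ∧ F.2.2.1 < 16 ∧ F.2.2.2 < 16) ∧
      ∀ u, u < 16 → act k (ι u) = ι (app F u)
  have rmul : ∀ {k k' F F'}, Rep k F → Rep k' F' → Rep (k * k') (comp F F') := by
    rintro k k' F F' ⟨hk, lF, eF⟩ ⟨hk', lF', eF'⟩
    refine ⟨mul_mem hk hk', ⟨applt lF.1 lF.2.1 lF.2.2.1 lF.2.2.2 _, applt lF.1 lF.2.1 lF.2.2.1 lF.2.2.2 _,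
      applt lF.1 lF.2.1 lF.2.2.1 lF.2.2.2 _, applt lF.1 lF.2.1 lF.2.2.1 lF.2.2.2 _⟩, fun u hu => ?_⟩
    obtain ⟨F'', l1, l2, l4, l8, e''⟩ := code (k * k') (mul_mem hk hk')
    have he : ∀ w, w < 16 → app F'' w = app F (app F' w) := by
      intro w hw
      refine ιinj _ (applt l1 l2 l4 l8 w) _ (applt lF.1 lF.2.1 lF.2.2.1 lF.2.2.2 _) ?_
      rw [← e'' w hw, amul, eF' w hw, eF _ (applt lF'.1 lF'.2.1 lF'.2.2.1 lF'.2.2.2 w)]
    have hb : ∀ (F : Mat), app F 1 = F.1 ∧ app F 2 = F.2.1 ∧ app F 4 = F.2.2.1 ∧ app F 8 = F.2.2.2 := fun F => by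
      simp [app]
    have hFF : F'' = comp F F' := by
      obtain ⟨a, b, c, d⟩ := hb F''
      obtain ⟨a', b', c', d'⟩ := hb F'
      refine Prod.ext ?_ (Prod.ext ?_ (Prod.ext ?_ ?_))
      · show F''.1 = app F F'.1; rw [← a, ← a']; exact he 1 (by norm_num)
      · show F''.2.1 = app F F'.2.1; rw [← b, ← b']; exact he 2 (by norm_num)
      · show F''.2.2.1 = app F F'.2.2.1; rw [← c, ← c']; exact he 4 (by norm_num)
      · show F''.2.2.2 = app F F'.2.2.2; rw [← d, ← d']; exact he 8 (by norm_num)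
    rw [← hFF]; exact e'' u hu
  have rX : Rep X mX := ⟨xKt, by decide, aX⟩
  have rY : Rep Y mY := ⟨yKt, by decide, aY⟩
  have r1 : Rep 1 mI := ⟨one_mem _, by decide, fun u hu => by
    rw [aone]
    have : ∀ u, u < 16 → app mI u = u := by decide
    rw [this u hu]⟩
  have runiq : ∀ {k F F'}, Rep k F → Rep k F' → F = F' := by
    rintro k F F' ⟨-, lF, eF⟩ ⟨-, lF', eF'⟩
    have he : ∀ w, w < 16 → app F w = app F' w := fun w hw =>
      ιinj _ (applt lF.1 lF.2.1 lF.2.2.1 lF.2.2.2 w) _ (applt lF'.1 lF'.2.1 lF'.2.2.1 lF'.2.2.2 w)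
        (by rw [← eF w hw, eF' w hw])
    refine Prod.ext ?_ (Prod.ext ?_ (Prod.ext ?_ ?_))
    · simpa [app] using he 1 (by norm_num)
    · simpa [app] using he 2 (by norm_num)
    · simpa [app] using he 4 (by norm_num)
    · simpa [app] using he 8 (by norm_num)
  have req : ∀ {k k' : ↥h.H} {F}, h.Eq (k : G) k' → (k' : G) ∈ h.Kt → Rep k F → Rep k' F := fun e hk' ⟨_, l, eF⟩ =>
    ⟨hk', l, fun u hu => by rw [← aeq _ _ e]; exact eF u hu⟩
  -- the kernel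
  let K1 : Subgroup G :=
    { carrier := {k | ∃ hk : k ∈ h.H, Rep ⟨k, hk⟩ mI}
      one_mem' := ⟨one_mem _, r1⟩
      mul_mem' := fun {a b} ⟨ha, ra⟩ ⟨hb, rb⟩ => ⟨mul_mem ha hb, by
        have := rmul ra rb
        rwa [show comp mI mI = mI from by decide] at this⟩
      inv_mem' := fun {a} ⟨ha, ra⟩ => ⟨inv_mem ha, inv_mem ra.1, ra.2.1, fun u hu => by
        have hid : ∀ u, u < 16 → app mI u = u := by decide
        have h1 := ra.2.2 u hu
        rw [hid u hu] at h1 ⊢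
        calc act ⟨a⁻¹, inv_mem ha⟩ (ι u) = act ⟨a⁻¹, inv_mem ha⟩ (act ⟨a, ha⟩ (ι u)) := by rw [h1]
          _ = ι u := by
            rw [← amul, show (⟨a⁻¹, inv_mem ha⟩ : ↥h.H) * ⟨a, ha⟩ = 1 from Subtype.ext (inv_mul_cancel a), aone]⟩ }
  have K1conj : ∀ k ∈ h.Kt, ∀ a ∈ K1, k * a * k⁻¹ ∈ K1 := by
    rintro k hk a ⟨ha, ra⟩
    obtain ⟨F, l1, l2, l4, l8, eF⟩ := code ⟨k, hk.1⟩ hk
    obtain ⟨F', m1, m2, m4, m8, eF'⟩ := code ⟨k⁻¹, inv_mem hk.1⟩ (inv_mem hk)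
    refine ⟨mul_mem (mul_mem hk.1 ha) (inv_mem hk.1), ⟨mul_mem (mul_mem hk ra.1) (inv_mem hk),
      by decide, fun u hu => ?_⟩⟩
    have hid : ∀ u, u < 16 → app mI u = u := by decide
    rw [hid u hu, show (⟨k * a * k⁻¹, _⟩ : ↥h.H) = ⟨k, hk.1⟩ * ⟨a, ha⟩ * ⟨k⁻¹, inv_mem hk.1⟩ from rfl, amul, amul,
      eF' u hu, ra.2.2 _ (applt m1 m2 m4 m8 u), hid _ (applt m1 m2 m4 m8 u), ← eF' u hu, ← amul,
      show (⟨k, hk.1⟩ : ↥h.H) * ⟨k⁻¹, inv_mem hk.1⟩ = 1 from Subtype.ext (mul_inv_cancel k), aone]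
  have K1le : K1 ≤ h.Kt := fun k ⟨_, hk⟩ => hk.1
  -- K1 is a 3'-group
  have : Fact (Nat.Prime 3) := ⟨by norm_num⟩
  set A := Subgroup.closure ({x, h.y} : Set G) with hA
  have hAKt : A ≤ h.Kt := by
    rw [hA, Subgroup.closure_le]
    rintro a (rfl | rfl)
    exacts [xKt, yKt]
  have hAcomm : IsMulCommutative ↥A := Subgroup.isMulCommutative_closure (by
    intro a ha b hb
    simp only [Set.mem_insert_iff, Set.mem_singleton_iff] at ha hb
    rcases ha with rfl | rfl <;> rcases hb with rfl | rfl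
    exacts [rfl, h.yx.symm, h.yx, rfl])
  have hAform : ∀ a ∈ A, ∃ i j : Fin 3, a = x ^ (i : ℕ) * h.y ^ (j : ℕ) := by
    intro a ha
    have hc : Commute h.y x := h.yx
    have hnorm : ∀ {g : G} (n : ℕ), g ^ 3 = 1 → g ^ n = g ^ (n % 3) := fun n hg => by
      conv_lhs => rw [← Nat.mod_add_div n 3, pow_add, pow_mul, hg, one_pow, mul_one]
    induction ha using Subgroup.closure_induction with
    | mem a ha =>
      simp only [Set.mem_insert_iff, Set.mem_singleton_iff] at ha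
      rcases ha with rfl | rfl
      · exact ⟨1, 0, by simp⟩
      · exact ⟨0, 1, by simp⟩
    | one => exact ⟨0, 0, by simp⟩
    | mul a b _ _ iha ihb =>
      obtain ⟨i, j, rfl⟩ := iha
      obtain ⟨i', j', rfl⟩ := ihb
      refine ⟨⟨((i : ℕ) + i') % 3, Nat.mod_lt _ (by norm_num)⟩, ⟨((j : ℕ) + j') % 3, Nat.mod_lt _ (by norm_num)⟩, ?_⟩
      show _ = x ^ (((i : ℕ) + i') % 3) * h.y ^ (((j : ℕ) + j') % 3)
      rw [← hnorm _ h.x_pow, ← hnorm _ h.y_pow, pow_add, pow_add, mul_assoc, ← mul_assoc (h.y ^ (j : ℕ)),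
        (hc.pow_pow _ _).eq]
      simp only [mul_assoc]
    | inv a _ iha =>
      obtain ⟨i, j, rfl⟩ := iha
      refine ⟨⟨(2 * (i : ℕ)) % 3, Nat.mod_lt _ (by norm_num)⟩, ⟨(2 * (j : ℕ)) % 3, Nat.mod_lt _ (by norm_num)⟩, ?_⟩
      show _ = x ^ ((2 * (i : ℕ)) % 3) * h.y ^ ((2 * (j : ℕ)) % 3)
      rw [← hnorm _ h.x_pow, ← hnorm _ h.y_pow]
      refine inv_eq_of_mul_eq_one_right ?_
      calc x ^ (i : ℕ) * h.y ^ (j : ℕ) * (x ^ (2 * (i : ℕ)) * h.y ^ (2 * (j : ℕ)))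
          = x ^ (i : ℕ) * x ^ (2 * (i : ℕ)) * (h.y ^ (j : ℕ) * h.y ^ (2 * (j : ℕ))) := by
            rw [mul_assoc, ← mul_assoc (h.y ^ (j : ℕ)), (hc.pow_pow _ _).eq]; simp only [mul_assoc]
        _ = 1 := by
          rw [← pow_add, ← pow_add, show (i : ℕ) + 2 * i = 3 * i by ring, show (j : ℕ) + 2 * j = 3 * j by ring,
            pow_mul, pow_mul, h.x_pow, h.y_pow, one_pow, one_pow, one_mul]
  have hA3 : ∀ a ∈ A, a ^ 3 = 1 := by
    intro a ha
    obtain ⟨i, j, rfl⟩ := hAform a ha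
    rw [((show Commute x h.y from h.yx.symm).pow_pow _ _).mul_pow, ← pow_mul, mul_comm, pow_mul, h.x_pow, one_pow,
      ← pow_mul, mul_comm (j : ℕ), pow_mul, h.y_pow, one_pow, one_mul]
  have hAK1 : ∀ a ∈ A, a ∈ K1 → a = 1 := by
    intro a ha ⟨hk, ra⟩
    obtain ⟨i, j, rfl⟩ := hAform a ha
    have hpow : ∀ (k : ↥h.H) F, Rep k F → ∀ n : ℕ, Rep (k ^ n) (((comp F)^[n]) mI) := by
      intro k F hk n
      induction n with
      | zero => rw [pow_zero, Function.iterate_zero_apply]; exact r1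
      | succ n ih => rw [pow_succ', Function.iterate_succ_apply']; exact rmul hk ih
    have hr := rmul (hpow X mX rX i) (hpow Y mY rY j)
    have hu := runiq (k := X ^ (i : ℕ) * Y ^ (j : ℕ)) hr ra
    have key : ∀ i j : Fin 3, comp (((comp mX)^[(i : ℕ)]) mI) (((comp mY)^[(j : ℕ)]) mI) = mI → i = 0 ∧ j = 0 := by
      decide
    obtain ⟨rfl, rfl⟩ := key i j hu
    simp
  have hcop : ¬ 3 ∣ Nat.card ↥K1 := by
    intro h3
    obtain ⟨⟨k, hk⟩, hko⟩ := exists_prime_orderOf_dvd_card' 3 h3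
    rw [← Subgroup.orderOf_coe] at hko
    have hp : IsPGroup 3 ↥(A.subgroupOf h.Kt) := fun a => ⟨1, Subtype.ext (Subtype.ext (by
      simpa using hA3 _ a.2))⟩
    obtain ⟨S, hS⟩ := hp.exists_le_sylow
    have hpk : IsPGroup 3 ↥(Subgroup.zpowers (⟨k, K1le hk⟩ : ↥h.Kt)) := IsPGroup.of_card (n := 1)
      (by rw [Nat.card_zpowers, ← Subgroup.orderOf_coe, pow_one]; exact hko)
    obtain ⟨S', hS'⟩ := hpk.exists_le_sylow
    obtain ⟨⟨w, hw⟩, hwe⟩ := MulAction.exists_smul_eq ↥h.Kt S S'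
    have h1 := hS' (Subgroup.mem_zpowers _)
    rw [← hwe, Sylow.coe_subgroup_smul, Subgroup.mem_pointwise_smul_iff_inv_smul_mem] at h1
    have h2 : w⁻¹ * k * w ∈ ((S : Subgroup ↥h.Kt).map h.Kt.subtype) := ⟨_, h1, by simp⟩
    have hSA := h.Kt_three _ (Subgroup.map_subtype_le _) (S.2.map h.Kt.subtype)
      ⟨⟨x, xKt⟩, hS (Subgroup.mem_subgroupOf.mpr (Subgroup.subset_closure (by simp))), rfl⟩
      ⟨⟨h.y, yKt⟩, hS (Subgroup.mem_subgroupOf.mpr (Subgroup.subset_closure (by simp))), rfl⟩ h2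
    have hk1 := hAK1 _ hSA (by
      have := K1conj w⁻¹ (inv_mem hw) k hk
      rwa [inv_inv] at this)
    have hk0 : k = 1 := by
      calc k = w * (w⁻¹ * k * w) * w⁻¹ := by group
        _ = 1 := by rw [hk1]; group
    subst hk0
    rw [orderOf_one] at hko
    norm_num at hko
  -- K1 normalises ⟨x⟩
  have hK1N : K1 ≤ h.N0 := by
    have hAK : A ≤ Subgroup.normalizer (K1 : Set G) := fun a ha => Subgroup.mem_normalizer_iff.mpr fun v =>
      ⟨K1conj a (hAKt ha) v, fun hv => by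
        have := K1conj a⁻¹ (inv_mem (hAKt ha)) _ hv
        rwa [show a⁻¹ * (a * v * a⁻¹) * a⁻¹⁻¹ = v by group] at this⟩
    have hAp : IsPGroup 3 ↥A := fun a => ⟨1, Subtype.ext (by simpa using hA3 _ a.2)⟩
    have hco : (Nat.card ↥A).Coprime (Nat.card ↥K1) := by
      obtain ⟨n, hn⟩ := IsPGroup.iff_card.mp hAp
      rw [hn]
      exact Nat.Coprime.pow_left _ ((Nat.prime_three.coprime_iff_not_dvd).mpr hcop)
    have hncyc : ¬ IsCyclic ↥A := by
      intro hcyc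
      obtain ⟨⟨g, hgA⟩, hg⟩ := hcyc.exists_generator
      have ho : orderOf g ∣ 3 := orderOf_dvd_of_pow_eq_one (hA3 g hgA)
      obtain ⟨n, hn⟩ := Subgroup.mem_zpowers_iff.mp (hg ⟨x, Subgroup.subset_closure (by simp)⟩)
      obtain ⟨m, hm⟩ := Subgroup.mem_zpowers_iff.mp (hg ⟨h.y, Subgroup.subset_closure (by simp)⟩)
      have hn' : g ^ n = x := congrArg Subtype.val hn
      have hm' : g ^ m = h.y := congrArg Subtype.val hm
      have he : Subgroup.zpowers x = Subgroup.zpowers g := by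
        refine Subgroup.eq_of_le_of_card_ge (Subgroup.zpowers_le.mpr (hn' ▸ zpow_mem (Subgroup.mem_zpowers g) n)) ?_
        rw [Nat.card_zpowers, Nat.card_zpowers, h.ord]
        exact Nat.le_of_dvd (by norm_num) ho
      exact h.y_notP (he ▸ hm' ▸ zpow_mem (Subgroup.mem_zpowers g) m)
    rw [← CfsgLib.coprime_generated_by_centralizers (A := A) (K := K1) hncyc hAK hco]
    refine iSup₂_le fun a ⟨ha, ha1⟩ => ?_
    intro k ⟨hk, hka⟩
    have hkH : k ∈ h.H := hk.1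
    have hac : a * x = x * a := congrArg Subtype.val
      (mul_comm' (⟨a, ha⟩ : ↥A) ⟨x, Subgroup.subset_closure (by simp)⟩)
    by_cases haP : a ∈ Subgroup.zpowers x
    · rcases h.mem_P.mp haP with e | e | e
      · exact absurd e ha1
      · exact h.C_le_N0 (by rw [← e]; exact mem_cent.mp hka)
      · refine h.C_le_N0 ?_
        have := (show Commute k a from mem_cent.mp hka).inv_right
        rw [e, inv_inv] at this
        exact this.eq
    · obtain ⟨c, hc, e⟩ := h.three_conj h.yx h.y_pow h.y_notP hac (hA3 a ha) haP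
      have hcN := h.C_le_N0 hc
      have h1 : c⁻¹ * k * c ∈ h.N0 := by
        refine ⟨mul_mem (mul_mem (inv_mem hcN.1) hkH) hcN.1, h.y_local (mul_mem (mul_mem (inv_mem hcN.1) hkH) hcN.1) ?_⟩
        have h2 := comm_conj' c (mem_cent.mp hka)
        rw [← e, show c⁻¹ * (c * h.y * c⁻¹) * c = h.y by group] at h2
        rw [h2, mul_inv_cancel_right]
        exact Eq.refl' h _
      rw [show k = c * (c⁻¹ * k * c) * c⁻¹ by group]
      exact mul_mem (mul_mem hcN h1) (inv_mem hcN)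
  -- equal matrices
  have sameN : ∀ {a b : ↥h.H} {F}, Rep a F → Rep b F → (b : G) ∈ h.N0 → (a : G) ∈ h.N0 := by
    intro a b F ra rb hb
    have hk : (b : G)⁻¹ * a ∈ K1 := by
      refine ⟨mul_mem (inv_mem b.2) a.2, mul_mem (inv_mem rb.1) ra.1, by decide, fun u hu => ?_⟩
      have hid : ∀ u, u < 16 → app mI u = u := by decide
      rw [hid u hu, show (⟨(b : G)⁻¹ * a, _⟩ : ↥h.H) = b⁻¹ * a from rfl, amul, ra.2.2 u hu, ← rb.2.2 u hu, ← amul,
        inv_mul_cancel, aone]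
    have := mul_mem hb (hK1N hk)
    rwa [mul_inv_cancel_left] at this
  -- elements of order three normalising ⟨x⟩ centralise it
  have threeN : ∀ {s : G}, s ∈ h.N0 → s ^ 3 = 1 → ∃ c, c * x = x * c ∧ h.Eq s c := by
    intro s hs hs3
    refine h.lift_cent hs.1 (hs.2.resolve_right fun e => ?_)
    have hnat : ∀ k : ℕ, h.Eq (s ^ k * x * (s ^ k)⁻¹) (if k % 2 = 0 then x else x⁻¹) := by
      intro k
      induction k with
      | zero => simpa using Eq.refl' h x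
      | succ k ih =>
        have h1 := Eq.conj h hs.1 ih
        rw [show s * (s ^ k * x * (s ^ k)⁻¹) * s⁻¹ = s ^ (k + 1) * x * (s ^ (k + 1))⁻¹ by
          rw [pow_succ']; group] at h1
        refine Eq.trans' h h1 ?_
        by_cases hk : k % 2 = 0
        · rw [if_pos hk, if_neg (by omega)]; exact e
        · rw [if_neg hk, if_pos (by omega)]
          show (s * x⁻¹ * s⁻¹)⁻¹ * x ∈ h.E
          have h2 := h.E_conj (mul_mem (mul_mem hs.1 h.x_mem_H) (inv_mem hs.1)) (inv_mem e)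
          rwa [show s * x * s⁻¹ * ((s * x * s⁻¹)⁻¹ * x⁻¹)⁻¹ * (s * x * s⁻¹)⁻¹ = (s * x⁻¹ * s⁻¹)⁻¹ * x by
            group] at h2
    have h3 := hnat 3
    rw [hs3, one_mul, inv_one, mul_one] at h3
    have h4 : x⁻¹ * x⁻¹ ∈ h.E := h3
    rw [← mul_inv_rev, inv_mem_iff, ← h.x_inv, inv_mem_iff] at h4
    exact h.x_not_mem_E h4
  -- conjugates of x in N0
  have conjN : ∀ {w : ↥h.H}, (w : G) ∈ h.Kt → (w : G) * x * (w : G)⁻¹ ∈ h.N0 →
      (w : G) ∈ h.N0 ∧ (Rep (w * X * w⁻¹) mX ∨ Rep (w * X * w⁻¹) mX2) := by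
    intro w hwK hw
    obtain ⟨c, hc, e⟩ := threeN hw (by rw [conj_pow, h.x_pow, mul_one, mul_inv_cancel])
    have hh := h.isolated w.2 hc e
    refine ⟨⟨w.2, hh⟩, ?_⟩
    rcases hh with e1 | e1
    · exact Or.inl (req (k := X) (Eq.symm' h e1) (mul_mem (mul_mem hwK xKt) (inv_mem hwK)) rX)
    · refine Or.inr (req (k := X * X) ?_ (mul_mem (mul_mem hwK xKt) (inv_mem hwK)) (rmul rX rX))
      show h.Eq (x * x) _
      rw [← h.x_inv]
      exact Eq.symm' h e1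
  set W : ↥h.H := ⟨g, hg.1⟩
  set p : ↥h.H := W * X * W⁻¹ with hp
  have hpK : (p : G) ∈ h.Kt := mul_mem (mul_mem hg xKt) (inv_mem hg)
  obtain ⟨F, l1, l2, l4, l8, eF⟩ := code p hpK
  have rp : Rep p F := ⟨hpK, ⟨l1, l2, l4, l8⟩, eF⟩
  have hfreeF : free F = true := by
    have key : ∀ u, u < 16 → app F (app F u) = u ^^^ app F u := by
      intro u hu
      refine ιinj _ (applt l1 l2 l4 l8 _) _ (Nat.xor_lt_two_pow (n := 4) hu (applt l1 l2 l4 l8 _)) ?_
      rw [ιmul _ hu _ (applt l1 l2 l4 l8 _), ← eF _ (applt l1 l2 l4 l8 _), ← eF u hu, hp, amul, amul]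
      conv_lhs => rw [amul, amul]
      rw [← amul W⁻¹ W, inv_mul_cancel, aone, hfree, map_mul, ← amul W W⁻¹, mul_inv_cancel, aone]
      simp only [amul]
    have hb : app F 1 = F.1 ∧ app F 2 = F.2.1 ∧ app F 4 = F.2.2.1 ∧ app F 8 = F.2.2.2 := by simp [app]
    have k1 := key 1 (by norm_num)
    have k2 := key 2 (by norm_num)
    have k4 := key 4 (by norm_num)
    have k8 := key 8 (by norm_num)
    rw [hb.1] at k1; rw [hb.2.1] at k2; rw [hb.2.2.1] at k4; rw [hb.2.2.2] at k8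
    simp [free, k1, k2, k4, k8]
  rcases GLFour.witness l1 l2 l4 l8 hfreeF with e | e | ⟨gm, hgm, hgood⟩
  · exact (conjN hg (sameN rp (b := X) (e ▸ rX) (h.C_le_N0 rfl))).1
  · exact (conjN hg (sameN rp (b := X * X) (e ▸ rmul rX rX) (mul_mem (h.C_le_N0 rfl) (h.C_le_N0 rfl)))).1
  exfalso
  obtain ⟨w, rw'⟩ : ∃ w : ↥h.H, Rep w gm := by
    simp only [wordsOf, List.mem_cons, List.not_mem_nil, or_false] at hgm
    rcases hgm with e | e | e | e | e <;> rw [e]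
    exacts [⟨_, r1⟩, ⟨_, rp⟩, ⟨_, rmul rp rY⟩, ⟨_, rmul rp (rmul rY rY)⟩, ⟨_, rmul rp (rmul rY (rmul rp rY))⟩]
  have cancel : ∀ {k a : ↥h.H} {Fa F1}, Rep a Fa → (k : G) ∈ h.Kt → Rep (w * k) F1 →
      F1 = comp Fa gm → Rep (w * k * w⁻¹) Fa := by
    intro k a Fa F1 ra hk rk e
    have h2 := rmul ra rw'
    rw [← e] at h2
    refine ⟨mul_mem (mul_mem rw'.1 hk) (inv_mem rw'.1), ra.2.1, fun u hu => ?_⟩
    obtain ⟨v, hv, ev⟩ := aimg w⁻¹ (inv_mem rw'.1) u hu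
    rw [amul, ev, rk.2.2 v hv, ← h2.2.2 v hv, amul, ← ev, ← amul w w⁻¹, mul_inv_cancel, aone, ra.2.2 u hu]
  have clash : ∀ {v : ↥h.H} {a : ↥h.H} {Fa}, Rep a Fa → (a : G) ∈ h.N0 → Fa ≠ mX → Fa ≠ mX2 →
      Rep (v * X * v⁻¹) Fa → (v : G) ∈ h.Kt → False := by
    intro v a Fa ra ha n1 n2 rv hv
    rcases (conjN hv (sameN rv ra ha)).2 with e | e
    · exact n1 (runiq rv e)
    · exact n2 (runiq rv e)
  have hYN : h.y ∈ h.N0 := h.C_le_N0 h.yx
  have hkp : w * p * w⁻¹ = (w * W) * X * (w * W)⁻¹ := by rw [hp]; group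
  simp only [GLFour.good, Bool.or_eq_true, Bool.and_eq_true, beq_iff_eq, bne_iff_ne] at hgood
  rcases hgood with (((e | e) | e) | e) | ⟨⟨e, n1⟩, n2⟩
  · exact clash rY hYN (by decide) (by decide) (cancel rY xKt (rmul rw' rX) e) rw'.1
  · exact clash (rmul rY rY) (mul_mem hYN hYN) (by decide) (by decide) (cancel (rmul rY rY) xKt (rmul rw' rX) e) rw'.1
  · exact clash rY hYN (by decide) (by decide) (hkp ▸ cancel rY hpK (rmul rw' rp) e) (mul_mem rw'.1 hg)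
  · exact clash (rmul rY rY) (mul_mem hYN hYN) (by decide) (by decide)
      (hkp ▸ cancel (rmul rY rY) hpK (rmul rw' rp) e) (mul_mem rw'.1 hg)
  · have rwy := cancel rY yKt (rmul rw' rY) e
    have hwy : (w : G) * h.y * (w : G)⁻¹ ∈ h.N0 := sameN rwy rY hYN
    obtain ⟨c, hc, ec⟩ := threeN hwy (by rw [conj_pow, h.y_pow, mul_one, mul_inv_cancel])
    have hm : (w : G) * h.y * (w : G)⁻¹ ∈ h.H := hwy.1
    have h3 : h.Eq 1 (c ^ 3) := by
      have : ((w : G) * h.y * (w : G)⁻¹) ^ 3 = 1 := by rw [conj_pow, h.y_pow, mul_one, mul_inv_cancel]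
      rw [← this, pow_succ, pow_two, pow_succ c, pow_two]
      exact Eq.mul h hm (Eq.mul h hm ec ec) ec
    obtain ⟨c', hc', hc'3, hcc⟩ := h.lift_three hc (Eq.symm' h h3)
    have ec' : h.Eq ((w : G) * h.y * (w : G)⁻¹) c' := Eq.trans' h ec (Eq.symm' h hcc)
    have hP : c' ∉ Subgroup.zpowers x := by
      intro hP
      have rc : ∀ {k : ↥h.H} {Fk}, Rep k Fk → h.Eq (k : G) ((w : G) * h.y * (w : G)⁻¹) → Fk = mY := fun rk ek =>
        runiq (req ek (mul_mem (mul_mem rw'.1 yKt) (inv_mem rw'.1)) rk) rwy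
      rcases h.mem_P.mp hP with e1 | e1 | e1 <;> rw [e1] at ec'
      · exact absurd (rc r1 (Eq.symm' h ec')) (by decide)
      · exact absurd (rc rX (Eq.symm' h ec')) (by decide)
      · rw [h.x_inv] at ec'
        exact absurd (rc (rmul rX rX) (Eq.symm' h ec')) (by decide)
    obtain ⟨d, hd, ed⟩ := h.three_conj h.yx h.y_pow h.y_notP hc' hc'3 hP
    have hdN := h.C_le_N0 hd
    have hd' : d⁻¹ * w ∈ h.N0 := by
      have hm' : d⁻¹ * w ∈ h.H := mul_mem (inv_mem hdN.1) w.2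
      refine ⟨hm', h.y_local hm' ?_⟩
      have h1 := Eq.conj h (inv_mem hdN.1) ec'
      rw [← ed] at h1
      rwa [show d⁻¹ * ((w : G) * h.y * (w : G)⁻¹) * d⁻¹⁻¹ = d⁻¹ * w * h.y * (d⁻¹ * w)⁻¹ by group,
        show d⁻¹ * (d * h.y * d⁻¹) * d⁻¹⁻¹ = h.y by group] at h1
    have hwN : (w : G) ∈ h.N0 := by
      have := mul_mem hdN hd'
      rwa [mul_inv_cancel_left] at this
    rcases (conjN rw'.1 (mul_mem (mul_mem hwN (h.C_le_N0 rfl)) (inv_mem hwN))).2 with e1 | e1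
    · refine n1 (runiq (k := w * X) (rmul rw' rX) ?_)
      have := rmul e1 rw'
      rwa [inv_mul_cancel_right] at this
    · refine n2 (runiq (k := w * X) (rmul rw' rX) ?_)
      have := rmul e1 rw'
      rwa [inv_mul_cancel_right] at this

end Hyp

end CfsgLib.JankoSix
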