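/-
The centraliser of the central involution has the shape required of a group of Janko-four type.
-/
import Cfsg.Agent.Lib.JankoSix.Invol
import Cfsg.Agent.Lib.JankoSix.Fusion

set_option autoImplicit false
set_option linter.unusedSectionVars false

namespace CfsgLib.JankoSix

open Cfsg CfsgLib.JankoFour
open scoped Pointwise

local notation "M" => MTwoTwo

variable {G : Type*} [Group G] [Finite G] {x : G} (h : Hyp x)

/-- The quotient of `C(z)` by its 2-core. -/
abbrev Hyp.Q : Type _ := ↥h.H ⧸ pCore 2 ↥h.H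

/-- The image of `x` there. -/
noncomputable def Hyp.xbar : h.Q := QuotientGroup.mk' _ ⟨x, h.x_mem_H⟩

namespace Hyp

include h

theorem q_eq (a b : ↥h.H) :
    QuotientGroup.mk' (pCore 2 ↥h.H) a = QuotientGroup.mk' (pCore 2 ↥h.H) b ↔ h.Eq (a : G) b := by
  rw [QuotientGroup.mk'_apply, QuotientGroup.mk'_apply, QuotientGroup.eq]
  constructor
  · intro hm; exact ⟨a⁻¹ * b, hm, rfl⟩
  · rintro ⟨v, hv, e⟩
    rwa [show a⁻¹ * b = v from Subtype.ext e.symm]

theorem q_eq' {a b : G} (ha : a ∈ h.H) (hb : b ∈ h.H) :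
    (QuotientGroup.mk' (pCore 2 ↥h.H) ⟨a, ha⟩ = QuotientGroup.mk' (pCore 2 ↥h.H) ⟨b, hb⟩) ↔ h.Eq a b :=
  h.q_eq _ _

theorem exists_core : Nonempty (Core h.xbar) := by
  classical
  set q := QuotientGroup.mk' (pCore 2 ↥h.H) with hq
  have qsurj : Function.Surjective q := QuotientGroup.mk'_surjective _
  set C := Subgroup.centralizer ({x} : Set G) with hC
  set D := Subgroup.centralizer ({h.xbar} : Set h.Q) with hD
  have hCH : C ≤ h.H := fun c hc => h.C_le_H (mem_cent.mp hc)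
  have hzP : ∀ n : ℤ, (⟨x, h.x_mem_H⟩ : ↥h.H) ^ n = ⟨x ^ n, zpow_mem h.x_mem_H n⟩ := fun n =>
    Subtype.ext (by simp)
  have hmemD : ∀ c : ↥C, q (Subgroup.inclusion hCH c) ∈ D := fun c => by
    rw [mem_cent, Hyp.xbar, ← hq, ← map_mul, ← map_mul]
    exact congrArg q (Subtype.ext (mem_cent.mp c.2))
  let f : ↥C →* ↥D := (q.comp (Subgroup.inclusion hCH)).codRestrict D hmemD
  have fsurj : Function.Surjective f := by
    rintro ⟨d, hd⟩
    obtain ⟨g, rfl⟩ := qsurj d
    rw [mem_cent, Hyp.xbar, ← hq, ← map_mul, ← map_mul, h.q_eq] at hd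
    obtain ⟨c, hc, e⟩ := h.lift_cent g.2 (by
      have h1 := Eq.mul h (inv_mem g.2) hd (Eq.refl' h (g : G)⁻¹)
      simpa [mul_assoc] using h1)
    exact ⟨⟨c, mem_cent.mpr hc⟩, Subtype.ext ((h.q_eq' (hCH (mem_cent.mpr hc)) g.2).mpr (Eq.symm' h e))⟩
  have hfker : f.ker ≤ h.π.ker := by
    intro c hc
    have h1 : h.Eq (1 : G) c := (h.q_eq 1 (Subgroup.inclusion hCH c)).mp
      (by rw [map_one]; exact (congrArg Subtype.val (MonoidHom.mem_ker.mp hc)).symm)
    rw [MonoidHom.mem_ker]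
    rcases Eq.cent h (by rw [one_mul, mul_one]) (mem_cent.mp c.2) h1 with e | e
    · rw [show c = 1 from Subtype.ext e, map_one]
    · rw [show c = ⟨h.z, mem_cent.mpr h.zx⟩ from Subtype.ext (by rw [e, one_mul]), h.π_z]
  let π' : ↥D →* M := MonoidHom.liftOfSurjective f fsurj ⟨h.π, hfker⟩
  have πapp : ∀ c, π' (f c) = h.π c := fun c => MonoidHom.liftOfRightInverse_comp_apply f _ _ ⟨h.π, hfker⟩ c
  have hxpow : ∀ n : ℤ, h.xbar ^ n = q ⟨x ^ n, zpow_mem h.x_mem_H n⟩ := fun n => by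
    rw [Hyp.xbar, ← hq, ← map_zpow, hzP]
  have hord : orderOf h.xbar = 3 := by
    have : Fact (Nat.Prime 3) := ⟨by norm_num⟩
    refine orderOf_eq_prime ?_ ?_
    · rw [Hyp.xbar, ← map_pow, show (⟨x, h.x_mem_H⟩ : ↥h.H) ^ 3 = 1 from Subtype.ext h.x_pow, map_one]
    · intro e
      rw [Hyp.xbar, ← map_one q, h.q_eq] at e
      refine h.x_not_mem_E ?_
      have := h.E.inv_mem e
      simpa using this
  have hker : ∀ d : ↥D, π' d = 1 ↔ (d : h.Q) ∈ Subgroup.zpowers h.xbar := by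
    intro d
    obtain ⟨c, rfl⟩ := fsurj d
    rw [πapp]
    constructor
    · intro hc
      obtain ⟨s, hs, e⟩ := h.ker_cases hc
      obtain ⟨n, rfl⟩ := Subgroup.mem_zpowers_iff.mp hs
      refine Subgroup.mem_zpowers_iff.mpr ⟨n, ?_⟩
      rw [hxpow]
      refine (h.q_eq' (zpow_mem h.x_mem_H n) (hCH c.2)).mpr ?_
      show (x ^ n)⁻¹ * (c : G) ∈ h.E
      rcases e with e | e <;> rw [e]
      · rw [inv_mul_cancel]; exact one_mem _
      · rw [inv_mul_cancel_left]; exact h.z_mem_E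
    · intro hd
      obtain ⟨n, hn⟩ := Subgroup.mem_zpowers_iff.mp hd
      rw [hxpow] at hn
      have e := (h.q_eq' (zpow_mem h.x_mem_H n) (hCH c.2)).mp hn
      have hxn : h.π ⟨x ^ n, mem_cent.mpr (Commute.zpow_self x n).eq⟩ = 1 := by
        rw [show (⟨x ^ n, mem_cent.mpr (Commute.zpow_self x n).eq⟩ : ↥C) = (⟨x, mem_cent.mpr rfl⟩ : ↥C) ^ n from
          Subtype.ext (by simp), map_zpow, h.π_x, one_zpow]
      rcases Eq.cent h (Commute.zpow_self x n).eq (mem_cent.mp c.2) e with e1 | e1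
      · rw [show c = ⟨x ^ n, mem_cent.mpr (Commute.zpow_self x n).eq⟩ from Subtype.ext e1, hxn]
      · rw [show c = ⟨x ^ n, mem_cent.mpr (Commute.zpow_self x n).eq⟩ * ⟨h.z, mem_cent.mpr h.zx⟩ from
          Subtype.ext e1, map_mul, hxn, h.π_z, one_mul]
  -- from the normaliser in `G` to the quotient
  have toQ : ∀ g : ↥h.H, (g : G) ∈ h.N0 → q g * h.xbar * (q g)⁻¹ = h.xbar ∨ q g * h.xbar * (q g)⁻¹ = h.xbar⁻¹ := by
    intro g hg
    simp only [Hyp.xbar, ← hq, ← map_inv, ← map_mul]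
    exact hg.2.imp (h.q_eq _ _).mpr (h.q_eq _ _).mpr
  -- elements centralising an element of `C(x)` modulo `E`
  have moved : ∀ {c d w : G}, c * x = x * c → d * x = x * d → h.Eq (d * w * d⁻¹) c →
      (∀ g, g ∈ h.H → h.Eq (g * w * g⁻¹) w → g ∈ h.N0) →
      ∀ g, g ∈ h.H → h.Eq (g * c * g⁻¹) c → g ∈ h.N0 := by
    intro c d w hc hd hdw hw g hg e
    have hdH := h.C_le_H hd
    have h1 : h.Eq (g * (d * w * d⁻¹) * g⁻¹) (d * w * d⁻¹) :=
      Eq.trans' h (Eq.trans' h (Eq.conj h hg hdw) e) (Eq.symm' h hdw)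
    have h2 := Eq.conj h (inv_mem hdH) h1
    rw [show d⁻¹ * (g * (d * w * d⁻¹) * g⁻¹) * d⁻¹⁻¹ = (d⁻¹ * g * d) * w * (d⁻¹ * g * d)⁻¹ by group,
      show d⁻¹ * (d * w * d⁻¹) * d⁻¹⁻¹ = w by group] at h2
    have h3 := hw _ (mul_mem (mul_mem (inv_mem hdH) hg) hdH) h2
    have hdN := h.C_le_N0 hd
    rw [show g = d * (d⁻¹ * g * d) * d⁻¹ by group]
    exact mul_mem (mul_mem hdN h3) (inv_mem hdN)
  refine ⟨{ ord := hord, π := π', surj := ?_, ker := hker, perf := ?_, inv := ?_, iso := ?_, three := ?_, invol := ?_ }⟩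
  · intro m
    obtain ⟨c, rfl⟩ := h.π_surj m
    exact ⟨f c, πapp c⟩
  · have htop : (⊤ : Subgroup ↥C).map f = ⊤ := Subgroup.map_top_of_surjective f fsurj
    rw [← htop, ← Subgroup.map_commutator, h.perf, htop]
  · obtain ⟨n, hn, hnz⟩ := h.exists_inv
    refine ⟨q ⟨n, h.mem_H.mpr hnz⟩, ?_⟩
    rw [Hyp.xbar, ← hq, ← map_inv, ← map_inv, ← map_mul, ← map_mul]
    exact congrArg q (Subtype.ext hn)
  · intro a ha
    obtain ⟨g, rfl⟩ := qsurj a
    obtain ⟨c, hc⟩ := fsurj ⟨q g * h.xbar * (q g)⁻¹, mem_cent.mpr ha⟩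
    have e0 : q (g * ⟨x, h.x_mem_H⟩ * g⁻¹) = q (Subgroup.inclusion hCH c) := by
      rw [map_mul, map_mul, map_inv]
      exact (congrArg Subtype.val hc).symm
    exact toQ g ⟨g.2, h.isolated g.2 (mem_cent.mp c.2) ((h.q_eq _ _).mp e0)⟩
  · intro d hd hd3 hdP a ha
    obtain ⟨g, rfl⟩ := qsurj a
    obtain ⟨c, hc⟩ := fsurj ⟨d, mem_cent.mpr hd⟩
    have hcd : q (Subgroup.inclusion hCH c) = d := congrArg Subtype.val hc
    subst hcd
    have h3 : h.Eq ((c : G) ^ 3) 1 := by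
      have := (h.q_eq ((Subgroup.inclusion hCH c) ^ 3) 1).mp (by rw [map_pow, map_one]; exact hd3)
      simpa using this
    obtain ⟨c', hc', hc'3, hcc⟩ := h.lift_three (mem_cent.mp c.2) h3
    have hc'P : c' ∉ Subgroup.zpowers x := by
      intro hP
      obtain ⟨n, hn⟩ := Subgroup.mem_zpowers_iff.mp hP
      refine hdP (Subgroup.mem_zpowers_iff.mpr ⟨n, ?_⟩)
      rw [hxpow]
      exact (h.q_eq' (zpow_mem h.x_mem_H n) (hCH c.2)).mpr (hn.symm ▸ hcc)
    obtain ⟨d, hd', ed⟩ := h.three_conj h.yx h.y_pow h.y_notP hc' hc'3 hc'P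
    refine toQ g (moved (mem_cent.mp c.2) hd' (ed.symm ▸ hcc) (fun g hg e => ⟨hg, h.y_local hg e⟩) g g.2 ?_)
    rw [← map_mul, ← map_mul, h.q_eq] at ha
    have h1 := Eq.mul h (inv_mem g.2) ha (Eq.refl' h (g : G)⁻¹)
    simpa [mul_assoc] using h1
  · intro t ht htt ht1 a ha
    obtain ⟨g, rfl⟩ := qsurj a
    obtain ⟨c, hc⟩ := fsurj ⟨t, mem_cent.mpr ht⟩
    have hct : q (Subgroup.inclusion hCH c) = t := congrArg Subtype.val hc
    subst hct
    set i := h.π ⟨h.zy, mem_cent.mpr h.zy_x⟩ with hi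
    have hi2 : i * i = 1 := by
      rw [hi, ← map_mul, ← map_one h.π]; exact congrArg h.π (Subtype.ext h.zy_sq)
    have hi1 : i ≠ 1 := fun e => by
      rcases h.ker_two e (k := 1) (by rw [pow_one, sq]; exact h.zy_sq) with e1 | e1
      · exact h.zy_ne_one e1
      · exact h.zy_ne_z e1
    -- powers of `x` squaring to one
    have xsq : ∀ n : ℤ, h.xbar ^ n * h.xbar ^ n = 1 → h.xbar ^ n = 1 := by
      intro n e
      have e3 : (h.xbar ^ n) ^ 3 = 1 := by
        rw [← zpow_natCast, ← zpow_mul, mul_comm, zpow_mul, zpow_natCast, ← hord, pow_orderOf_eq_one, one_zpow]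
      rwa [pow_succ, pow_two, e, one_mul] at e3
    have hm2 : h.π c * h.π c = 1 := by
      rw [← πapp, ← map_mul, ← map_one π']
      exact congrArg π' (Subtype.ext htt)
    have hm1 : h.π c ≠ 1 := fun e => by
      obtain ⟨n, hn⟩ := Subgroup.mem_zpowers_iff.mp ((hker (f c)).mp ((πapp c).trans e))
      have hn' : h.xbar ^ n = q (Subgroup.inclusion hCH c) := hn
      refine ht1 ?_
      rw [← hn']
      exact xsq n (by rw [hn']; exact htt)
    obtain ⟨k1, e1⟩ := invol_conj hi2 hi1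
    obtain ⟨k2, e2⟩ := invol_conj hm2 hm1
    obtain ⟨d, hd⟩ := h.π_surj (k2 * k1⁻¹)
    set w : ↥C := d * ⟨h.zy, mem_cent.mpr h.zy_x⟩ * d⁻¹ with hw
    have hw1 : h.π (w⁻¹ * c) = 1 := by
      rw [map_mul, map_inv, hw, map_mul, map_mul, map_inv, ← hi, hd, inv_mul_eq_one, ← e1, ← e2]
      group
    have hcw : (d : G) * h.zy * (d : G)⁻¹ = (w : G) := by simp [hw]
    obtain ⟨n, hn⟩ := Subgroup.mem_zpowers_iff.mp ((hker (f (w⁻¹ * c))).mp ((πapp _).trans hw1))
    have hn' : h.xbar ^ n = (q (Subgroup.inclusion hCH w))⁻¹ * q (Subgroup.inclusion hCH c) := by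
      rw [← map_inv, ← map_mul, ← map_inv, ← map_mul]; exact hn
    have hww : q (Subgroup.inclusion hCH w) * q (Subgroup.inclusion hCH w) = 1 := by
      rw [← map_mul, ← map_mul, show w * w = 1 from Subtype.ext (by
        show (w : G) * w = 1
        rw [← hcw]
        calc (d : G) * h.zy * (d : G)⁻¹ * ((d : G) * h.zy * (d : G)⁻¹)
            = (d : G) * (h.zy * h.zy) * (d : G)⁻¹ := by group
          _ = 1 := by rw [h.zy_sq]; group), map_one, map_one]
    have hwD : Commute (q (Subgroup.inclusion hCH w)) (h.xbar ^ n) :=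
      (show Commute _ h.xbar from mem_cent.mp (hmemD w)).zpow_right n
    have hce : q (Subgroup.inclusion hCH c) = q (Subgroup.inclusion hCH w) := by
      have hc' : q (Subgroup.inclusion hCH c) = q (Subgroup.inclusion hCH w) * h.xbar ^ n := by
        rw [hn', mul_inv_cancel_left]
      rw [hc', xsq n ?_, mul_one]
      calc h.xbar ^ n * h.xbar ^ n
          = (q (Subgroup.inclusion hCH w) * q (Subgroup.inclusion hCH w)) * (h.xbar ^ n * h.xbar ^ n) := by
            rw [hww, one_mul]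
        _ = (q (Subgroup.inclusion hCH w) * h.xbar ^ n) * (q (Subgroup.inclusion hCH w) * h.xbar ^ n) := by
            rw [mul_assoc (q _) (h.xbar ^ n), ← mul_assoc (h.xbar ^ n) (q _), ← hwD.eq]
            simp only [mul_assoc]
        _ = 1 := by rw [← hc']; exact htt
    refine toQ g (moved (mem_cent.mp c.2) (mem_cent.mp d.2)
      (hcw.symm ▸ (h.q_eq _ _).mp hce.symm) (fun g hg e => h.zy_local ⟨hg, e⟩) g g.2 ?_)
    rw [← map_mul, ← map_mul, h.q_eq] at ha
    have h1 := Eq.mul h (inv_mem g.2) ha (Eq.refl' h (g : G)⁻¹)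
    simpa [mul_assoc] using h1

/-- The group is of Janko-four type at `z`. -/
theorem janko : IsOfJankoFourType G := by
  classical
  obtain ⟨cr⟩ := h.exists_core
  set q := QuotientGroup.mk' (pCore 2 ↥h.H) with hq
  set P := Subgroup.zpowers x with hP
  have hmem : ∀ g : ↥h.H, q g ∈ Subgroup.normalizer ((Subgroup.zpowers h.xbar : Subgroup h.Q) : Set h.Q) :=
    fun g => cr.mem_N.mpr (cr.normal _)
  obtain ⟨θ, -, hθs, hθk⟩ := cr.exists_theta
  let Φ : ↥h.H →* MulAut M := θ.comp (q.codRestrict _ hmem)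
  have hΦs : Function.Surjective Φ := by
    intro a
    obtain ⟨⟨v, hv⟩, rfl⟩ := hθs a
    obtain ⟨g, rfl⟩ := QuotientGroup.mk'_surjective _ v
    exact ⟨g, rfl⟩
  have hΦk : ∀ g, g ∈ Φ.ker ↔ q g ∈ Subgroup.zpowers h.xbar := fun g => hθk _
  set N := Φ.ker.map h.H.subtype with hN
  have hNH : N ≤ h.H := Subgroup.map_subtype_le _
  have hNker : N.subgroupOf h.H = Φ.ker := Subgroup.comap_map_eq_self_of_injective h.H.subtype_injective _
  have hEN : h.E ≤ N := by
    intro e he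
    refine ⟨⟨e, h.E_le_H he⟩, ?_, rfl⟩
    rw [SetLike.mem_coe, hΦk]
    have : q ⟨e, h.E_le_H he⟩ = 1 := by
      rw [← map_one q, h.q_eq]
      show e⁻¹ * (1 : G) ∈ h.E
      rw [mul_one]; exact inv_mem he
    rw [this]; exact one_mem _
  have hPN : P ≤ N := Subgroup.zpowers_le.mpr
    ⟨⟨x, h.x_mem_H⟩, (hΦk _).mpr (Subgroup.mem_zpowers _), rfl⟩
  have hHN : h.H ≤ Subgroup.normalizer (N : Set G) := by
    rw [← Subgroup.normal_subgroupOf_iff_le_normalizer hNH, hNker]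
    exact Φ.normal_ker
  have hcard : Nat.card ↥N = 3 * Nat.card ↥h.E := by
    rw [hN, Subgroup.card_map_of_injective h.H.subtype_injective]
    have hle : pCore 2 ↥h.H ≤ Φ.ker := fun v hv => by
      rw [hΦk, show q v = 1 from (QuotientGroup.eq_one_iff v).mpr hv]; exact one_mem _
    have h1 := Subgroup.card_mul_index ((q.comp Φ.ker.subtype).ker)
    have hran : (q.comp Φ.ker.subtype).range = Subgroup.zpowers h.xbar := by
      ext v
      constructor
      · rintro ⟨g, rfl⟩; exact (hΦk g.1).mp g.2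
      · intro hv
        obtain ⟨g, rfl⟩ := QuotientGroup.mk'_surjective _ v
        exact ⟨⟨g, (hΦk g).mpr hv⟩, rfl⟩
    have hk : (q.comp Φ.ker.subtype).ker = (pCore 2 ↥h.H).subgroupOf Φ.ker := by
      ext g
      rw [MonoidHom.mem_ker, Subgroup.mem_subgroupOf]
      exact QuotientGroup.eq_one_iff _
    have hE : Nat.card ↥h.E = Nat.card ↥(pCore 2 ↥h.H) := Subgroup.card_map_of_injective h.H.subtype_injective
    rw [Subgroup.index_ker, hran, hk, Nat.card_congr (Subgroup.subgroupOfEquivOfLe hle).toEquiv, Nat.card_zpowers,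
      cr.ord, ← hE] at h1
    omega
  have hCP : Subgroup.centralizer (P : Set G) = Subgroup.centralizer ({x} : Set G) := by
    rw [hP, Subgroup.zpowers_eq_closure, Subgroup.centralizer_closure]
  have hCH : h.H ⊓ Subgroup.centralizer (P : Set G) = Subgroup.centralizer ({x} : Set G) := by
    rw [hCP]
    exact inf_eq_right.mpr fun c hc => h.C_le_H (mem_cent.mp hc)
  refine ⟨h.z, P, h.orderOf_z, h.extraspecial, h.card_E, fun g hg => h.cent_E hg.1 (fun e he => (hg.2 e he).symm),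
    ⟨N, hEN, hNH, hHN, hcard, ?_, hPN⟩, by rw [hP, Nat.card_zpowers, h.ord], ?_, ?_, ?_⟩
  · haveI hn : (N.subgroupOf h.H).Normal := hNker ▸ Φ.normal_ker
    exact ⟨hn, ⟨(QuotientGroup.quotientMulEquivOfEq hNker).trans (QuotientGroup.quotientKerEquivOfSurjective Φ hΦs)⟩⟩
  · refine le_antisymm ?_ (Subgroup.zpowers_le.mpr ⟨h.z_mem_E, ?_⟩)
    · rw [hCP]; exact h.inf_cent_x h.E le_rfl
    · rw [hCP]; exact mem_cent.mpr h.zx
  · intro e
    obtain ⟨n, hn, hnz⟩ := h.exists_inv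
    have hnN : n ∈ Subgroup.normalizer (P : Set G) := by
      refine Subgroup.mem_normalizer_iff.mpr fun v => ?_
      have hs : P.map (MulAut.conj n).toMonoidHom = P := by
        rw [hP, MonoidHom.map_zpowers]
        show Subgroup.zpowers (n * x * n⁻¹) = _
        rw [hn]; exact Subgroup.zpowers_inv
      refine ⟨fun hv => hs.le ⟨v, hv, rfl⟩, fun hv => ?_⟩
      obtain ⟨v', hv', e'⟩ := hs.ge hv
      have : v' = v := (MulAut.conj n).injective e'
      exact this ▸ hv'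
    have hm : n ∈ h.H ⊓ Subgroup.centralizer (P : Set G) := e ▸ Subgroup.mem_inf.mpr ⟨h.mem_H.mpr hnz, hnN⟩
    rw [hCH, mem_cent] at hm
    have hxx : x = x⁻¹ := by rw [← hn, hm, mul_inv_cancel_right]
    have h3 := h.x_pow
    rw [pow_succ, pow_two] at h3
    nth_rewrite 2 [hxx] at h3
    rw [mul_inv_cancel, one_mul] at h3
    exact h.x_ne h3
  · show P ≤ ⁅h.H ⊓ Subgroup.centralizer (P : Set G), h.H ⊓ Subgroup.centralizer (P : Set G)⁆
    rw [hCH]
    set C := Subgroup.centralizer ({x} : Set G)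
    have hCC : ⁅C, C⁆ = C := by
      have := congrArg (Subgroup.map C.subtype) h.perf
      rwa [Subgroup.map_commutator, ← MonoidHom.range_eq_map, Subgroup.range_subtype] at this
    rw [hCC]
    exact Subgroup.zpowers_le.mpr (mem_cent.mpr rfl)

end Hyp

end CfsgLib.JankoSix
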